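import Groth.Agent.GrpdLib.CoequalizerMono
import Groth.Agent.GrpdLib.FppfQuot

/-!
# Quotients of finite locally free equivalence relations on schemes
-/

set_option autoImplicit false

universe u

open CategoryTheory Limits AlgebraicGeometry
open Groth.Agent.GrpdLib

namespace Groth.Agent.Stk19b.FlfQuot

set_option maxHeartbeats 800000

variable {S : Scheme.{u}} (G : Grpd.GroupoidScheme S)

theorem mono_j_of_isEqvRel
    (heq : AlgSp.IsEqvRel (Over.homMk G.s G.s_over : Over.mk G.pR ⟶ Over.mk G.pU)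
      (Over.homMk G.t G.t_over : Over.mk G.pR ⟶ Over.mk G.pU)) : Mono G.j := by
  refine ⟨fun {T} a b h => ?_⟩
  have ht : a ≫ G.t = b ≫ G.t := by
    have := congrArg (· ≫ pullback.fst _ _) h
    simpa [Grpd.GroupoidScheme.j, pullback.lift_fst] using this
  have hs : a ≫ G.s = b ≫ G.s := by
    have := congrArg (· ≫ pullback.snd _ _) h
    simpa [Grpd.GroupoidScheme.j, pullback.lift_snd] using this
  have hp : b ≫ G.pR = a ≫ G.pR := by
    rw [← G.t_over, ← Category.assoc, ← ht, Category.assoc]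
  exact congrArg CommaMorphism.left (heq.injective (Over.mk (a ≫ G.pR)) (Over.homMk a) (Over.homMk b hp)
    (Over.OverMorphism.ext ht) (Over.OverMorphism.ext hs))

theorem orbitsInAffines_of_closed [IsFinite G.s] [Flat G.s] [LocallyOfFinitePresentation G.s]
    (h3 : ∀ Z : Set ↥G.U, IsClosed Z → Z.Nonempty →
      ∃ u ∈ Z, ∃ W : G.U.Opens, IsAffineOpen W ∧ ∀ r : ↥G.R, G.s r = u → G.t r ∈ W) :
    OrbitsInAffines G := by
  let good : Set ↥G.U := {x | ∃ V : G.U.Opens, IsAffineOpen V ∧ ∀ r : ↥G.R, G.s r = x → G.t r ∈ V}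
  have hgood : IsOpen good := by
    refine isOpen_iff_forall_mem_open.2 fun x ⟨V, hV, hx⟩ => ?_
    obtain ⟨W, hW, hxW, -, hinv⟩ := exists_invariant_affine G x V hV hx
    refine ⟨W, fun y hy => ⟨W, hW, fun r hr => ?_⟩, W.isOpen, hxW⟩
    have : r ∈ G.t ⁻¹ᵁ W := hinv ▸ (show r ∈ G.s ⁻¹ᵁ W from (congrArg (· ∈ W) hr).mpr hy)
    exact this
  have huniv : good = Set.univ := by
    by_contra hne
    obtain ⟨u, hu, W, hW, hr⟩ := h3 goodᶜ hgood.isClosed_compl (Set.nonempty_compl.2 hne)
    exact hu ⟨W, hW, hr⟩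
  intro x
  obtain ⟨V, hV, hx⟩ := (huniv.symm ▸ Set.mem_univ x : x ∈ good)
  exact ⟨V, hV, by rintro _ ⟨r, hr, rfl⟩; exact hx r hr⟩

/-- The quotient of a finite locally free equivalence relation with orbits in affines. -/
theorem exists_quotient [IsFinite G.s] [Flat G.s] [LocallyOfFinitePresentation G.s] [Mono G.j]
    (hb : OrbitsInAffines G) :
    ∃ (M : Over S) (m : Over.mk G.pU ⟶ M), Mor2.IsFinLocFree m.left ∧ Surjective m.left ∧
      IsPullback G.t G.s m.left m.left ∧
      QuotSh.IsQuotient Scheme.fppfPrecoverage (Over.homMk G.s G.s_over : Over.mk G.pR ⟶ Over.mk G.pU)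
        (Over.homMk G.t G.t_over : Over.mk G.pR ⟶ Over.mk G.pU) m := by
  obtain ⟨hc⟩ := isColimit_proj hb
  let g := Cofork.IsColimit.desc hc G.pU (G.t_over.trans G.s_over.symm)
  have hg : proj hb ≫ g = G.pU := Cofork.IsColimit.π_desc' hc _ _
  let m : Over.mk G.pU ⟶ Over.mk g := Over.homMk (proj hb) hg
  obtain ⟨h1, h2, h3⟩ := finLocFree_proj hb
  have := surjective_proj hb
  refine ⟨Over.mk g, m, finLocFree_proj hb, surjective_proj hb, isPullback_arrows hb, ?_⟩
  haveI : Flat m.left := h2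
  haveI : LocallyOfFinitePresentation m.left := h3
  haveI : Surjective m.left := surjective_proj hb
  exact isQuotient_of_isPullback _ _ m (IsPullback.of_map (Over.forget S)
    (Over.OverMorphism.ext (cond_proj hb)) (isPullback_arrows hb))

end Groth.Agent.Stk19b.FlfQuot
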