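import Groth.Agent.Stk19b.FlfQuot
import Groth.Agent.Stk19b.Fppf.Basic
import Groth.Agent.SGA3cLib.ActionPoints

/-!
# Free actions give equivalence relations
-/

set_option autoImplicit false

universe u

open CategoryTheory Limits MonoidalCategory CartesianMonoidalCategory MonObj GrpObj AlgebraicGeometry
open Groth.Agent.SGA3cLib

namespace Groth.Agent.Stk19b.FreeQuot

variable {S : Scheme.{u}} {G X : Over S} [GrpObj G] (a : AlgGrp.Action G X)

theorem act_eq {T : Over S} (r : T ⟶ G ⊗ X) : r ≫ a.act = smulPt a (r ≫ fst G X) (r ≫ snd G X) := by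
  rw [smulPt, ← comp_lift, lift_fst_snd, Category.comp_id]

theorem isEqvRel_free
    (hfree : ∀ (T : Over S) (g : T ⟶ G) (x : T ⟶ X), lift g x ≫ a.act = x → g = toUnit T ≫ η[G]) :
    AlgSp.IsEqvRel (snd G X) a.act := by
  refine ⟨fun T r r' h1 h2 => ?_, fun T => ⟨fun x => ?_, ?_, ?_⟩⟩
  · rw [act_eq, act_eq, h2] at h1
    have h3 := congrArg (smulPt a (r' ≫ fst G X)⁻¹) h1
    rw [← mul_smulPt, inv_smulPt] at h3
    have h4 : (r' ≫ fst G X)⁻¹ * (r ≫ fst G X) = 1 := hfree T _ _ h3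
    rw [inv_mul_eq_one] at h4
    exact CartesianMonoidalCategory.hom_ext _ _ h4.symm h2
  · exact ⟨lift 1 x, one_smulPt a x, lift_snd _ _⟩
  · rintro x y ⟨r, rfl, rfl⟩
    refine ⟨lift (r ≫ fst G X)⁻¹ (r ≫ a.act), ?_, lift_snd _ _⟩
    show smulPt a (r ≫ fst G X)⁻¹ (r ≫ a.act) = r ≫ snd G X
    rw [act_eq, inv_smulPt]
  · rintro x y z ⟨r, rfl, rfl⟩ ⟨r', h', rfl⟩
    refine ⟨lift ((r ≫ fst G X) * (r' ≫ fst G X)) (r' ≫ snd G X), ?_, lift_snd _ _⟩
    show smulPt a ((r ≫ fst G X) * (r' ≫ fst G X)) (r' ≫ snd G X) = r ≫ a.act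
    rw [mul_smulPt, ← act_eq, h', ← act_eq]

theorem isPullback_tensor (G X : Over S) :
    IsPullback (fst G X).left (snd G X).left G.hom X.hom :=
  IsPullback.of_hasPullback G.hom X.hom

end Groth.Agent.Stk19b.FreeQuot
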