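import Groth.Agent.Stk19b.InvSub
import Groth.Agent.Props12.KerReduced
import Groth.Agent.AlgSpLib.Pres
import Groth.Agent.AlgSpLib.PointsTop
import Groth.Agent.S7179
import Groth.Prelude.Def_AlgSpSub

/-!
# Existence of the reduced induced closed subspace
-/

set_option autoImplicit false
set_option backward.isDefEq.respectTransparency.types false

universe u

open CategoryTheory CategoryTheory.Limits AlgebraicGeometry TopologicalSpace
open Groth.Agent.AlgSpLib AlgSp

namespace Groth.Agent.Stk19b.RedInd

set_option maxHeartbeats 800000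

theorem exists_iso_of_range_eq {A B R : Scheme.{u}} (a : A ⟶ R) (b : B ⟶ R) [IsClosedImmersion a]
    [IsClosedImmersion b] [IsReduced A] [IsReduced B] (h : Set.range a = Set.range b) :
    ∃ e : A ≅ B, e.hom ≫ b = a := by
  have hk : a.ker = b.ker := by
    rw [Props12.ker_eq_vanishingIdeal, Props12.ker_eq_vanishingIdeal]
    congr 1
    exact Closeds.ext (congrArg closure h)
  refine ⟨⟨IsClosedImmersion.lift b a hk.ge, IsClosedImmersion.lift a b hk.le, ?_, ?_⟩,
    IsClosedImmersion.lift_fac _ _ _⟩
  · rw [← cancel_mono a, Category.assoc, IsClosedImmersion.lift_fac, IsClosedImmersion.lift_fac,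
      Category.id_comp]
  · rw [← cancel_mono b, Category.assoc, IsClosedImmersion.lift_fac, IsClosedImmersion.lift_fac,
      Category.id_comp]

variable {S : Scheme.{u}}

theorem exists_isRedInduced (X : AlgSp.Space S) (T : Set (AlgSp.Points X.obj)) (hT : IsClosed T) :
    ∃ (Z : AlgSp.Space S) (i : Z ⟶ X), AlgSp.IsRedInduced T i.hom := by
  obtain ⟨hd, U, p, hpe, hps⟩ := X.property
  obtain ⟨R, s, t, sq⟩ : ∃ (R : Over S) (s t : R ⟶ U),
      IsPullback ((yon S).map t) ((yon S).map s) p p :=
    ⟨hpe.1.pullback p, hpe.1.snd p, hpe.1.fst' p, hpe.1.isPullback' p⟩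
  have hp : IsPresentation s t p := isPresentation_of_isPullback hpe hps sq
  have hset : IsClosed (Points.ofPt p ⁻¹' T) := hT.preimage (Points.continuous_ofPt p)
  let I := Scheme.IdealSheafData.vanishingIdeal (⟨_, hset⟩ : Closeds ↥U.left)
  let i' : Over.mk (I.subschemeι ≫ U.hom) ⟶ U := Over.homMk I.subschemeι
  have hi' : Set.range I.subschemeι = Points.ofPt p ⁻¹' T := by
    rw [Scheme.IdealSheafData.range_subschemeι]
    rfl
  have hred : IsReduced I.subscheme := Props12.isReduced_subscheme_vanishingIdeal _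
  have := hp.eqvRel.etale_left
  have := hp.eqvRel.etale_right
  have := S7179.result (pullback.snd s.left I.subschemeι)
  have := S7179.result (pullback.snd t.left I.subschemeι)
  have hrange : Set.range (pullback.fst s.left I.subschemeι) = Set.range (pullback.fst t.left I.subschemeι) := by
    rw [Scheme.Pullback.range_fst, Scheme.Pullback.range_fst, hi']
    ext r
    show Points.ofPt p (s.left r) ∈ T ↔ Points.ofPt p (t.left r) ∈ T
    rw [(ofPt_eq_ofPt_iff sq (t.left r) (s.left r)).2 ⟨r, rfl, rfl⟩]
  obtain ⟨e, he⟩ := exists_iso_of_range_eq (pullback.fst s.left I.subschemeι)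
    (pullback.fst t.left I.subschemeι) hrange
  let R' : Over S := Over.mk (pullback.fst s.left I.subschemeι ≫ R.hom)
  let k : R' ⟶ R := Over.homMk (pullback.fst s.left I.subschemeι)
  let s' : R' ⟶ Over.mk (I.subschemeι ≫ U.hom) := Over.homMk (pullback.snd s.left I.subschemeι) (by
    show _ ≫ I.subschemeι ≫ U.hom = _ ≫ R.hom
    rw [← pullback.condition_assoc, Over.w])
  let t' : R' ⟶ Over.mk (I.subschemeι ≫ U.hom) := Over.homMk (e.hom ≫ pullback.snd t.left I.subschemeι) (by
    show (e.hom ≫ _) ≫ I.subschemeι ≫ U.hom = _ ≫ R.hom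
    rw [Category.assoc, ← pullback.condition_assoc, Over.w, ← Category.assoc, he])
  have ht : IsPullback k.left t'.left t.left i'.left :=
    (IsPullback.of_hasPullback t.left I.subschemeι).of_iso e.symm (Iso.refl _) (Iso.refl _) (Iso.refl _)
      (by simp [k, ← he]) (by simp [t']) (by simp) (by simp [i'])
  have : IsImmersion i'.left := inferInstanceAs (IsImmersion I.subschemeι)
  obtain ⟨F, hF, j, q, -, hsq, hc, -⟩ := InvSub.repWith_immersion_of_desc (i := i') (k := k) (s' := s')
    (t' := t') hp
    (IsPullback.of_map (Over.forget S) (Over.OverMorphism.ext pullback.condition)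
      (IsPullback.of_hasPullback s.left I.subschemeι))
    (IsPullback.of_map (Over.forget S) (Over.OverMorphism.ext ht.w) ht)
  have hqe : RepWith @Etale q := RepWith.baseChange hsq.flip hpe
  have hqs : RepWith @Surjective q := RepWith.baseChange hsq.flip hps
  refine ⟨⟨F, hF⟩, ObjectProperty.homMk j, hc (inferInstanceAs (IsClosedImmersion I.subschemeι)), ?_,
    ⟨_, q, hqe, hqs, hred⟩⟩
  have key : ∀ z, Points.map j (Points.ofPt q z) = Points.ofPt p (I.subschemeι z) := fun z => by
    rw [Points.map_ofPt, hsq.w, ← Points.map_ofPt, Points.ofPt_eq_map_ofScheme p]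
    congr 1
    apply (Points.schemeEquiv U).symm.injective
    simp only [Points.schemeEquiv, Equiv.coe_fn_symm_mk]
    rw [Points.toScheme_ofPt, Points.toScheme_ofScheme]
    rfl
  ext x
  constructor
  · rintro ⟨y, rfl⟩
    obtain ⟨z, rfl⟩ := surjective_ofPt q hqs y
    show Points.map j (Points.ofPt q z) ∈ T
    rw [key]
    exact hi'.subset ⟨z, rfl⟩
  · intro hx
    obtain ⟨u, rfl⟩ := surjective_ofPt p hps x
    obtain ⟨z, hz⟩ : u ∈ Set.range I.subschemeι := hi'.symm.subset hx
    exact ⟨Points.ofPt q z, by rw [← hz]; exact key z⟩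

end Groth.Agent.Stk19b.RedInd
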