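import Groth.Agent.AlgSpLib.DenseScheme
import Groth.Agent.AlgSpLib.MorMore3
import Groth.Agent.AlgSpLib.DiagCrit

/-!
# Zariski local quasi-separatedness through quasi-compact affine charts
-/

set_option autoImplicit false
set_option backward.isDefEq.respectTransparency.types false

universe u

open CategoryTheory CategoryTheory.Limits AlgebraicGeometry
open Groth.Agent.AlgSpLib AlgSp

namespace Groth.Agent.Stk19b.ZarQs

variable {S : Scheme.{u}} {X Y : AlgSp.Sp S}

theorem isQuasiSeparatedSp_of_mono (i : Y ⟶ X) [Mono i] (h : IsQuasiSeparatedSp X) :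
    IsQuasiSeparatedSp Y := by
  have sq : IsPullback i (Limits.diag Y) (Limits.diag X) (prod.map i i) := by
    refine ⟨⟨by apply Limits.prod.hom_ext <;> simp [prod.lift_fst, prod.lift_snd]⟩,
      ⟨PullbackCone.IsLimit.mk _ (fun c => c.snd ≫ prod.fst) (fun c => ?_) (fun c => ?_)
        (fun c m h1 h2 => ?_)⟩⟩
    · have := congrArg (· ≫ prod.fst) c.condition
      simp [prod.lift_fst] at this
      simpa using this.symm
    · have h1 := congrArg (· ≫ prod.fst) c.condition
      have h2 := congrArg (· ≫ prod.snd) c.condition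
      simp [prod.lift_fst, prod.lift_snd] at h1 h2
      have e : c.snd ≫ prod.fst = c.snd ≫ prod.snd := by
        rw [← cancel_mono i, Category.assoc, Category.assoc, ← h1, ← h2]
      apply Limits.prod.hom_ext
      · simp [prod.lift_fst]
      · simpa [prod.lift_snd] using e
    · rw [← h2]
      simp [prod.lift_fst]
  exact RepWith.baseChange sq h

theorem quasiCompact_of_chart (hY : IsAlgSpace Y) (hqs : IsQuasiSeparatedSp Y) {U : Over S} [IsAffine U.left]
    (p : (yon S).obj U ⟶ Y) (he : RepWith @Etale p) (hs : RepWith @Surjective p)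
    {V : S.Opens} (hV : IsAffineOpen V) (hU : ∀ v : ↥U.left, U.hom v ∈ V) : RepWith @QuasiCompact p := by
  obtain ⟨t, ht⟩ := (yon S).map_surjective (he.1.fst p)
  let s := he.1.snd p
  have sqR : IsPullback ((yon S).map t) ((yon S).map s) p p := ht ▸ he.1.isPullback p
  have := compactSpace_arrows hqs hV (by rintro _ ⟨v, rfl⟩; exact hU v) p sqR
  have : QuasiCompact s.left := by
    have : QuasiCompact (s.left ≫ terminal.from _) := by
      rw [terminal.comp_from]
      exact HasAffineProperty.iff_of_isAffine.mpr this
    exact QuasiCompact.of_comp s.left (terminal.from _)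
  have hqc : QuasiCompact s.left := this
  have := isLocallySurjective_of_etale he hs
  exact repWith_of_isLocallySurjective he.1 p sqR @QuasiCompact ((repWith_yon_map_iff _ s).2 hqc)

theorem isQuasiSeparatedSp_of_affine_chart (hY : IsAlgSpace Y) {U : Over S} [IsAffine U.left]
    (p : (yon S).obj U ⟶ Y) (hq : RepWith @QuasiCompact p) (he : RepWith @Etale p)
    (hs : RepWith @Surjective p) : IsQuasiSeparatedSp Y := by
  obtain ⟨t, ht⟩ := (yon S).map_surjective (he.1.fst p)
  let s := he.1.snd p
  have sqR : IsPullback ((yon S).map t) ((yon S).map s) p p := ht ▸ he.1.isPullback p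
  have : QuasiCompact t.left := hq.property _ _ _ sqR.flip
  exact isQuasiSeparatedSp_of_chart hY p he hs s t sqR

end Groth.Agent.Stk19b.ZarQs
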