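import Mathlib.AlgebraicGeometry.Morphisms.Finite
import Mathlib.AlgebraicGeometry.Morphisms.Immersion
import Mathlib.AlgebraicGeometry.Morphisms.Separated
import Mathlib.AlgebraicGeometry.Morphisms.UniversallyClosed
import Mathlib.AlgebraicGeometry.Morphisms.QuasiSeparated

/-!
# Separation properties pass to targets of surjective integral / qc morphisms
-/

set_option autoImplicit false

universe u

open CategoryTheory Limits AlgebraicGeometry

namespace Groth.Agent.Stk19b.SepQuot

variable {U M T : Scheme.{u}} (m : U ⟶ M) (h : M ⟶ T)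

/-- `m ×_T m`. -/
noncomputable def sq : pullback (m ≫ h) (m ≫ h) ⟶ pullback h h :=
  pullback.lift (pullback.fst (m ≫ h) (m ≫ h) ≫ m) (pullback.snd (m ≫ h) (m ≫ h) ≫ m)
    (by simp [pullback.condition])

theorem diag_sq : pullback.diagonal (m ≫ h) ≫ sq m h = m ≫ pullback.diagonal h := by
  apply pullback.hom_ext <;> simp [sq, pullback.lift_fst, pullback.lift_snd]

theorem sq_prop (P : MorphismProperty Scheme.{u}) [P.IsStableUnderBaseChange] [P.IsStableUnderComposition]
    (hm : P m) : P (sq m h) := by
  let a : pullback (m ≫ h) (m ≫ h) ⟶ pullback h (m ≫ h) :=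
    pullback.lift (pullback.fst (m ≫ h) (m ≫ h) ≫ m) (pullback.snd (m ≫ h) (m ≫ h)) (by simp [pullback.condition])
  let b : pullback h (m ≫ h) ⟶ pullback h h :=
    pullback.lift (pullback.fst h (m ≫ h)) (pullback.snd h (m ≫ h) ≫ m) (by simp [pullback.condition])
  have e : sq m h = a ≫ b := by
    apply pullback.hom_ext <;> simp [sq, a, b, pullback.lift_fst, pullback.lift_snd, pullback.lift_fst_assoc, pullback.lift_snd_assoc]
  rw [e]
  refine P.comp_mem _ _ ?_ ?_
  · refine MorphismProperty.of_isPullback (P := P) (f' := pullback.fst (m ≫ h) (m ≫ h)) (g' := a) (g := m)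
      (f := pullback.fst h (m ≫ h)) ?_ hm
    refine IsPullback.of_bot (v₂₁ := pullback.snd h (m ≫ h)) (v₂₂ := h) ?_ (by simp [a, pullback.lift_fst])
      (IsPullback.of_hasPullback h (m ≫ h))
    simpa [a, pullback.lift_snd] using IsPullback.of_hasPullback (m ≫ h) (m ≫ h)
  · refine MorphismProperty.of_isPullback (P := P) (f' := pullback.snd h (m ≫ h)) (g' := b) (g := m)
      (f := pullback.snd h h) ?_ hm
    refine IsPullback.of_bot (v₂₁ := pullback.fst h h) (v₂₂ := h) ?_ (by simp [b, pullback.lift_snd])
      (IsPullback.of_hasPullback h h).flip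
    simpa [b, pullback.lift_fst] using (IsPullback.of_hasPullback h (m ≫ h)).flip

theorem isSeparated_of_comp [Surjective m] [UniversallyClosed m] [IsSeparated (m ≫ h)] :
    IsSeparated h := by
  refine ⟨IsClosedImmersion.of_isPreimmersion _ ?_⟩
  have hc : IsClosedMap (sq m h) := by
    have : UniversallyClosed (sq m h) := sq_prop m h @UniversallyClosed inferInstance
    exact (sq m h).isClosedMap
  have hr : Set.range (m ≫ pullback.diagonal h) = Set.range (pullback.diagonal h) := by
    rw [Scheme.Hom.comp_base, TopCat.coe_comp, Set.range_comp, m.surjective.range_eq, Set.image_univ]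
  rw [← hr, ← diag_sq, Scheme.Hom.comp_base, TopCat.coe_comp, Set.range_comp]
  exact hc _ (pullback.diagonal (m ≫ h)).isClosedEmbedding.isClosed_range

theorem quasiSeparated_of_comp [Surjective m] [QuasiCompact m] [QuasiSeparated (m ≫ h)] :
    QuasiSeparated h := by
  refine ⟨(quasiCompact_iff _).2 fun K hK hK' => ?_⟩
  have : QuasiCompact (sq m h) := sq_prop m h @QuasiCompact inferInstance
  have hc : QuasiCompact (m ≫ pullback.diagonal h) := by
    rw [← diag_sq]; infer_instance
  have := (quasiCompact_iff _).1 hc K hK hK'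
  rw [Scheme.Hom.comp_base, TopCat.coe_comp, Set.preimage_comp] at this
  have h2 := this.image m.continuous
  rwa [Set.image_preimage_eq _ m.surjective] at h2

end Groth.Agent.Stk19b.SepQuot
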