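import Groth.Agent.Stk19b.QPullEt
import Mathlib.CategoryTheory.Limits.Preserves.Shapes.Pullbacks

/-!
Inverse image of modules along a representable etale morphism is restriction.
-/

set_option autoImplicit false
set_option backward.isDefEq.respectTransparency false

universe u

open CategoryTheory CategoryTheory.Limits AlgebraicGeometry Opposite
open AlgSp

noncomputable section

namespace Groth.Agent.Stk19b.QPullEtale

section General

variable {C : Type*} [Category C] {D : Type*} [Category D]
  {J : GrothendieckTopology C} {K : GrothendieckTopology D} {F : C ⥤ D}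
  {S : Sheaf J RingCat.{u}} {R : Sheaf K RingCat.{u}} [F.IsContinuous J K]
  (φ : S ⟶ (F.sheafPushforwardContinuous RingCat.{u} J K).obj R)

/-- Direct image of sheaves of modules is left exact. -/
theorem preservesFiniteLimits_pushforward :
    PreservesFiniteLimits (SheafOfModules.pushforward.{u} φ) where
  preservesFiniteLimits L _ _ := by
    have h : PreservesLimitsOfShape L (SheafOfModules.pushforward.{u} φ ⋙
        SheafOfModules.forget S ⋙ PresheafOfModules.toPresheaf S.obj) := by
      have : PreservesLimitsOfShape L ((SheafOfModules.forget R ⋙ PresheafOfModules.toPresheaf R.obj) ⋙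
          (Functor.whiskeringLeft _ _ AddCommGrpCat.{u}).obj F.op) := inferInstance
      exact preservesLimitsOfShape_of_natIso (Iso.refl _ : (SheafOfModules.forget R ⋙
        PresheafOfModules.toPresheaf R.obj) ⋙ (Functor.whiskeringLeft _ _ AddCommGrpCat.{u}).obj F.op ≅ _)
    have : ReflectsLimitsOfShape L (SheafOfModules.forget S ⋙ PresheafOfModules.toPresheaf S.obj) :=
      reflectsLimitsOfShape_of_reflectsIsomorphisms
    exact preservesLimitsOfShape_of_reflects_of_preserves _
      (SheafOfModules.forget S ⋙ PresheafOfModules.toPresheaf S.obj)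

end General

variable {S : Scheme.{u}} {X Y : Sp S} {f : X ⟶ Y} (hf : Representable f) (hfe : IsEtaleMor f)

instance postcomp_isContinuous : (EtOver.postcomp f hfe).IsContinuous (etTop X) (etTop Y) := by
  have : PreservesLimitsOfShape WalkingCospan (EtOver.postcomp f hfe) := by
    have key : ∀ {E₁ E₂ E₀ : EtOver X} (g₁ : E₁ ⟶ E₀) (g₂ : E₂ ⟶ E₀),
        PreservesLimit (cospan g₁ g₂) (EtOver.postcomp f hfe) := fun g₁ g₂ ↦ by
      have c : (EtOver.postcomp f hfe).map (EtOver.pullbackFst g₁ g₂) ≫ (EtOver.postcomp f hfe).map g₁ =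
          (EtOver.postcomp f hfe).map (EtOver.pullbackSnd g₁ g₂) ≫ (EtOver.postcomp f hfe).map g₂ := by
        rw [← Functor.map_comp, ← Functor.map_comp, EtOver.pullback_condition]
      have sq : IsPullback ((EtOver.postcomp f hfe).map (EtOver.pullbackFst g₁ g₂))
          ((EtOver.postcomp f hfe).map (EtOver.pullbackSnd g₁ g₂))
          ((EtOver.postcomp f hfe).map g₁) ((EtOver.postcomp f hfe).map g₂) :=
        IsPullback.of_map (EtOver.forget Y) c (IsPullback.of_hasPullback g₁.hom.left g₂.hom.left)
      exact preservesLimit_of_preserves_limit_cone (EtOver.pullbackIsLimit g₁ g₂)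
        ((isLimitMapConePullbackConeEquiv _ _).symm sq.isLimit)
    refine ⟨fun {K} => ?_⟩
    have := key (K.map WalkingCospan.Hom.inl) (K.map WalkingCospan.Hom.inr)
    exact preservesLimit_of_iso_diagram _ (diagramIsoCospan K).symm
  change (EtOver.postcomp f hfe).IsContinuous (etPre X).toGrothendieck (etPre Y).toGrothendieck
  refine Functor.isContinuous_toGrothendieck_of_pullbacksPreservedBy _ _ _ ?_
  intro E R hR
  obtain ⟨ι, Z, g, rfl⟩ := R.exists_eq_ofArrows
  rw [Precoverage.mem_comap_iff, Presieve.map_ofArrows]
  exact (ofArrows_mem_etPre_iff _ _).2 ((ofArrows_mem_etPre_iff Z g).1 hR)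

/-- The forgetful functor of the small etale sites is left adjoint to base change. -/
def postcompBcAdj : EtOver.postcomp f hfe ⊣ EtOver.bc hf :=
  Adjunction.mkOfHomEquiv
    { homEquiv := fun E E' ↦
        { toFun := fun g ↦ EtOver.homMk (hf.lift E.obj.hom g.hom.left (EtOver.w g).symm)
            (hf.lift_fst _ _ _)
          invFun := fun m ↦ EtOver.homMk (m.hom.left ≫ hf.snd E'.obj.hom) (by
            change _ = E.obj.hom ≫ f
            rw [Functor.map_comp, Category.assoc, ← hf.w, ← Category.assoc]
            exact congrArg (· ≫ f) (EtOver.w m))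
          left_inv := fun g ↦ EtOver.hom_ext _ _ (hf.lift_snd _ _ _)
          right_inv := fun m ↦ Stk19b.QPullEt.bc_hom_ext hf (hf.lift_snd _ _ _) }
      homEquiv_naturality_left_symm := fun h g ↦ EtOver.hom_ext _ _ (Category.assoc _ _ _)
      homEquiv_naturality_right := fun {E E' E''} g h ↦ Stk19b.QPullEt.bc_hom_ext hf (by
        change hf.lift _ (g.hom.left ≫ h.hom.left) _ ≫ _ =
          (hf.lift _ g.hom.left _ ≫ (EtOver.bcMap hf h).hom.left) ≫ _
        rw [hf.lift_snd, Category.assoc, EtOver.bcMap_snd, ← Category.assoc, hf.lift_snd]) }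

/-- The structure sheaf of `X` is the restriction of that of `Y`. -/
def postcompRingHom : OEtRing X ⟶
    ((EtOver.postcomp f hfe).sheafPushforwardContinuous RingCat.{u + 1} (etTop X) (etTop Y)).obj
      (OEtRing Y) :=
  ObjectProperty.homMk
    { app := fun E ↦ 𝟙 _
      naturality := fun E E' g ↦ (Category.comp_id _).trans (Category.id_comp _).symm }

/-- Restriction of modules is left adjoint to the direct image. -/
def restrictPushAdj :
    SheafOfModules.pushforward.{u + 1} (postcompRingHom hfe) ⊣
      SheafOfModules.pushforward.{u + 1} (bcRingHom hf) :=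
  SheafOfModules.pushforwardPushforwardAdj (postcompBcAdj hf hfe) _ _
    (by
      ext E : 2
      change (BigSite.ORing Scheme.etalePrecoverage S).obj.map
        (((postcompBcAdj hf hfe).counit.app E.unop).hom.left).op = _ ≫ 𝟙 _
      rw [Category.comp_id]
      change _ = (BigSite.ORing Scheme.etalePrecoverage S).obj.map (hf.snd E.unop.obj.hom).op
      congr 2)
    (by
      ext E : 2
      change 𝟙 _ ≫ (BigSite.ORing Scheme.etalePrecoverage S).obj.map
          (hf.snd (((EtOver.postcomp f hfe).obj E.unop).obj.hom)).op ≫
        (BigSite.ORing Scheme.etalePrecoverage S).obj.map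
          (((postcompBcAdj hf hfe).unit.app E.unop).hom.left).op = 𝟙 _
      rw [Category.id_comp, ← Functor.map_comp, ← op_comp]
      refine (congrArg (fun k ↦ (BigSite.ORing Scheme.etalePrecoverage S).obj.map (Quiver.Hom.op k))
        (hf.lift_snd _ _ _)).trans ?_
      exact (BigSite.ORing Scheme.etalePrecoverage S).obj.map_id _)

end Groth.Agent.Stk19b.QPullEtale
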