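import Groth.Agent.AlgSpLib.UnivClosedQC

/-!
Universally closed morphisms of algebraic spaces are quasi-compact.
-/

set_option autoImplicit false
set_option backward.isDefEq.respectTransparency false

universe u

open CategoryTheory CategoryTheory.Limits AlgebraicGeometry Topology AlgSp MvPolynomial

noncomputable section

namespace Groth.Agent.Stk19b.UnivClosedQcSp

open AlgSpLib

variable {S : Scheme.{u}}

theorem compactSpace_of_univClosed_affine {P : Sp S} (hP : IsAlgSpace P) {A : CommRingCat.{u}}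
    (str : Spec A ⟶ S) (snd : P ⟶ (yon S).obj (Over.mk str)) (h : IsUnivClosedMor snd) :
    CompactSpace (Points P) := by
  classical
  obtain ⟨U, p, he, hs⟩ := hP.atlas
  refine ⟨isCompact_of_finite_subcover fun {ι} O hO hcov => ?_⟩
  choose idx hidx using fun x => Set.mem_iUnion.1 (hcov (Set.mem_univ x))
  have covU : ∀ x, ∃ w : ↥U.left, x ∈ O (idx (Points.ofPt p w)) := fun x => by
    obtain ⟨w, rfl⟩ := surjective_ofPt p hs x
    exact ⟨w, hidx _⟩
  let I : Type u := ↥U.left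
  let O' : I → Set (Points P) := fun w => O (idx (Points.ofPt p w))
  suffices ∃ σ : Finset I, ∀ x, ∃ w ∈ σ, x ∈ O' w by
    obtain ⟨σ, hσ⟩ := this
    refine ⟨σ.image fun w => idx (Points.ofPt p w), fun x _ => ?_⟩
    obtain ⟨w, hw, hx⟩ := hσ x
    exact Set.mem_biUnion (Finset.mem_image_of_mem _ hw) hx
  -- the affine space over `A` on the chosen cover
  let T : Over S := polyOver str I
  let Q := pullback snd ((yon S).map (polyHom str I))
  let q : Q ⟶ P := pullback.fst _ _
  let qs : Q ⟶ (yon S).obj T := pullback.snd _ _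
  have sq : IsPullback q qs snd ((yon S).map (polyHom str I)) := IsPullback.of_hasPullback _ _
  let eT := Points.schemeHomeo T
  let D : I → Set ↥T.left := fun i => {t | X i ∉ t.asIdeal}
  have hD : ∀ i, IsOpen (D i) := fun i => (PrimeSpectrum.basicOpen (X i)).isOpen
  let Z : Set (Points Q) := (⋃ i, Points.map qs ⁻¹' (eT '' D i) ∩ Points.map q ⁻¹' O' i)ᶜ
  have hZ : IsClosed Z := isClosed_compl_iff.2 <| isOpen_iUnion fun i =>
    ((eT.isOpenMap _ (hD i)).preimage (Points.continuous_map qs)).inter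
      ((hO _).preimage (Points.continuous_map q))
  have hC : IsClosed (eT ⁻¹' (Points.map qs '' Z)) :=
    ((h (IsAlgSpace.yon_obj T) _ _ _ sq) Z hZ).preimage eT.continuous
  let ψ : MvPolynomial I A →+* A := (MvPolynomial.aeval fun _ : I => (1 : A)).toRingHom
  let t : PrimeSpectrum A → PrimeSpectrum (MvPolynomial I A) := PrimeSpectrum.comap ψ
  have hcomap : ∀ (χ : MvPolynomial I A →+* A) (_ : ∀ r, χ (C r) = r) (τ : PrimeSpectrum A),
      PrimeSpectrum.comap (C : A →+* MvPolynomial I A) (PrimeSpectrum.comap χ τ) = τ := fun χ hχ τ => by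
    ext r
    show χ (C r) ∈ τ.asIdeal ↔ r ∈ τ.asIdeal
    rw [hχ]
  have hlift : ∀ (t' : ↥T.left) (x : Points P),
      Points.map snd x = Points.ofScheme (Over.mk str) ((polyHom str I).left t') →
        ∃ z : Points Q, Points.map q z = x ∧ Points.map qs z = eT t' := fun t' x hx =>
    exists_point_of_isPullback sq (hx.trans (map_yon_map_ofScheme (polyHom str I) t').symm)
  have key : ∀ τ : PrimeSpectrum A, ∃ (σ : Finset I) (V : Set (PrimeSpectrum A)), IsOpen V ∧ τ ∈ V ∧
      ∀ τ' ∈ V, ∀ x, Points.map snd x = Points.ofScheme (Over.mk str) τ' → ∃ w ∈ σ, x ∈ O' w := by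
    intro τ
    have htC : t τ ∉ eT ⁻¹' (Points.map qs '' Z) := by
      rintro ⟨z, hz, hzt⟩
      obtain ⟨w, hw⟩ := covU (Points.map q z)
      refine hz (Set.mem_iUnion.2 ⟨w, ⟨t τ, ?_, hzt.symm⟩, hw⟩)
      show ψ (X w) ∉ τ.asIdeal
      simpa [ψ] using τ.asIdeal.ne_top_iff_one.1 τ.isPrime.ne_top
    obtain ⟨_, ⟨g, rfl⟩, htg, hgC⟩ :=
      PrimeSpectrum.isTopologicalBasis_basic_opens.exists_subset_of_mem_open htC hC.isOpen_compl
    refine ⟨g.vars, PrimeSpectrum.basicOpen (ψ g), (PrimeSpectrum.basicOpen (ψ g)).isOpen, htg, ?_⟩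
    intro τ' hτ' x hx
    let φ : MvPolynomial I A →ₐ[A] MvPolynomial I A :=
      MvPolynomial.aeval fun i => if i ∈ g.vars then X i else 0
    let t' : ↥T.left := PrimeSpectrum.comap φ.toRingHom (t τ')
    have ht'g : t' ∈ PrimeSpectrum.basicOpen g := by
      show φ g ∉ (t τ').asIdeal
      rw [show φ g = g from aeval_ite_mem_eq_self g subset_rfl]
      exact hτ'
    have ht' : (polyHom str I).left t' = τ' :=
      hcomap (ψ.comp φ.toRingHom) (fun r => by simp [ψ, φ]) τ'
    obtain ⟨z, rfl, hzt⟩ := hlift t' x (hx.trans (congrArg (Points.ofScheme (Over.mk str)) ht'.symm))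
    have hz : z ∉ Z := fun hz => hgC ht'g ⟨z, hz, hzt⟩
    obtain ⟨w, ⟨t'', hw, hw'⟩, hzw⟩ := Set.mem_iUnion.1 (Set.notMem_compl_iff.1 hz)
    obtain rfl : t'' = t' := eT.injective (hw'.trans hzt)
    refine ⟨w, ?_, hzw⟩
    by_contra hwg
    exact hw (show φ (X w) ∈ (t τ').asIdeal by simp [φ, hwg])
  choose σ V hV hτ hσ using key
  obtain ⟨F, hF⟩ := isCompact_univ.elim_finite_subcover V hV fun τ _ => Set.mem_iUnion.2 ⟨τ, hτ τ⟩
  refine ⟨F.biUnion σ, fun x => ?_⟩
  obtain ⟨τ', hτ'⟩ := (Points.schemeEquiv (Over.mk str)).surjective (Points.map snd x)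
  obtain ⟨τ, hτF, hτV⟩ := Set.mem_iUnion₂.1 (hF (Set.mem_univ τ'))
  obtain ⟨w, hw, hx⟩ := hσ τ τ' hτV x hτ'.symm
  exact ⟨w, Finset.mem_biUnion.2 ⟨τ, hτF, hw⟩, hx⟩

variable {F G : Sp S}

/-- A universally closed morphism of algebraic spaces is quasi-compact. -/
theorem isQuasiCompactMor_of_univClosed (hF : IsAlgSpace F) (hG : IsAlgSpace G) {f : F ⟶ G}
    (hf : IsUnivClosedMor f) : IsQuasiCompactMor f := by
  refine isQuasiCompactMor_of_affine hF hG fun Z _ g P fst snd sq => ?_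
  have hP := isAlgSpace_of_isPullback hG.diag hF (IsAlgSpace.yon_obj Z) sq
  let e : Z ≅ Over.mk (Z.left.isoSpec.inv ≫ Z.hom) := Over.isoMk Z.left.isoSpec (by simp)
  refine compactSpace_of_univClosed_affine hP (Z.left.isoSpec.inv ≫ Z.hom) (snd ≫ (yon S).map e.hom)
    fun W W' hW k fst' snd' sq' => hf hW (k ≫ (yon S).map e.inv ≫ g) (fst' ≫ fst) snd' ?_
  have sqe : IsPullback fst (snd ≫ (yon S).map e.hom) f ((yon S).map e.inv ≫ g) := by
    refine sq.of_iso (Iso.refl _) (Iso.refl _) ((yon S).mapIso e) (Iso.refl _) (by simp) (by simp)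
      (by simp) ?_
    simp
  exact sq'.paste_horiz sqe

end Groth.Agent.Stk19b.UnivClosedQcSp
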