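import Groth.Agent.AlgSpLib.MorMore3
import Groth.Agent.AlgSpLib.FibreDimChart
import Groth.Agent.DimLib.Points
import Mathlib.AlgebraicGeometry.Morphisms.QuasiFinite
import Mathlib.AlgebraicGeometry.Morphisms.UniversallyOpen
import Mathlib.AlgebraicGeometry.Properties

/-!
Dimension of local rings along etale morphisms (no Noetherian hypothesis), and dimensions of
algebraic spaces.
-/

universe u

open CategoryTheory CategoryTheory.Limits AlgebraicGeometry Topology
open AlgSp

noncomputable section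

namespace Groth.Agent.Stk19b.EtaleDim

theorem monotone_base {A B : Scheme.{u}} (c : A ⟶ B) : Monotone c := fun _ _ h =>
  (h : _ ⤳ _).map c.continuous

theorem eq_of_specializes_of_discrete {A B : Scheme.{u}} (c : A ⟶ B) [Etale c] {x y : A}
    (h : y ⤳ x) (e : c y = c x) : y = x := by
  have := AlgSpLib.locallyQuasiFinite_of_etale c
  have hd : _root_.IsDiscrete (c ⁻¹' {c x}) := c.isDiscrete_preimage_singleton (c x)
  have := hd.to_subtype
  have h' : (⟨y, e⟩ : ↥(c ⁻¹' {c x})) ⤳ ⟨x, rfl⟩ := (subtype_specializes_iff _ _).2 h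
  exact congrArg Subtype.val h'.eq

theorem coheight_le {A B : Scheme.{u}} (c : A ⟶ B) [Etale c] (x : A) :
    Order.coheight x ≤ Order.coheight (c x) := by
  refine Order.coheight_le_coheight_apply_of_strictMono _ (fun a b hab => ?_) x
  refine lt_of_le_not_ge (monotone_base c hab.le) fun h => hab.ne ?_
  exact (eq_of_specializes_of_discrete c hab.le
    (Specializes.antisymm h (monotone_base c hab.le)).eq.symm).symm

theorem exists_lift_series {A B : Scheme.{u}} (c : A ⟶ B) [Flat c] :
    ∀ (n : ℕ) (x : A) (p : LTSeries B), p.head = c x → p.length = n →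
      ∃ q : LTSeries A, q.head = x ∧ q.length = n := by
  intro n
  induction n with
  | zero => exact fun x p _ _ => ⟨RelSeries.singleton _ x, rfl, rfl⟩
  | succ n ih =>
    intro x p hp hn
    have h0 : p.length ≠ 0 := by omega
    have hlt : p.head < p ⟨1, by omega⟩ := p.strictMono (by
      show (0 : Fin (p.length + 1)) < ⟨1, _⟩
      exact Fin.mk_lt_mk.2 Nat.one_pos)
    have hle : p ⟨1, by omega⟩ ⤳ c x := hp ▸ hlt.le
    obtain ⟨x', hx', e⟩ := Flat.generalizingMap c hle
    obtain ⟨q, hq, hql⟩ := ih x' (p.tail h0) (by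
      rw [e, RelSeries.head_tail]
      congr 1
      exact Fin.ext (by simp [Nat.mod_eq_of_lt (by omega : 1 < p.length + 1)])) (by rw [RelSeries.tail_length]; omega)
    have hlt' : x < q.head := by
      rw [hq]
      refine lt_of_le_not_ge hx' fun h => hlt.ne ?_
      rw [hp, ← e]
      exact congrArg c (Specializes.antisymm hx' h).eq.symm
    refine ⟨q.cons x hlt', RelSeries.head_cons .., ?_⟩
    show (RelSeries.singleton _ x).length + q.length + 1 = n + 1
    simp [hql]

theorem coheight_ge {A B : Scheme.{u}} (c : A ⟶ B) [Flat c] (x : A) :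
    Order.coheight (c x) ≤ Order.coheight x := by
  refine Order.coheight_le fun p hp => ?_
  obtain ⟨q, hq, hl⟩ := exists_lift_series c p.length x p hp rfl
  rw [← hl, ← hq]
  exact Order.length_le_coheight_head

theorem coheight_eq {A B : Scheme.{u}} (c : A ⟶ B) [Etale c] (x : A) :
    Order.coheight (c x) = Order.coheight x := le_antisymm (coheight_ge c x) (coheight_le c x)

theorem ringKrullDim_stalk_eq {A B : Scheme.{u}} (c : A ⟶ B) [Etale c] (x : A) :
    ringKrullDim (B.presheaf.stalk (c x)) = ringKrullDim (A.presheaf.stalk x) := by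
  rw [ringKrullDim_stalk_eq_coheight, ringKrullDim_stalk_eq_coheight, coheight_eq]

variable {S : Scheme.{u}} {F : Sp S}

theorem ringKrullDim_stalk_eq_of_ofPt (hF : IsAlgSpace F) {U V : Over S} {a : (yon S).obj U ⟶ F}
    {b : (yon S).obj V ⟶ F} (ha : RepWith @Etale a) (hb : RepWith @Etale b) {u : ↥U.left}
    {v : ↥V.left} (e : Points.ofPt a u = Points.ofPt b v) :
    ringKrullDim (U.left.presheaf.stalk u) = ringKrullDim (V.left.presheaf.stalk v) := by
  obtain ⟨R, p, q, r, hp, hq, rfl, rfl⟩ := AlgSpLib.exists_common_chart hF ha hb e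
  have : Etale p.left := hp
  have : Etale q.left := hq
  rw [ringKrullDim_stalk_eq p.left r, ringKrullDim_stalk_eq q.left r]

theorem hasAt_ringKrullDim_iff (hF : IsAlgSpace F) {U : Over S} {a : (yon S).obj U ⟶ F}
    (ha : RepWith @Etale a) (u : ↥U.left) (d : WithBot ℕ∞) :
    HasAt (fun U u => ringKrullDim ↥(U.presheaf.stalk u) = d) F (Points.ofPt a u) ↔
      ringKrullDim (U.left.presheaf.stalk u) = d := by
  refine ⟨?_, fun h => ⟨U, a, u, ha, rfl, h⟩⟩
  rintro ⟨V, b, v, hb, e, h⟩
  rw [← h]
  exact ringKrullDim_stalk_eq_of_ofPt hF ha hb e.symm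

theorem localDim_eq {A B : Scheme.{u}} (c : A ⟶ B) [Etale c] (x : A) :
    FlatMor.localDim A x = FlatMor.localDim B (c x) :=
  AlgSpLib.localDim_eq_of_map c.continuous c.isOpenMap (Flat.generalizingMap c)
    (fun a a' h e => eq_of_specializes_of_discrete c h e) x

/-- transfer of an etale-invariant pointwise property along an etale morphism of algebraic spaces -/
theorem hasAt_iff_map {X Y : Sp S} (hX : IsAlgSpace X) (hY : IsAlgSpace Y) (f : X ⟶ Y)
    (hf : IsEtaleMor f) (Q : ∀ U : Scheme.{u}, ↥U → Prop)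
    (hQ : ∀ {A B : Scheme.{u}} (c : A ⟶ B) [Etale c] (a : A), Q A a ↔ Q B (c a))
    (x : Points X) : HasAt Q X x ↔ HasAt Q Y (Points.map f x) := by
  constructor
  · rintro ⟨U, a, u, ha, rfl, h⟩
    exact ⟨U, a ≫ f, u, hf a ha, (Points.map_ofPt a f u).symm, h⟩
  · rintro ⟨V, b, v, hb, e, h⟩
    obtain ⟨U, a, hae, has⟩ := hX.atlas
    obtain ⟨u, rfl⟩ := AlgSpLib.surjective_ofPt a has x
    refine ⟨U, a, u, hae, rfl, ?_⟩
    rw [Points.map_ofPt] at e
    obtain ⟨R, p, q, r, hp, hq, rfl, rfl⟩ :=
      AlgSpLib.exists_common_chart hY (hf a hae) hb e.symm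
    have : Etale p.left := hp
    have : Etale q.left := hq
    exact (hQ p.left r).1 ((hQ q.left r).2 h)

theorem topologicalKrullDim_eq_iSup_coheight {X : Scheme.{u}} :
    topologicalKrullDim X = ⨆ x : X, (Order.coheight x : WithBot ℕ∞) := by
  rw [DimLib.topologicalKrullDim_eq_krullDim, Order.krullDim_eq_iSup_coheight]

theorem dim_eq_of_etale_surjective {X Y : Sp S} (hX : IsAlgSpace X) (hY : IsAlgSpace Y) (f : X ⟶ Y)
    (hf : IsEtaleMor f) (hs : IsSurjectiveMor f) : AlgSp.dim X = AlgSp.dim Y := by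
  apply le_antisymm
  · exact iSup_le fun U => iSup_le fun a => iSup_le fun ha =>
      le_iSup_of_le U (le_iSup_of_le (a ≫ f) (le_iSup_of_le (hf a ha) le_rfl))
  · refine iSup_le fun V => iSup_le fun b => iSup_le fun hb => ?_
    rw [topologicalKrullDim_eq_iSup_coheight]
    refine iSup_le fun v => ?_
    obtain ⟨x, hx⟩ := hs (Points.ofPt b v)
    obtain ⟨U, a, hae, has⟩ := hX.atlas
    obtain ⟨u, rfl⟩ := AlgSpLib.surjective_ofPt a has x
    rw [Points.map_ofPt] at hx
    refine le_iSup_of_le U (le_iSup_of_le a (le_iSup_of_le hae ?_))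
    rw [topologicalKrullDim_eq_iSup_coheight]
    refine le_iSup_of_le u (le_of_eq ?_)
    have := ringKrullDim_stalk_eq_of_ofPt hY (hf a hae) hb hx
    rw [ringKrullDim_stalk_eq_coheight, ringKrullDim_stalk_eq_coheight] at this
    exact this.symm

theorem exists_coheight_zero {X : Scheme.{u}} {O : Set X} (hO : IsOpen O) (h : O.Nonempty) :
    ∃ g ∈ O, Order.coheight g = 0 := by
  obtain ⟨x, hx⟩ := h
  have hirr : IsIrreducible (irreducibleComponent x) := isIrreducible_irreducibleComponent
  have hg := hirr.isGenericPoint_genericPoint_closure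
  rw [isClosed_irreducibleComponent.closure_eq] at hg
  refine ⟨hirr.genericPoint, (hg.specializes mem_irreducibleComponent).mem_open hO hx, ?_⟩
  rw [Order.coheight_eq_zero]
  intro y hy
  have h1 : irreducibleComponent x ⊆ closure {y} :=
    (hg.def).symm ▸ closure_minimal (Set.singleton_subset_iff.2 (hy : y ⤳ _).mem_closure) isClosed_closure
  have h2 := (irreducibleComponent_property x).2.2 _ (isPreirreducible_singleton.closure) h1
  exact (hg.specializes (h2 ▸ subset_closure rfl) : hirr.genericPoint ⤳ y)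

theorem dense_coheight_zero (hF : IsAlgSpace F) :
    Dense {x : Points F | HasAt (fun U u => ringKrullDim ↥(U.presheaf.stalk u) = 0) F x} := by
  rw [dense_iff_inter_open]
  intro W hW hne
  obtain ⟨U, a, hae, has⟩ := hF.atlas
  obtain ⟨x, hx⟩ := hne
  obtain ⟨u, rfl⟩ := AlgSpLib.surjective_ofPt a has x
  obtain ⟨g, hgW, hg⟩ := exists_coheight_zero (hW.preimage (Points.continuous_ofPt a)) ⟨u, hx⟩
  refine ⟨Points.ofPt a g, hgW, U, a, g, hae, rfl, ?_⟩
  simp only [ringKrullDim_stalk_eq_coheight, hg]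
  rfl

end Groth.Agent.Stk19b.EtaleDim
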