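import Groth.Agent.AlgSpLib.DecentPoints
import Groth.Agent.AlgSpLib.MorMore2
import Groth.Prelude.Def_AlgSpOX3
import Mathlib.AlgebraicGeometry.Sites.EtalePoint

/-!
Etale neighbourhoods of geometric points of algebraic spaces.
-/

set_option autoImplicit false
set_option backward.isDefEq.respectTransparency false
set_option backward.isDefEq.respectTransparency.types false

universe u

open CategoryTheory CategoryTheory.Limits AlgebraicGeometry Opposite
open AlgSp

noncomputable section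

namespace Groth.Agent.Stk19b.EtNbhd

variable {S : Scheme.{u}} {X : Sp S}

theorem ofPt_toHom (p : FieldPt X) (t : ↥p.pt.left) : Points.ofPt p.toHom t = Points.mk p := by
  rw [AlgSpLib.ofPt_eq_ptOfHom_of_field, AlgSpLib.ptOfHom_toHom]

/-- A geometric point of a scheme lifts along an etale morphism through any point above its image. -/
theorem exists_lift_over {K : Type u} [Field K] [IsAlgClosed K] {str : Spec (CommRingCat.of K) ⟶ S}
    {W T : Over S} (c : W ⟶ T) (hc : Etale c.left) (q : Over.mk str ⟶ T) (w : ↥W.left)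
    (hw : c.left w = q.left (IsLocalRing.closedPoint K)) :
    ∃ v : Over.mk str ⟶ W, v ≫ c = q ∧ v.left (IsLocalRing.closedPoint K) = w := by
  have := hc
  have : Subsingleton ↥(Over.mk str).left := inferInstanceAs (Subsingleton ↥(Spec (CommRingCat.of K)))
  obtain ⟨l, h1, h2⟩ := Scheme.exists_fac_of_etale_of_isSepClosed c.left (Ω := K) q.left w
    (hw.trans (congrArg q.left (Subsingleton.elim _ _)))
  refine ⟨Over.homMk l (by rw [← Over.w c, reassoc_of% h1]; exact Over.w q), Over.OverMorphism.ext h1, ?_⟩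
  exact (congrArg l (Subsingleton.elim _ _)).trans h2

/-- A geometric point lifts to a chart through any point above it. -/
theorem exists_lift (p : FieldPt X) (hp : p.IsGeometric) {U : Over S} (a : (yon S).obj U ⟶ X)
    (ha : RepWith @Etale a) (u : ↥U.left) (hu : Points.ofPt a u = Points.mk p) :
    ∃ v : p.pt ⟶ U, (yon S).map v ≫ a = p.toHom ∧ v.left (IsLocalRing.closedPoint p.K) = u := by
  have : IsAlgClosed p.K := hp
  have sq := ha.1.isPullback p.toHom
  obtain ⟨f, hf⟩ := (yon S).map_surjective (ha.1.fst p.toHom)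
  rw [← hf] at sq
  obtain ⟨w, hw1, hw2⟩ := (AlgSpLib.ofPt_eq_ofPt_iff sq u (IsLocalRing.closedPoint p.K)).1
    (by rw [hu, ofPt_toHom])
  obtain ⟨v, hv1, hv2⟩ := exists_lift_over (ha.1.snd p.toHom) (ha.2 _ _ _ sq) (𝟙 p.pt) w hw2
  refine ⟨v ≫ f, ?_, by rw [Over.comp_left, Scheme.Hom.comp_apply, hv2, hw1]⟩
  rw [Functor.map_comp, Category.assoc, sq.w, ← Category.assoc, ← Functor.map_comp, hv1,
    CategoryTheory.Functor.map_id, Category.id_comp]

theorem exists_nbhd (hX : IsAlgSpace X) (p : FieldPt X) (hp : p.IsGeometric) : Nonempty (EtNbhd p) := by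
  obtain ⟨U, a, hae, has⟩ := hX.atlas
  obtain ⟨u, hu⟩ := AlgSpLib.surjective_ofPt a has (Points.mk p)
  obtain ⟨v, hv, -⟩ := exists_lift p hp a hae u hu
  exact ⟨(FieldPt.liftsTo p).elementsMk (EtOver.mk a hae) ⟨v, hv⟩⟩

theorem exists_prod_lift {p : FieldPt X} (M N : EtNbhd p) :
    ∃ v : (FieldPt.liftsTo p).obj (EtOver.prodObj M.1 N.1),
      (FieldPt.liftsTo p).map (EtOver.prodFst M.1 N.1) v = M.2 ∧
      (FieldPt.liftsTo p).map (EtOver.prodSnd M.1 N.1) v = N.2 := by
  have hs := Functor.relativelyRepresentable.lift'_snd N.1.property.1 N.2.1 M.2.1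
    (N.2.2.trans M.2.2.symm)
  refine ⟨⟨N.1.property.1.lift' N.2.1 M.2.1 (N.2.2.trans M.2.2.symm), ?_⟩, Subtype.ext hs,
    Subtype.ext (Functor.relativelyRepresentable.lift'_fst N.1.property.1 N.2.1 M.2.1 _)⟩
  show (yon S).map _ ≫ (yon S).map _ ≫ M.1.obj.hom = p.toHom
  rw [← Category.assoc, ← Functor.map_comp, hs]
  exact M.2.2

/-- Two morphisms of the small etale site that agree on a lift are equalised by a neighbourhood. -/
theorem exists_equalize {p : FieldPt X} {M N : EtNbhd p} (f g : M ⟶ N) :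
    ∃ (L : EtNbhd p) (h : L ⟶ M), h ≫ f = h ≫ g := by
  let E := M.1
  let E' := N.1
  let P := EtOver.prodObj E' E'
  let P₁ := EtOver.prodFst E' E'
  let P₂ := EtOver.prodSnd E' E'
  let γ : E ⟶ P := (EtOver.prodIsLimit E' E').lift (BinaryFan.mk f.1 g.1)
  have γ₁ : γ ≫ P₁ = f.1 := (EtOver.prodIsLimit E' E').fac (BinaryFan.mk f.1 g.1) ⟨.left⟩
  have γ₂ : γ ≫ P₂ = g.1 := (EtOver.prodIsLimit E' E').fac (BinaryFan.mk f.1 g.1) ⟨.right⟩
  let δ : E' ⟶ P := (EtOver.prodIsLimit E' E').lift (BinaryFan.mk (𝟙 E') (𝟙 E'))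
  have δ₁ : δ ≫ P₁ = 𝟙 _ := (EtOver.prodIsLimit E' E').fac (BinaryFan.mk (𝟙 E') (𝟙 E')) ⟨.left⟩
  have δ₂ : δ ≫ P₂ = 𝟙 _ := (EtOver.prodIsLimit E' E').fac (BinaryFan.mk (𝟙 E') (𝟙 E')) ⟨.right⟩
  have hf : M.2.1 ≫ f.1.hom.left = N.2.1 := congrArg Subtype.val f.2
  have hg : M.2.1 ≫ g.1.hom.left = N.2.1 := congrArg Subtype.val g.2
  have hc : M.2.1 ≫ γ.hom.left = N.2.1 ≫ δ.hom.left := by
    refine Functor.relativelyRepresentable.hom_ext' E'.property.1 ?_ ?_
    · have e1 : γ.hom.left ≫ P₂.hom.left = g.1.hom.left := congrArg (fun k => k.hom.left) γ₂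
      have e2 : δ.hom.left ≫ P₂.hom.left = 𝟙 _ := congrArg (fun k => k.hom.left) δ₂
      show (M.2.1 ≫ γ.hom.left) ≫ P₂.hom.left = (N.2.1 ≫ δ.hom.left) ≫ P₂.hom.left
      rw [Category.assoc, Category.assoc, e1, e2, hg, Category.comp_id]
    · have e1 : γ.hom.left ≫ P₁.hom.left = f.1.hom.left := congrArg (fun k => k.hom.left) γ₁
      have e2 : δ.hom.left ≫ P₁.hom.left = 𝟙 _ := congrArg (fun k => k.hom.left) δ₁
      show (M.2.1 ≫ γ.hom.left) ≫ P₁.hom.left = (N.2.1 ≫ δ.hom.left) ≫ P₁.hom.left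
      rw [Category.assoc, Category.assoc, e1, e2, hf, Category.comp_id]
  let v : p.pt ⟶ (EtOver.pullbackObj γ δ).obj.left := pullback.lift M.2.1 N.2.1 hc
  have hv : (yon S).map v ≫ (EtOver.pullbackObj γ δ).obj.hom = p.toHom := by
    show (yon S).map _ ≫ (yon S).map _ ≫ E.obj.hom = p.toHom
    rw [← Category.assoc, ← Functor.map_comp, pullback.lift_fst]
    exact M.2.2
  refine ⟨(FieldPt.liftsTo p).elementsMk (EtOver.pullbackObj γ δ) ⟨v, hv⟩,
    ⟨EtOver.pullbackFst γ δ, Subtype.ext (pullback.lift_fst _ _ _)⟩, Subtype.ext ?_⟩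
  show EtOver.pullbackFst γ δ ≫ f.1 = EtOver.pullbackFst γ δ ≫ g.1
  rw [← γ₁, ← γ₂, ← Category.assoc, ← Category.assoc, EtOver.pullback_condition, Category.assoc,
    Category.assoc, δ₁, δ₂]

theorem isCofiltered (hX : IsAlgSpace X) (p : FieldPt X) (hp : p.IsGeometric) :
    IsCofiltered (EtNbhd p) :=
  { nonempty := exists_nbhd hX p hp
    cone_objs := fun M N => by
      obtain ⟨v, h1, h2⟩ := exists_prod_lift M N
      exact ⟨(FieldPt.liftsTo p).elementsMk _ v, ⟨_, h1⟩, ⟨_, h2⟩, trivial⟩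
    cone_maps := fun _ _ f g => exists_equalize f g }

theorem exists_lift_of_cover (p : FieldPt X) (hp : p.IsGeometric) (N : EtNbhd p) {ι : Type*}
    (Ui : ι → EtOver X) (g : ∀ i, Ui i ⟶ N.1)
    (hcov : ∀ x : ↥N.1.obj.left.left, ∃ i, x ∈ Set.range (g i).hom.left.left) :
    ∃ (i : ι) (ui : (FieldPt.liftsTo p).obj (Ui i)), (FieldPt.liftsTo p).map (g i) ui = N.2 := by
  have : IsAlgClosed p.K := hp
  obtain ⟨i, y, hy⟩ := hcov (N.2.1.left (IsLocalRing.closedPoint p.K))
  obtain ⟨v, hv, -⟩ := exists_lift_over (g i).hom.left (EtOver.etale_left (g i)) N.2.1 y hy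
  refine ⟨i, ⟨v, ?_⟩, Subtype.ext hv⟩
  rw [← EtOver.w (g i), ← Category.assoc, ← Functor.map_comp, hv]
  exact N.2.2

theorem exists_lift_sieve (p : FieldPt X) (hp : p.IsGeometric) {E : EtOver X} (R : Sieve E)
    (hR : R ∈ etTop X E) (x : (FieldPt.liftsTo p).obj E) :
    ∃ (Y : EtOver X) (f : Y ⟶ E) (_ : R f) (y : (FieldPt.liftsTo p).obj Y),
      (FieldPt.liftsTo p).map f y = x := by
  obtain ⟨R', hR', hle⟩ := (Precoverage.mem_toGrothendieck_iff_of_isStableUnderComposition).1 hR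
  obtain ⟨ι, Y, g, rfl⟩ := Presieve.exists_eq_ofArrows R'
  obtain ⟨i, ui, hui⟩ := exists_lift_of_cover p hp ⟨E, x⟩ Y g ((ofArrows_mem_etPre_iff Y g).1 hR')
  exact ⟨Y i, g i, hle _ _ (Presieve.ofArrows.mk i), ui, hui⟩

theorem initiallySmall (hX : IsAlgSpace X) (p : FieldPt X) (hp : p.IsGeometric) :
    InitiallySmall.{u} (EtNbhd p) := by
  have := isCofiltered hX p hp
  obtain ⟨U, a, hae, has⟩ := hX.atlas
  obtain ⟨u, hu⟩ := AlgSpLib.surjective_ofPt a has (Points.mk p)
  obtain ⟨v₀, hv₀, -⟩ := exists_lift p hp a hae u hu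
  let M : EtNbhd p := (FieldPt.liftsTo p).elementsMk (EtOver.mk a hae) ⟨v₀, hv₀⟩
  refine initiallySmall_of_essentiallySmall_weakly_initial_objectProperty
    (Functor.Elements.precomp (Scheme.AffineEtale.Spec U.left ⋙ EtOver.ofChart a hae)
      (FieldPt.liftsTo p)).essImage fun N => ?_
  obtain ⟨w, hw1, hw2⟩ := exists_prod_lift M N
  let P := EtOver.prodObj M.1 N.1
  let c : P.obj.left ⟶ U := (EtOver.prodFst M.1 N.1).hom.left
  have : Etale c.left := EtOver.etale_left (EtOver.prodFst M.1 N.1)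
  obtain ⟨R, j, _, hj, -⟩ := Scheme.exists_affine_mem_range_and_range_subset
    (x := w.1.left (IsLocalRing.closedPoint p.K)) (U := ⊤) trivial
  have hr : Set.range w.1.left ⊆ Set.range j := by
    have : Subsingleton ↥p.pt.left := inferInstanceAs (Subsingleton ↥(Spec (CommRingCat.of p.K)))
    rintro _ ⟨t, rfl⟩
    rwa [show t = IsLocalRing.closedPoint p.K from Subsingleton.elim _ _]
  let A : U.left.AffineEtale := Scheme.AffineEtale.mk (j ≫ c.left)
  let E := (Scheme.AffineEtale.Spec U.left ⋙ EtOver.ofChart a hae).obj A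
  let y : p.pt ⟶ E.obj.left := Over.homMk (IsOpenImmersion.lift j w.1.left hr) (by
    show _ ≫ (j ≫ c.left) ≫ U.hom = p.str
    rw [Category.assoc, ← Category.assoc, IsOpenImmersion.lift_fac, Over.w c]
    exact Over.w w.1)
  let o : E.obj.left ⟶ P.obj.left := Over.homMk j (by
    show j ≫ P.obj.left.hom = (j ≫ c.left) ≫ U.hom
    rw [Category.assoc, Over.w c])
  have ho : (yon S).map o ≫ P.obj.hom = E.obj.hom := by
    show (yon S).map o ≫ (yon S).map c ≫ a = (yon S).map _ ≫ a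
    rw [← Category.assoc, ← Functor.map_comp]
    rfl
  have hy : y ≫ o = w.1 := Over.OverMorphism.ext (IsOpenImmersion.lift_fac _ _ _)
  have hE : (yon S).map y ≫ E.obj.hom = p.toHom := by
    rw [← ho, ← Category.assoc, ← Functor.map_comp, hy]
    exact w.2
  exact ⟨_, ⟨Functor.elementsMk _ A ⟨y, hE⟩, ⟨Iso.refl _⟩⟩,
    ⟨⟨EtOver.homMk o ho ≫ EtOver.prodSnd M.1 N.1, by
      rw [Functor.map_comp_apply, ← hw2]
      exact congrArg _ (Subtype.ext hy)⟩⟩⟩

/-- The point of the small etale site given by a geometric point. -/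
def point (hX : IsAlgSpace X) (p : FieldPt X) (hp : p.IsGeometric) :
    GrothendieckTopology.Point.{u} (etTop X) where
  fiber := FieldPt.liftsTo p
  isCofiltered := isCofiltered hX p hp
  initiallySmall := initiallySmall hX p hp
  jointly_surjective R hR x := exists_lift_sieve p hp R hR x

end Groth.Agent.Stk19b.EtNbhd
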