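import Groth.Agent.Stk19b.EtNbhd
import Mathlib.CategoryTheory.Sites.Point.Skyscraper
import Mathlib.CategoryTheory.Sites.EpiMono
import Mathlib.CategoryTheory.Abelian.GrothendieckAxioms.Types
import Mathlib.CategoryTheory.Sites.Abelian

/-!
Stalks on the small etale site of an algebraic space: criteria by geometric points.
-/

set_option autoImplicit false
set_option backward.isDefEq.respectTransparency false
set_option backward.isDefEq.respectTransparency.types false

universe v' u' u

open CategoryTheory CategoryTheory.Limits AlgebraicGeometry Opposite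
open AlgSp

noncomputable section

namespace Groth.Agent.Stk19b.StalkPoint

instance : PreservesFilteredColimitsOfSize.{u, u} (forget AddCommGrpCat.{u + 1}) :=
  preservesFilteredColimitsOfSize_shrink.{u, u + 1, u, u + 1} _
instance : PreservesFilteredColimitsOfSize.{u, u} (forget CommRingCat.{u + 1}) :=
  preservesFilteredColimitsOfSize_shrink.{u, u + 1, u, u + 1} _
instance : HasColimitsOfSize.{u, u} CommRingCat.{u + 1} :=
  hasColimitsOfSizeShrink.{u, u, u + 1, u + 1} _
instance : AB5OfSize.{u, u} (Type (u + 1)) := AB5OfSize_shrink.{u, u, u + 1, u + 1} _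
instance : AB5OfSize.{u, u} AddCommGrpCat.{u + 1} := AB5OfSize_shrink.{u, u, u + 1, u + 1} _

variable {S : Scheme.{u}} {X : Sp S}

/-- A geometric point of `X` through a given point of a chart. -/
theorem exists_geometric_through {U : Over S} (a : (yon S).obj U ⟶ X) (u : ↥U.left) :
    ∃ (p : FieldPt X) (v : p.pt ⟶ U), p.IsGeometric ∧ (yon S).map v ≫ a = p.toHom ∧
      v.left (IsLocalRing.closedPoint p.K) = u ∧ Points.mk p = Points.ofPt a u := by
  let K := AlgebraicClosure (U.left.residueField u)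
  let l : Spec (CommRingCat.of K) ⟶ U.left :=
    Spec.map (CommRingCat.ofHom (algebraMap (U.left.residueField u) K)) ≫ U.left.fromSpecResidueField u
  let v : Over.mk (l ≫ U.hom) ⟶ U := Over.homMk l rfl
  let p : FieldPt X := ⟨K, l ≫ U.hom, (J S).uliftYonedaEquiv ((yon S).map v ≫ a)⟩
  have hp : p.toHom = (yon S).map v ≫ a := Equiv.symm_apply_apply _ _
  have hl : v.left (IsLocalRing.closedPoint p.K) = u := by
    show l _ = u
    rw [Scheme.Hom.comp_apply]
    exact Scheme.fromSpecResidueField_apply _ _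
  refine ⟨p, v, AlgebraicClosure.isAlgClosed _, hp.symm, hl, ?_⟩
  rw [← EtNbhd.ofPt_toHom p (IsLocalRing.closedPoint p.K), hp, AlgSpLib.ofPt_map]
  exact congrArg _ hl

/-- A geometric point through a point of an object of the small etale site, as a neighbourhood. -/
theorem exists_point_through (E : EtOver X) (e : ↥E.obj.left.left) :
    ∃ (p : FieldPt X) (x : (FieldPt.liftsTo p).obj E), p.IsGeometric ∧
      x.1.left (IsLocalRing.closedPoint p.K) = e ∧ Points.mk p = Points.ofPt E.obj.hom e := by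
  obtain ⟨p, v, hp, h1, h2, h3⟩ := exists_geometric_through E.obj.hom e
  exact ⟨p, ⟨v, h1⟩, hp, h2, h3⟩

/-- A sieve covers as soon as it covers every point. -/
theorem mem_etTop_of_forall {E : EtOver X} (R : Sieve E)
    (h : ∀ e : ↥E.obj.left.left, ∃ (Y : EtOver X) (f : Y ⟶ E), R f ∧ e ∈ Set.range f.hom.left.left) :
    R ∈ etTop X E := by
  choose Y f hf he using h
  refine (etTop X).superset_covering ?_ (ofArrows_mem_etTop Y f fun x => ⟨x, he x⟩)
  rw [Sieve.generate_le_iff]
  rintro _ _ ⟨i⟩
  exact hf i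

theorem range_of_map {p : FieldPt X} {Y E : EtOver X} (f : Y ⟶ E) {y : (FieldPt.liftsTo p).obj Y}
    {x : (FieldPt.liftsTo p).obj E} (h : (FieldPt.liftsTo p).map f y = x) :
    x.1.left (IsLocalRing.closedPoint p.K) ∈ Set.range f.hom.left.left :=
  ⟨y.1.left (IsLocalRing.closedPoint p.K), by rw [← h]; rfl⟩

variable (hX : IsAlgSpace X)

/-- The stalk functor on presheaves at a geometric point is the fibre functor of the point. -/
theorem presheafFiber_eq (p : FieldPt X) (hp : p.IsGeometric) {A : Type u'} [Category.{v'} A]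
    [HasColimitsOfSize.{u, u} A] [HasColimitsOfShape (EtNbhd p)ᵒᵖ A] :
    (EtNbhd.point hX p hp).presheafFiber (A := A) = stalkEtPshFunctor A p := rfl

theorem sheafFiber_eq (p : FieldPt X) (hp : p.IsGeometric) {A : Type u'} [Category.{v'} A]
    [HasColimitsOfSize.{u, u} A] [HasColimitsOfShape (EtNbhd p)ᵒᵖ A] :
    (EtNbhd.point hX p hp).sheafFiber (A := A) = stalkEtFunctor A p := rfl

include hX

section Types

/-- Stalkwise injectivity implies injectivity on sections. -/
theorem injective_app {A : Type u'} [Category.{v'} A] {FA : A → A → Type*} {CA : A → Type (u + 1)}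
    [∀ P Q, FunLike (FA P Q) (CA P) (CA Q)] [ConcreteCategory.{u + 1} A FA]
    [HasColimitsOfSize.{u, u} A] [PreservesFilteredColimitsOfSize.{u, u} (forget A)]
    [(etTop X).HasSheafCompose (forget A)] {F G : EtSh X A} (a : F ⟶ G)
    (h : ∀ (p : FieldPt X) (hp : p.IsGeometric),
      Function.Injective ((EtNbhd.point hX p hp).sheafFiber.map a))
    (E : (EtOver X)ᵒᵖ) : Function.Injective (a.hom.app E) := by
  obtain ⟨E⟩ := E
  intro s t hst
  have hsep : Presieve.IsSeparated (etTop X) (F.obj ⋙ forget A) := by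
    apply Presieve.IsSheaf.isSeparated
    rw [← isSheaf_iff_isSheaf_of_type]
    exact ((sheafCompose (etTop X) (forget A)).obj F).2
  refine (hsep _ (mem_etTop_of_forall (Presheaf.equalizerSieve s t) fun e => ?_)).ext fun Y f hf => hf
  obtain ⟨p, x, hp, hx, -⟩ := exists_point_through E e
  let Φ := EtNbhd.point hX p hp
  have h1 : Φ.toPresheafFiber E x F.obj s = Φ.toPresheafFiber E x F.obj t := by
    refine h p hp ?_
    show Φ.presheafFiber.map a.hom _ = Φ.presheafFiber.map a.hom _
    rw [Φ.toPresheafFiber_naturality_apply, Φ.toPresheafFiber_naturality_apply, hst]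
  obtain ⟨Y, f, y, hy, hf⟩ := (Φ.toPresheafFiber_eq_iff' E x s t).1 h1
  exact ⟨Y, f, hf, hx ▸ range_of_map f hy⟩

/-- Stalkwise surjectivity implies local surjectivity. -/
theorem isLocallySurjective {A : Type u'} [Category.{v'} A] {FA : A → A → Type*} {CA : A → Type (u + 1)}
    [∀ P Q, FunLike (FA P Q) (CA P) (CA Q)] [ConcreteCategory.{u + 1} A FA]
    [HasColimitsOfSize.{u, u} A] [PreservesFilteredColimitsOfSize.{u, u} (forget A)]
    {F G : (EtOver X)ᵒᵖ ⥤ A} (a : F ⟶ G)
    (h : ∀ (p : FieldPt X) (hp : p.IsGeometric),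
      Function.Surjective ((EtNbhd.point hX p hp).presheafFiber.map a)) :
    Presheaf.IsLocallySurjective (etTop X) a := by
  refine ⟨fun {E} t => mem_etTop_of_forall _ fun e => ?_⟩
  obtain ⟨p, x, hp, hx, -⟩ := exists_point_through E e
  let Φ := EtNbhd.point hX p hp
  obtain ⟨z, hz⟩ := h p hp (Φ.toPresheafFiber E x G t)
  obtain ⟨Y, y, s, rfl⟩ := Φ.toPresheafFiber_jointly_surjective z
  rw [Φ.toPresheafFiber_naturality_apply] at hz
  obtain ⟨w, hw1, hw2⟩ := EtNbhd.exists_prod_lift (p := p) ⟨E, x⟩ ⟨Y, y⟩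
  let f₁ := EtOver.prodFst E Y
  let f₂ := EtOver.prodSnd E Y
  have e1 : Φ.toPresheafFiber _ w G (G.map f₁.op t) = Φ.toPresheafFiber _ w G (G.map f₂.op (a.app _ s)) := by
    rw [Φ.toPresheafFiber_w_apply, Φ.toPresheafFiber_w_apply]
    exact ((congrArg (fun z => Φ.toPresheafFiber E z G t) hw1).trans hz.symm).trans
      (congrArg (fun z => Φ.toPresheafFiber Y z G (a.app _ s)) hw2).symm
  obtain ⟨W, g, w', hg, hW⟩ := (Φ.toPresheafFiber_eq_iff' _ w _ _).1 e1
  refine ⟨W, g ≫ f₁, ⟨F.map (g ≫ f₂).op s, ?_⟩, ?_⟩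
  · rw [NatTrans.naturality_apply, op_comp, op_comp, Functor.map_comp_apply, Functor.map_comp_apply]
    exact hW.symm
  · refine hx ▸ range_of_map (g ≫ f₁) (y := w') ?_
    rw [Functor.map_comp_apply]
    exact (congrArg _ hg).trans hw1

end Types

theorem mono_iff {F G : EtSh X (Type (u + 1))} (a : F ⟶ G) :
    Mono a ↔ ∀ p : FieldPt X, p.IsGeometric →
      Function.Injective ((stalkEtFunctor (Type (u + 1)) p).map a) := by
  refine ⟨fun _ p hp => ?_, fun h => Sheaf.mono_of_injective a (injective_app hX a h)⟩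
  rw [← mono_iff_injective]
  exact (inferInstance : Mono ((EtNbhd.point hX p hp).sheafFiber.map a))

theorem epi_iff {F G : EtSh X (Type (u + 1))} (a : F ⟶ G) :
    Epi a ↔ ∀ p : FieldPt X, p.IsGeometric →
      Function.Surjective ((stalkEtFunctor (Type (u + 1)) p).map a) := by
  refine ⟨fun _ p hp => ?_, fun h => ?_⟩
  · rw [← epi_iff_surjective]
    exact (inferInstance : Epi ((EtNbhd.point hX p hp).sheafFiber.map a))
  · rw [← Sheaf.isLocallySurjective_iff_epi]
    exact isLocallySurjective hX a.hom fun p hp => h p hp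

theorem exact_iff (C : ShortComplex (AbEt X)) :
    C.Exact ↔ ∀ (p : FieldPt X) (hp : p.IsGeometric),
      (C.map (EtNbhd.point hX p hp).sheafFiber).Exact := by
  refine ⟨fun hC p hp => hC.map _, fun h => ?_⟩
  rw [ShortComplex.exact_iff_isZero_homology, IsZero.iff_id_eq_zero]
  refine Sheaf.hom_ext (NatTrans.ext (funext fun E => ?_))
  obtain ⟨E⟩ := E
  ext s
  have hsep : Presieve.IsSeparated (etTop X) (C.homology.obj ⋙ forget AddCommGrpCat.{u + 1}) := by
    apply Presieve.IsSheaf.isSeparated
    rw [← isSheaf_iff_isSheaf_of_type]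
    exact ((sheafCompose (etTop X) (forget AddCommGrpCat.{u + 1})).obj C.homology).2
  refine (hsep _ (mem_etTop_of_forall (Presheaf.equalizerSieve s 0) fun e => ?_)).ext fun Y f hf => hf
  obtain ⟨p, x, hp, hx, -⟩ := exists_point_through E e
  let Φ := EtNbhd.point hX p hp
  have hz : IsZero (Φ.sheafFiber.obj C.homology) :=
    ((ShortComplex.exact_iff_isZero_homology _).1 (h p hp)).of_iso (C.mapHomologyIso Φ.sheafFiber).symm
  have h1 : Φ.toPresheafFiber E x C.homology.obj s = Φ.toPresheafFiber E x C.homology.obj 0 :=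
    @Subsingleton.elim _ (AddCommGrpCat.subsingleton_of_isZero hz) _ _
  obtain ⟨Y, f, y, hy, hf⟩ := (Φ.toPresheafFiber_eq_iff' E x s 0).1 h1
  exact ⟨Y, f, hf, hx ▸ range_of_map f hy⟩

end Groth.Agent.Stk19b.StalkPoint
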