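import Groth.Agent.Stk19b.QPull
import Groth.Agent.Stk19b.StalkPoint
import Groth.Agent.AlgSpLib.RepLocal
import Groth.Agent.AlgSpLib.PointsTop
import Groth.Prelude.Def_AlgSpOX2

/-!
Inverse image of quasi-coherent modules along a representable morphism to an algebraic space.
-/

set_option autoImplicit false
set_option backward.isDefEq.respectTransparency false

universe u

open CategoryTheory CategoryTheory.Limits AlgebraicGeometry Opposite
open AlgSp Groth.Agent.Stk19b.StalkPoint

noncomputable section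

namespace Groth.Agent.Stk19b.QPullEt

variable {S : Scheme.{u}} {X Y : Sp S} {f : X ⟶ Y} (hf : Representable f)

section Prod

variable {E₁ E₂ : EtOver Y}

theorem prodLift_w {T : EtOver X} (t₁ : T ⟶ (EtOver.bc hf).obj E₁) (t₂ : T ⟶ (EtOver.bc hf).obj E₂) :
    (yon S).map (t₂.hom.left ≫ hf.snd E₂.obj.hom) ≫ E₂.obj.hom =
      (yon S).map (t₁.hom.left ≫ hf.snd E₁.obj.hom) ≫ E₁.obj.hom := by
  rw [Functor.map_comp, Functor.map_comp, Category.assoc, Category.assoc, ← hf.w, ← hf.w,
    ← Category.assoc, ← Category.assoc]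
  exact congrArg (· ≫ f) ((EtOver.w t₂).trans (EtOver.w t₁).symm)

theorem bc_hom_ext {T : EtOver X} {E : EtOver Y} {a b : T ⟶ (EtOver.bc hf).obj E}
    (h : a.hom.left ≫ hf.snd E.obj.hom = b.hom.left ≫ hf.snd E.obj.hom) : a = b :=
  EtOver.hom_ext _ _ (hf.hom_ext ((EtOver.w a).trans (EtOver.w b).symm) h)

variable (E₁ E₂)

/-- Base change takes products of the small etale site to products. -/
def bcProdIsLimit : IsLimit (BinaryFan.mk ((EtOver.bc hf).map (EtOver.prodFst E₁ E₂))
    ((EtOver.bc hf).map (EtOver.prodSnd E₁ E₂))) :=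
  BinaryFan.IsLimit.mk _
    (fun {T} t₁ t₂ ↦ EtOver.homMk
      (hf.lift T.obj.hom
        (E₂.property.1.lift' (t₂.hom.left ≫ hf.snd E₂.obj.hom) (t₁.hom.left ≫ hf.snd E₁.obj.hom)
          (prodLift_w hf t₁ t₂))
        (by
          change T.obj.hom ≫ f = (yon S).map _ ≫ (yon S).map _ ≫ E₁.obj.hom
          rw [← Category.assoc, ← Functor.map_comp, Functor.relativelyRepresentable.lift'_snd,
            Functor.map_comp, Category.assoc, ← hf.w, ← Category.assoc]
          exact congrArg (· ≫ f) (EtOver.w t₁).symm))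
      (hf.lift_fst _ _ _))
    (fun t₁ t₂ ↦ bc_hom_ext hf (by
      change (_ ≫ (EtOver.bcMap hf _).hom.left) ≫ _ = _
      rw [Category.assoc, EtOver.bcMap_snd, ← Category.assoc]
      exact (congrArg (· ≫ _) (hf.lift_snd _ _ _)).trans
        (Functor.relativelyRepresentable.lift'_snd _ _ _ _)))
    (fun t₁ t₂ ↦ bc_hom_ext hf (by
      change (_ ≫ (EtOver.bcMap hf _).hom.left) ≫ _ = _
      rw [Category.assoc, EtOver.bcMap_snd, ← Category.assoc]
      exact (congrArg (· ≫ _) (hf.lift_snd _ _ _)).trans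
        (Functor.relativelyRepresentable.lift'_fst _ _ _ _)))
    (fun {T} t₁ t₂ m h₁ h₂ ↦ bc_hom_ext hf (by
      refine Eq.trans ?_ (hf.lift_snd _ _ _).symm
      refine Functor.relativelyRepresentable.hom_ext' _ ?_ ?_
      · rw [Functor.relativelyRepresentable.lift'_fst, ← h₂, Category.assoc]
        change m.hom.left ≫ _ ≫ (EtOver.prodSnd E₁ E₂).hom.left =
          (m.hom.left ≫ (EtOver.bcMap hf _).hom.left) ≫ _
        rw [Category.assoc, EtOver.bcMap_snd]
      · rw [Functor.relativelyRepresentable.lift'_snd, ← h₁, Category.assoc]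
        change m.hom.left ≫ _ ≫ (EtOver.prodFst E₁ E₂).hom.left =
          (m.hom.left ≫ (EtOver.bcMap hf _).hom.left) ≫ _
        rw [Category.assoc, EtOver.bcMap_snd]))

instance preservesBinaryProducts_bc :
    PreservesLimitsOfShape (Discrete WalkingPair) (EtOver.bc hf) where
  preservesLimit {K} := by
    have : PreservesLimit (pair (K.obj ⟨.left⟩) (K.obj ⟨.right⟩)) (EtOver.bc hf) :=
      preservesLimit_of_preserves_limit_cone (EtOver.prodIsLimit _ _)
        ((isLimitMapConeBinaryFanEquiv _ _ _).symm (bcProdIsLimit hf _ _))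
    exact preservesLimit_of_iso_diagram _ (diagramIsoPair K).symm

end Prod

theorem coverPreserving_bc : CoverPreserving (etTop Y) (etTop X) (EtOver.bc hf) where
  cover_preserve {E R} hR := by
    obtain ⟨R', hR', hle⟩ := (Precoverage.mem_toGrothendieck_iff_of_isStableUnderComposition).1 hR
    refine (etTop X).superset_covering ?_ (Precoverage.generate_mem_toGrothendieck
      ((Precoverage.mem_comap_iff).1 (EtOver.etPre_le_comap_bc hf _ hR')))
    rw [Sieve.generate_le_iff]
    rintro _ _ ⟨hg⟩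
    exact Sieve.image_mem_functorPushforward (EtOver.bc hf) R (hle _ _ hg)

instance post_bc_isContinuous (E : EtOver Y) : (Over.post (X := E) (EtOver.bc hf)).IsContinuous
    ((etTop Y).over E) ((etTop X).over _) := by
  have : Functor.PreservesOneHypercovers.{u + 1} (EtOver.bc hf) (etTop Y) (etTop X) :=
    Functor.PreservesOneHypercovers.of_coverPreserving (coverPreserving_bc hf)
  exact Functor.isContinuous_of_preservesOneHypercovers.{u + 1} _ _ _

/-- The image of a family covering an algebraic space covers the source. -/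
theorem coversTop_bc (hY : IsAlgSpace Y) {I : Type*} (Z : I → EtOver Y) (hZ : (etTop Y).CoversTop Z) :
    (etTop X).CoversTop (fun i ↦ (EtOver.bc hf).obj (Z i)) := by
  intro V
  refine mem_etTop_of_forall _ fun v ↦ ?_
  obtain ⟨T, b, hbe, hbs⟩ := hY.atlas
  obtain ⟨t, ht⟩ := AlgSpLib.surjective_ofPt b hbs (Points.ofPt (V.obj.hom ≫ f) v)
  obtain ⟨R', hR', hle⟩ := (Precoverage.mem_toGrothendieck_iff_of_isStableUnderComposition).1
    (hZ (EtOver.mk b hbe))
  obtain ⟨ι, W, g, rfl⟩ := R'.exists_eq_ofArrows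
  obtain ⟨j, w, hw⟩ := (ofArrows_mem_etPre_iff W g).1 hR' t
  obtain ⟨i, ⟨s⟩⟩ := (Sieve.mem_ofObjects_iff ..).1 (hle _ _ (Presieve.ofArrows.mk j))
  have sq := (W j).property.1.isPullback (V.obj.hom ≫ f)
  obtain ⟨q, hq⟩ := (yon S).map_surjective ((W j).property.1.fst (V.obj.hom ≫ f))
  rw [← hq] at sq
  let r := (W j).property.1.snd (V.obj.hom ≫ f)
  have hwv : Points.ofPt (W j).obj.hom w = Points.ofPt (V.obj.hom ≫ f) v := by
    rw [← ht, ← EtOver.w (g j), AlgSpLib.ofPt_map]
    exact congrArg _ hw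
  obtain ⟨z, -, hz⟩ := (AlgSpLib.ofPt_eq_ofPt_iff sq w v).1 hwv
  have hr : RepWith @Etale ((yon S).map r) :=
    (repWith_isStableUnderBaseChange (S := S) @Etale).of_isPullback sq (W j).property
  let P : EtOver X := EtOver.mk ((yon S).map r ≫ V.obj.hom)
    ((repWith_isMultiplicative (S := S) @Etale).comp_mem _ _ hr V.property)
  refine ⟨P, EtOver.homMk r rfl, (Sieve.mem_ofObjects_iff ..).2 ⟨i, ⟨EtOver.homMk
    (hf.lift P.obj.hom (q ≫ s.hom.left) ?_) (hf.lift_fst _ _ _)⟩⟩, z, hz⟩
  change ((yon S).map r ≫ V.obj.hom) ≫ f = _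
  rw [Category.assoc, Functor.map_comp, Category.assoc, EtOver.w s]
  exact sq.w.symm

/-- Inverse image along a representable morphism to an algebraic space preserves quasi-coherence. -/
theorem isQuasicoherent_pullModEt (hY : IsAlgSpace Y)
    [(SheafOfModules.pushforward.{u + 1} (bcRingHom hf)).IsRightAdjoint]
    (G : ModEt Y) (hG : G.IsQuasicoherent) : ((pullModEt hf).obj G).IsQuasicoherent :=
  have := hG
  QPull.isQuasicoherent_pullback (EtOver.bc hf) (bcRingHom hf) (fun Z hZ ↦ coversTop_bc hf hY Z hZ) G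

end Groth.Agent.Stk19b.QPullEt
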