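import Groth.Agent.Stk19.AlgSt.SepDiag
import Groth.Agent.Stk19.AlgSt.Points
import Groth.Agent.Stk19.AlgSt.PointsTop
import Groth.Agent.Stk19.AlgSt.Mono
import Groth.Prelude.Def_AlgSt4
import Mathlib.AlgebraicGeometry.AlgClosed.Basic

/-! Points of algebraic stacks over algebraically closed fields. -/

set_option autoImplicit false
set_option linter.style.haveILetI false
set_option backward.isDefEq.respectTransparency false
set_option backward.isDefEq.respectTransparency.types false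

universe u

open CategoryTheory CategoryTheory.Limits AlgebraicGeometry Opposite FibCat
open Groth.Agent.Stk19 Groth.Agent.Desc19

namespace Groth.Agent.Stk19b

variable {S : Scheme.{u}}

/-- A space locally of finite type surjecting onto the spectrum of an algebraically closed field has a section. -/
theorem exists_section_algClosed (k : Type u) [Field k] [IsAlgClosed k] (s : Spec (CommRingCat.of k) ⟶ S)
    (F : AlgSp.Space S) (a : F.obj ⟶ (AlgSp.yon S).obj (Over.mk s)) (ha : AlgSp.LocP @LocallyOfFiniteType a)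
    (hs : AlgSp.IsSurjectiveMor a) :
    ∃ w : (AlgSp.yon S).obj (Over.mk s) ⟶ F.obj, w ≫ a = 𝟙 _ := by
  obtain ⟨W, p, hpe, hps⟩ := F.property.atlas
  obtain ⟨h, hh⟩ : ∃ h : W ⟶ Over.mk s, (AlgSp.yon S).map h = p ≫ a :=
    ⟨(AlgSp.yon S).preimage (p ≫ a), (AlgSp.yon S).map_preimage _⟩
  have hl : LocallyOfFiniteType h.left :=
    ha p (𝟙 _) h hpe (AlgSp.repWith_id _ _) (by rw [Category.comp_id, hh])
  haveI : Subsingleton ↥(Over.mk s).left := inferInstanceAs (Subsingleton ↥(Spec (CommRingCat.of k)))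
  obtain ⟨z, -⟩ := hs (AlgSp.Points.ofScheme (Over.mk s) (IsLocalRing.closedPoint k))
  obtain ⟨t, -⟩ := AlgSpLib.surjective_ofPt p hps z
  haveI : JacobsonSpace ↥W.left := LocallyOfFiniteType.jacobsonSpace h.left
  obtain ⟨x, -, hx⟩ := nonempty_inter_closedPoints (Z := (Set.univ : Set ↥W.left)) ⟨t, trivial⟩
    isClosed_univ.isLocallyClosed
  let h' : W.left ⟶ Spec (CommRingCat.of k) := h.left
  obtain ⟨v, hv⟩ := (pointEquivClosedPoint (K := k) h').symm ⟨x, hx⟩
  have hv' : v ≫ h.left = 𝟙 _ := hv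
  let w : Over.mk s ⟶ W := Over.homMk v (by
    show v ≫ W.hom = s
    rw [← Over.w h, ← Category.assoc]
    exact (congrArg (· ≫ s) hv').trans (Category.id_comp _))
  refine ⟨(AlgSp.yon S).map w ≫ p, ?_⟩
  rw [Category.assoc, ← hh, ← Functor.map_comp, show w ≫ h = 𝟙 _ from Over.OverMorphism.ext hv',
    CategoryTheory.Functor.map_id]

variable {𝒳 𝒴 : AlgSt.Cat S}

/-- Over an algebraically closed field, a representable surjection locally of finite type is surjective on objects. -/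
theorem exists_lift_algClosed (h𝒳 : IsFibGrpd 𝒳.p) (h𝒴 : IsFibGrpd 𝒴.p) {f : 𝒳 ⥤ᵇ 𝒴}
    (hl : AlgSt.RepByAlgSpWith (AlgSp.LocP @LocallyOfFiniteType) f) (hs : AlgSt.IsSurjective f)
    (k : Type u) [Field k] [IsAlgClosed k] (s : Spec (CommRingCat.of k) ⟶ S) (y : 𝒴.obj)
    (hy : 𝒴.p.obj y = Over.mk s) :
    ∃ (x : 𝒳.obj) (φ : f.obj x ≅ y), 𝒳.p.obj x = Over.mk s ∧ 𝒴.p.IsHomLift (𝟙 (Over.mk s)) φ.hom := by
  obtain ⟨z, iz, hiz⟩ := exists_classifying h𝒴 y hy
  obtain ⟨F, e, he, hF⟩ := hl (Over.mk s) z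
  obtain ⟨i⟩ := spMapOfOver_iso (BasedFunctor.comp e (fpFst z f))
  have hsur : AlgSp.IsSurjectiveMor (AlgSt.spMapOfOver (BasedFunctor.comp e (fpFst z f))) := by
    obtain ⟨F', e', he', hF'⟩ := with_surjective_of_isSurjective h𝒳 h𝒴 (repByAlgSp1_of_with hl) hs (Over.mk s) z
    exact repWith_any respSrc_surjective he' hF' e he
  obtain ⟨w, hw⟩ := exists_section_algClosed k s F _ hF hsur
  let σ : overCat (Over.mk s) ⥤ᵇ fp z f :=
    BasedFunctor.comp (BasedFunctor.comp (AlgSt.ofOverCat _) (AlgSt.ofSpMap w)) e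
  have hσ : Nonempty (BasedFunctor.comp σ (fpFst z f) ≅ BasedFunctor.id _) := by
    refine ⟨(Stk.restr (BasedFunctor.comp (AlgSt.ofOverCat _) (AlgSt.ofSpMap w)) _).mapIso i ≪≫ eqToIso ?_⟩
    show BasedFunctor.comp (AlgSt.ofOverCat (Over.mk s))
        (BasedFunctor.comp (BasedFunctor.comp (AlgSt.ofSpMap w) (AlgSt.ofSpMap _)) (AlgSt.toOverCat _)) = _
    rw [show BasedFunctor.comp (AlgSt.ofSpMap w) (AlgSt.ofSpMap (AlgSt.spMapOfOver (BasedFunctor.comp e (fpFst z f)))) =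
        AlgSt.ofSpMap (𝟙 _) from (ofSpMap_comp w _).trans (congrArg AlgSt.ofSpMap hw)]
    rfl
  obtain ⟨j⟩ := hσ
  let o : (overCat (Over.mk s)).obj := Over.mk (𝟙 (Over.mk s))
  let m : z ≅ BasedFunctor.comp (BasedFunctor.comp σ (fpSnd z f)) f :=
    (postB _ z).mapIso j.symm ≪≫ (Stk.restr σ _).mapIso (fpIso z f)
  refine ⟨(BasedFunctor.comp σ (fpSnd z f)).obj o, (appIso m o).symm ≪≫ iz,
    (BasedFunctor.comp σ (fpSnd z f)).w_obj o, ?_⟩
  exact vert_comp 𝒴.p _ _ (vert_inv 𝒴.p _ (based_vert m o)) hiz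

end Groth.Agent.Stk19b
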