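import Groth.Agent.AlgSpLib.Bootstrap
import Groth.Agent.AlgSpLib.FppfLocal
import Groth.Agent.Desc19b.Imm

/-!
# Descent of invariant immersions to subspaces
-/

set_option autoImplicit false
set_option backward.isDefEq.respectTransparency.types false

universe u

open CategoryTheory CategoryTheory.Limits AlgebraicGeometry
open Groth.Agent.AlgSpLib AlgSp

namespace Groth.Agent.Stk19b.InvSub

set_option maxHeartbeats 800000

instance isLocalAtTarget_isImmersion :
    MorphismProperty.IsLocalAtTarget @IsImmersion.{u} Scheme.fppfPrecoverage :=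
  haveI := Desc19b.descendsAlong_immersion_fppf.{u}
  isLocalAtTarget_fppf _

variable {S : Scheme.{u}} {X : AlgSp.Sp S} {R U Z R' : Over S} {s t : R ⟶ U}
  {i : Z ⟶ U} {k : R' ⟶ R} {s' t' : R' ⟶ Z}

theorem isEqvRel_restrict [Mono i] (h : IsEqvRel s t)
    (hs : IsPullback k s' s i) (ht : IsPullback k t' t i) : IsEqvRel s' t' := by
  have lift : ∀ (T : Over S) (a b : T ⟶ Z) (r : T ⟶ R), r ≫ t = a ≫ i → r ≫ s = b ≫ i →
      ∃ r' : T ⟶ R', r' ≫ t' = a ∧ r' ≫ s' = b := fun T a b r h1 h2 => by
    refine ⟨ht.lift r a h1, ht.lift_snd _ _ _, (cancel_mono i).1 ?_⟩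
    rw [Category.assoc, ← hs.w, ← Category.assoc, ht.lift_fst, h2]
  refine ⟨fun T r r' h1 h2 => ?_, fun T => ⟨fun a => ?_, ?_, ?_⟩⟩
  · refine hs.hom_ext (h.injective T _ _ ?_ ?_) h2
    · rw [Category.assoc, Category.assoc, ht.w, reassoc_of% h1]
    · rw [Category.assoc, Category.assoc, hs.w, reassoc_of% h2]
  · obtain ⟨r, h1, h2⟩ := (h.equivalence T).refl (a ≫ i)
    exact lift T a a r h1 h2
  · rintro a b ⟨r, rfl, rfl⟩
    obtain ⟨q, h1, h2⟩ := (h.equivalence T).symm (x := (r ≫ t') ≫ i) (y := (r ≫ s') ≫ i) ⟨r ≫ k,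
      by rw [Category.assoc, ht.w, Category.assoc], by rw [Category.assoc, hs.w, Category.assoc]⟩
    exact lift T _ _ q h1 h2
  · rintro a b c ⟨r, rfl, rfl⟩ ⟨r', h', rfl⟩
    obtain ⟨q, h1, h2⟩ := (h.equivalence T).trans (x := (r ≫ t') ≫ i) (y := (r ≫ s') ≫ i)
      (z := (r' ≫ s') ≫ i) ⟨r ≫ k, by rw [Category.assoc, ht.w, Category.assoc],
        by rw [Category.assoc, hs.w, Category.assoc]⟩
      ⟨r' ≫ k, by rw [Category.assoc, ht.w, ← Category.assoc, h'],
        by rw [Category.assoc, hs.w, Category.assoc]⟩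
    exact lift T _ _ q h1 h2

theorem repWith_immersion_of_desc {p : (yon S).obj U ⟶ X} (hp : IsPresentation s t p)
    [IsImmersion i.left] (hs : IsPullback k s' s i) (ht : IsPullback k t' t i) :
    ∃ (F : AlgSp.Sp S) (_ : IsAlgSpace F) (j : F ⟶ X) (q : (yon S).obj Z ⟶ F),
      RepWith @IsImmersion j ∧ IsPullback q ((yon S).map i) j p ∧
      (IsClosedImmersion i.left → RepWith @IsClosedImmersion j) ∧
      (IsOpenImmersion i.left → RepWith @IsOpenImmersion j) := by
  have : Mono i := (Over.forget S).mono_of_mono_map (f := i) (inferInstanceAs (Mono i.left))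
  have := hp.eqvRel.etale_left
  have := hp.eqvRel.etale_right
  have heqv := isEqvRel_restrict hp.eqvRel.toIsEqvRel hs ht
  have h : IsEtaleEqvRel s' t' := ⟨heqv,
    MorphismProperty.of_isPullback (P := @Etale) (hs.map (Over.forget S)) ‹Etale s.left›,
    MorphismProperty.of_isPullback (P := @Etale) (ht.map (Over.forget S)) ‹Etale t.left›⟩
  let F := quotSp ((yon S).map s') ((yon S).map t')
  let q := quotSpπ ((yon S).map s') ((yon S).map t')
  have sqX : IsPullback ((yon S).map t) ((yon S).map s) p p := hp.isPullback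
  have hw : (yon S).map s' ≫ (yon S).map i ≫ p = (yon S).map t' ≫ (yon S).map i ≫ p := by
    rw [← Category.assoc, ← Category.assoc, ← Functor.map_comp, ← Functor.map_comp, ← hs.w, ← ht.w,
      Functor.map_comp, Functor.map_comp, Category.assoc, Category.assoc, sqX.w]
  let j : F ⟶ X := quotSpDesc ((yon S).map i ≫ p) hw
  have hqj : q ≫ j = (yon S).map i ≫ p := quotSpπ_desc _ _ _ _
  have hF : IsAlgSpace F := isAlgSpace_quotSp h
  have hpres := isPresentation_quotSp h
  have hlfp : ∀ {A B : AlgSp.Sp S} {f : A ⟶ B}, RepWith @Etale f → RepWith @Surjective f →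
      Sheaf.IsLocallySurjective f := fun he hsu => isLocallySurjective_of_repWith
    (RepWith.mono (fun _ _ g (_ : Etale g) => (inferInstance : Flat g)) he)
    (RepWith.mono (fun _ _ g (_ : Etale g) => (inferInstance : LocallyOfFinitePresentation g)) he) hsu
  have sqA : IsPullback ((yon S).map t') ((yon S).map k ≫ (yon S).map s) (q ≫ j) p := by
    rw [hqj]
    exact (ht.flip.map (yon S)).paste_vert sqX
  have sqj := IsPullback.of_hasPullback j p
  let l : (yon S).obj Z ⟶ pullback j p := sqj.lift q ((yon S).map i) hqj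
  let m : (yon S).obj R' ⟶ pullback j p := sqj.lift ((yon S).map t' ≫ q) ((yon S).map k ≫ (yon S).map s)
    (by rw [Category.assoc, sqA.w])
  have sqm : IsPullback ((yon S).map t') m q (pullback.fst j p) :=
    IsPullback.of_bot (v₂₁ := pullback.snd j p) (v₂₂ := j) (h₃₁ := p) (by rw [sqj.lift_snd]; exact sqA)
      (sqj.lift_fst _ _ _).symm sqj
  have hm : (yon S).map s' ≫ l = m := by
    apply sqj.hom_ext
    · rw [Category.assoc, sqj.lift_fst, sqj.lift_fst]
      exact quotSp_condition _ _
    · rw [Category.assoc, sqj.lift_snd, sqj.lift_snd, ← Functor.map_comp, ← Functor.map_comp, ← hs.w]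
  have := hlfp (RepWith.baseChange sqm hpres.etale) (RepWith.baseChange sqm hpres.surjective)
  have : Epi m := Sheaf.epi_of_isLocallySurjective _
  have : Epi ((yon S).map s' ≫ l) := by rw [hm]; infer_instance
  have : Epi l := epi_of_epi ((yon S).map s') l
  have : Mono l := by
    have : Mono (l ≫ pullback.snd j p) := by rw [sqj.lift_snd]; infer_instance
    exact mono_of_mono l (pullback.snd j p)
  have : IsIso l := isIso_of_mono_of_epi l
  have sq : IsPullback q ((yon S).map i) j p :=
    IsPullback.of_iso_pullback ⟨hqj⟩ (asIso l) (sqj.lift_fst _ _ _) (sqj.lift_snd _ _ _)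
  have := hlfp hp.etale hp.surjective
  have hrep : Representable j := by
    refine (repWith_of_fppf_local j fun T hT ξ => ?_).2.1
    have : Epi p := Sheaf.epi_of_isLocallySurjective _
    obtain ⟨V, c, hV, hcf, hcp, hcs, x, -, hx, -⟩ := exists_affine_lift p ξ ξ
    obtain ⟨x, rfl⟩ := (yon S).map_surjective x
    let W : Over S := Over.mk (pullback.snd i.left x.left ≫ V.hom)
    let w : W ⟶ V := Over.homMk (pullback.snd i.left x.left)
    let v : W ⟶ Z := Over.homMk (pullback.fst i.left x.left) (by
      show pullback.fst i.left x.left ≫ Z.hom = pullback.snd i.left x.left ≫ V.hom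
      rw [← Over.w i, ← Over.w x, pullback.condition_assoc])
    have sqW : IsPullback v w i x := IsPullback.of_map (Over.forget S)
      (Over.OverMorphism.ext pullback.condition) (IsPullback.of_hasPullback i.left x.left)
    have hwi : IsImmersion w.left := inferInstanceAs (IsImmersion (pullback.snd i.left x.left))
    have : Mono w.left := inferInstance
    refine ⟨V, c, W, w, (yon S).map v ≫ q, hV, hcf, hcp, hcs, inferInstance, lqf_of_mono_lft w.left,
      inferInstance, ?_⟩
    rw [← hx]
    exact (sqW.map (yon S)).paste_horiz sq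
  exact ⟨F, hF, j, q, repWith_of_isLocallySurjective hrep p sq _ ((repWith_yon_map_iff _ i).2 ‹_›), sq,
    fun hc => repWith_of_isLocallySurjective hrep p sq _ ((repWith_yon_map_iff _ i).2 hc),
    fun hc => repWith_of_isLocallySurjective hrep p sq _ ((repWith_yon_map_iff _ i).2 hc)⟩

end Groth.Agent.Stk19b.InvSub
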