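import Groth.Agent.Stk19.AlgSt.LocQ
import Groth.Agent.Stk19.AlgSt.With

/-! Sections of a representing space and lifts of objects along a representable functor. -/

set_option autoImplicit false
set_option backward.isDefEq.respectTransparency false
set_option backward.isDefEq.respectTransparency.types false

universe u

open CategoryTheory CategoryTheory.Limits AlgebraicGeometry Opposite FibCat
open Groth.Agent.Stk19 Groth.Agent.Desc19

namespace Groth.Agent.Stk19b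

variable {S : Scheme.{u}} {𝒳 𝒴 : AlgSt.Cat S} {f : 𝒴 ⥤ᵇ 𝒳} {U T : Over S} {y : overCat U ⥤ᵇ 𝒳}
  {F : AlgSp.Sp S} (e : AlgSt.ofSp F ⥤ᵇ fp y f) (m : T ⟶ U)

/-- A section over `m` gives a lift of the object at `m`. -/
theorem exists_obj_of_sec (s : (AlgSp.yon S).obj T ⟶ F)
    (hs : s ≫ AlgSt.spMapOfOver (BasedFunctor.comp e (fpFst y f)) = (AlgSp.yon S).map m) :
    ∃ x : overCat T ⥤ᵇ 𝒴, Nonempty (BasedFunctor.comp x f ≅ BasedFunctor.comp (AlgSt.overMap m) y) := by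
  obtain ⟨i⟩ := spMapOfOver_iso (BasedFunctor.comp e (fpFst y f))
  refine ⟨BasedFunctor.comp (BasedFunctor.comp (BasedFunctor.comp (AlgSt.ofOverCat T) (AlgSt.ofSpMap s)) e)
    (fpSnd y f), ⟨?_⟩⟩
  refine ((Stk.restr (BasedFunctor.comp (BasedFunctor.comp (AlgSt.ofOverCat T) (AlgSt.ofSpMap s)) e) _).mapIso
    (fpIso y f).symm) ≪≫ (postB _ y).mapIso
      ((Stk.restr (BasedFunctor.comp (AlgSt.ofOverCat T) (AlgSt.ofSpMap s)) _).mapIso i ≪≫ eqToIso ?_)
  show BasedFunctor.comp (BasedFunctor.comp (AlgSt.ofOverCat T)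
    (BasedFunctor.comp (AlgSt.ofSpMap s) (AlgSt.ofSpMap _))) (AlgSt.toOverCat U) = _
  rw [show BasedFunctor.comp (AlgSt.ofSpMap s) (AlgSt.ofSpMap _) = AlgSt.ofSpMap ((AlgSp.yon S).map m) from
    (ofSpMap_comp s _).trans (congrArg AlgSt.ofSpMap hs), ← ofOver_overMap]
  rfl

/-- A lift of the object at `m` gives a section over `m`. -/
theorem exists_sec_of_obj (he : IsEquivOver e) (x : overCat T ⥤ᵇ 𝒴)
    (hx : Nonempty (BasedFunctor.comp x f ≅ BasedFunctor.comp (AlgSt.overMap m) y)) :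
    ∃ s : (AlgSp.yon S).obj T ⟶ F,
      s ≫ AlgSt.spMapOfOver (BasedFunctor.comp e (fpFst y f)) = (AlgSp.yon S).map m := by
  obtain ⟨Ψ, -, ⟨c₀⟩⟩ := he
  obtain ⟨j⟩ := hx
  let ψ : overCat T ⥤ᵇ fp y f := fpLift (AlgSt.overMap m) x j.symm
  refine ⟨spHom (BasedFunctor.comp (AlgSt.toOverCat _) (BasedFunctor.comp ψ Ψ)), ?_⟩
  rw [← spMapOfOver_comp]
  have ii : BasedFunctor.comp (BasedFunctor.comp (AlgSt.toOverCat _) (BasedFunctor.comp ψ Ψ))
      (BasedFunctor.comp e (fpFst y f)) ≅ BasedFunctor.comp (AlgSt.toOverCat _) (AlgSt.overMap m) :=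
    (Stk.restr (BasedFunctor.comp (AlgSt.toOverCat _) ψ) _).mapIso ((postB _ (fpFst y f)).mapIso c₀)
  rw [spMapOfOver_congr ii.hom, spMapOfOver_overMap, spMapOfOver_toOverCat, Category.id_comp]

end Groth.Agent.Stk19b
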