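import Groth.Agent.LocImm12.ZMT
import Groth.Agent.ValCritLib.Refined
import Groth.Agent.DVRDom.Basic
import Groth.Agent.ValExtLib.Criterion
import Mathlib.AlgebraicGeometry.Morphisms.FlatMono
import Mathlib.AlgebraicGeometry.Noetherian

/-! A quasi-compact monomorphism with lifting of discrete valuation rings is an immersion. -/

set_option autoImplicit false
set_option linter.style.haveILetI false
set_option backward.isDefEq.respectTransparency false
set_option backward.isDefEq.respectTransparency.types false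

universe u

open CategoryTheory CategoryTheory.Limits AlgebraicGeometry TopologicalSpace IsLocalRing

namespace Groth.Agent.Stk19b

/-- Lifting of the spectra of discrete valuation rings whose two points lift. -/
def DvrLift {Y X : Scheme.{u}} (f : Y ⟶ X) : Prop :=
  ∀ (R : Type u) [CommRing R] [IsDomain R] [IsDiscreteValuationRing R] (ψ : Spec (CommRingCat.of R) ⟶ X),
    (∃ l : Spec (CommRingCat.of (FractionRing R)) ⟶ Y,
        l ≫ f = Spec.map (CommRingCat.ofHom (algebraMap R (FractionRing R))) ≫ ψ) →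
    (∃ l : Spec (CommRingCat.of (IsLocalRing.ResidueField R)) ⟶ Y,
        l ≫ f = Spec.map (CommRingCat.ofHom (IsLocalRing.residue R)) ≫ ψ) →
    ∃ l : Spec (CommRingCat.of R) ⟶ Y, l ≫ f = ψ

/-- A field-valued point in the image of a monomorphism lifts. -/
theorem exists_lift_field {Y X : Scheme.{u}} (f : Y ⟶ X) [Mono f] [QuasiCompact f] (k : Type u) [Field k]
    (g : Spec (CommRingCat.of k) ⟶ X) (h : g (closedPoint k) ∈ Set.range f) :
    ∃ l : Spec (CommRingCat.of k) ⟶ Y, l ≫ f = g := by
  obtain ⟨y, hy⟩ := h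
  let q := pullback.snd f g
  obtain ⟨t, -, -⟩ := Scheme.Pullback.exists_preimage_pullback (f := f) (g := g) y (closedPoint k) hy
  haveI : Surjective q := ⟨fun x => ⟨t, Subsingleton.elim (α := ↥(Spec (CommRingCat.of k))) _ _⟩⟩
  haveI : Mono q := inferInstance
  haveI : IsIso q := Flat.isIso_of_surjective_of_mono q
  exact ⟨inv q ≫ pullback.fst f g, by rw [Category.assoc, pullback.condition, IsIso.inv_hom_id_assoc]⟩

/-- A specialization to another point of a noetherian scheme is realized by a discrete valuation ring. -/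
theorem exists_dvr_of_specializes {T : Scheme.{u}} [IsLocallyNoetherian T] {η w : T} (h : η ⤳ w)
    (hne : η ≠ w) :
    ∃ (R : Type u) (_ : CommRing R) (_ : IsDomain R) (_ : IsDiscreteValuationRing R)
      (ψ : Spec (CommRingCat.of R) ⟶ T), ψ (closedPoint R) = w ∧
      ∀ x, (Spec.map (CommRingCat.ofHom (algebraMap R (FractionRing R))) ≫ ψ) x = η := by
  let α : T.presheaf.stalk w ⟶ T.residueField η := T.presheaf.stalkSpecializes h ≫ T.residue η
  let P : Ideal (T.presheaf.stalk w) := RingHom.ker α.hom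
  haveI : P.IsPrime := RingHom.ker_isPrime _
  have hα : Spec.map α ≫ T.fromSpecStalk w = T.fromSpecResidueField η := by
    rw [Spec.map_comp, Category.assoc, Scheme.SpecMap_stalkSpecializes_fromSpecStalk]
    rfl
  have hP : T.fromSpecStalk w (⟨P, inferInstance⟩ : PrimeSpectrum (T.presheaf.stalk w)) = η := by
    have e := congrArg (fun z : Spec (T.residueField η) ⟶ T => z (closedPoint (T.residueField η))) hα
    refine Eq.trans ?_ (e.trans (Scheme.fromSpecResidueField_apply η _))
    show _ = T.fromSpecStalk w (PrimeSpectrum.comap α.hom (closedPoint (T.residueField η)))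
    congr 1
    refine PrimeSpectrum.ext ?_
    show RingHom.ker α.hom = Ideal.comap α.hom (IsLocalRing.maximalIdeal _)
    rw [IsLocalRing.maximalIdeal_eq_bot, ← RingHom.ker_eq_comap_bot]
  let A := T.presheaf.stalk w ⧸ P
  haveI : IsLocalRing A := .of_surjective' _ Ideal.Quotient.mk_surjective
  haveI : IsNoetherianRing A := inferInstance
  have hA : ¬ IsField A := fun hA => hne (by
    have : P.IsMaximal := Ideal.Quotient.maximal_of_isField P hA
    rw [← hP]
    refine Eq.trans ?_ (Scheme.fromSpecStalk_closedPoint (X := T) (x := w))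
    congr 1
    exact PrimeSpectrum.ext (IsLocalRing.eq_maximalIdeal this))
  obtain ⟨R, _, _, _, φ, hφ, hφl⟩ := DVRDom.exists_dvr A hA
  let g : T.presheaf.stalk w →+* R := φ.comp (Ideal.Quotient.mk P)
  haveI : IsLocalHom (Ideal.Quotient.mk P) := IsLocalHom.of_surjective _ Ideal.Quotient.mk_surjective
  haveI : IsLocalHom g := RingHom.isLocalHom_comp φ (Ideal.Quotient.mk P)
  refine ⟨R, inferInstance, inferInstance, inferInstance, Spec.map (CommRingCat.ofHom g) ≫ T.fromSpecStalk w,
    ?_, fun x => ?_⟩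
  · show T.fromSpecStalk w (PrimeSpectrum.comap g (closedPoint R)) = w
    rw [IsLocalRing.comap_closedPoint]
    exact Scheme.fromSpecStalk_closedPoint
  · show T.fromSpecStalk w (PrimeSpectrum.comap g (PrimeSpectrum.comap (algebraMap R (FractionRing R)) x)) = η
    refine Eq.trans ?_ hP
    congr 1
    refine PrimeSpectrum.ext ?_
    show Ideal.comap g (Ideal.comap (algebraMap R (FractionRing R)) x.asIdeal) = RingHom.ker α.hom
    rw [(Ideal.eq_bot_or_top x.asIdeal).resolve_right x.isPrime.ne_top, ← RingHom.ker_eq_comap_bot,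
      (RingHom.injective_iff_ker_eq_bot _).1 (IsFractionRing.injective R (FractionRing R)),
      ← RingHom.ker_eq_comap_bot, RingHom.ker_comp_of_injective _ hφ, Ideal.mk_ker]

/-- The affine case. -/
theorem isImmersion_of_dvrLift_affine {Y X : Scheme.{u}} [IsAffine X] [IsLocallyNoetherian X] (f : Y ⟶ X)
    [Mono f] [LocallyOfFiniteType f] [QuasiCompact f] (hd : DvrLift f) : IsImmersion f := by
  obtain ⟨T, j, π, _, _, _, hj⟩ := LocImm12.exists_openImmersion_finite f
  haveI : IsLocallyNoetherian T := LocallyOfFiniteType.isLocallyNoetherian π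
  haveI : IsAffine T := isAffine_of_isAffineHom π
  have hclosed : IsClosed (closure (Set.range j) \ Set.range j) :=
    isClosed_closure.sdiff j.isOpenEmbedding.isOpen_range
  let U : X.Opens := ⟨(π '' (closure (Set.range j) \ Set.range j))ᶜ, (π.isClosedMap _ hclosed).isOpen_compl⟩
  have hU : Set.range f ⊆ U := by
    rintro _ ⟨y, rfl⟩ ⟨w, ⟨hwc, hwj⟩, hw⟩
    obtain ⟨z, hz⟩ := ValCritLib.exists_specializes_of_mem_closure j w hwc
    obtain ⟨R, _, _, _, ψ, hψw, hψη⟩ := exists_dvr_of_specializes hz (fun e => hwj ⟨z, e⟩)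
    let ι := Spec.map (CommRingCat.ofHom (algebraMap R (FractionRing R)))
    have hr : Set.range (ι ≫ ψ) ⊆ Set.range j := by
      rintro _ ⟨x, rfl⟩; exact ⟨z, (hψη x).symm⟩
    have hi : IsOpenImmersion.lift j (ι ≫ ψ) hr ≫ j = ι ≫ ψ := IsOpenImmersion.lift_fac _ _ _
    obtain ⟨l, hl⟩ := hd R (ψ ≫ π)
      ⟨IsOpenImmersion.lift j (ι ≫ ψ) hr, by rw [← hj, reassoc_of% hi]⟩
      (exists_lift_field f _ _ ⟨y, by
        show f y = π (ψ (PrimeSpectrum.comap (IsLocalRing.residue R) (closedPoint (IsLocalRing.ResidueField R))))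
        rw [IsLocalRing.comap_closedPoint, hψw, hw]⟩)
    have hgen : ι ≫ l ≫ j = ι ≫ ψ := by
      rw [← hi, ← Category.assoc]
      congr 1
      rw [← cancel_mono f, Category.assoc, hl, ← hj, reassoc_of% hi]
    have e : l ≫ j = ψ := ValExtLib.hom_ext_of_generic (CommRingCat.ofHom (algebraMap R (FractionRing R)))
      (IsFractionRing.injective R (FractionRing R)) hgen
    exact hwj ⟨l (closedPoint R), by rw [← Scheme.Hom.comp_apply, e, hψw]⟩
  let V : T.Opens := π ⁻¹ᵁ U
  have hjV : Set.range j ⊆ (V : Set T) := by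
    rintro _ ⟨y, rfl⟩
    show π (j y) ∈ U
    rw [← Scheme.Hom.comp_apply, hj]
    exact hU ⟨y, rfl⟩
  let j' : Y ⟶ V := IsOpenImmersion.lift V.ι j (by simpa using hjV)
  have hj' : j' ≫ V.ι = j := IsOpenImmersion.lift_fac _ _ _
  haveI : IsOpenImmersion j' := by
    haveI : IsOpenImmersion (j' ≫ V.ι) := hj'.symm ▸ inferInstance
    exact IsOpenImmersion.of_comp j' V.ι
  haveI : IsClosedImmersion j' := by
    refine IsClosedImmersion.of_isPreimmersion j' ?_
    have e : Set.range j' = V.ι ⁻¹' closure (Set.range j) := by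
      refine Set.Subset.antisymm ?_ fun x hx => ?_
      · rintro _ ⟨y, rfl⟩
        exact subset_closure ⟨y, by rw [← Scheme.Hom.comp_apply, hj']⟩
      · by_contra hn
        refine x.2 ⟨V.ι x, ⟨hx, fun ⟨y, hy⟩ => hn ⟨y, V.ι.injective ?_⟩⟩, rfl⟩
        rw [← Scheme.Hom.comp_apply, hj', hy]
    rw [e]
    exact isClosed_closure.preimage V.ι.continuous
  let p : Y ⟶ U := j' ≫ π ∣_ U
  have hp : p ≫ U.ι = f := by
    rw [Category.assoc, morphismRestrict_ι, ← Category.assoc, hj', hj]
  haveI : Mono p := mono_of_mono_fac hp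
  haveI : IsClosedImmersion p := (IsClosedImmersion.iff_isFinite_and_mono _).2 ⟨inferInstance, inferInstance⟩
  rw [← hp]
  infer_instance

/-- A quasi-compact monomorphism of finite type with lifting of discrete valuation rings is an immersion. -/
theorem isImmersion_of_dvrLift {Y X : Scheme.{u}} [IsLocallyNoetherian X] (f : Y ⟶ X)
    [Mono f] [LocallyOfFiniteType f] [QuasiCompact f] (hd : DvrLift f) : IsImmersion f := by
  refine (IsZariskiLocalAtTarget.iff_of_iSup_eq_top (P := @IsImmersion) (fun O : X.affineOpens => O.1)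
    (iSup_affineOpens_eq_top X)).2 fun O => ?_
  haveI : IsAffine O.1.toScheme := O.2
  haveI : Mono (f ∣_ O.1) := by
    refine @mono_of_mono _ _ _ _ _ (f ∣_ O.1) O.1.ι ?_
    rw [morphismRestrict_ι]
    infer_instance
  haveI : IsLocallyNoetherian O.1.toScheme := isLocallyNoetherian_of_isOpenImmersion O.1.ι
  refine isImmersion_of_dvrLift_affine (f ∣_ O.1) fun R _ _ _ ψ h1 h2 => ?_
  obtain ⟨l₁, e₁⟩ := h1
  obtain ⟨l₂, e₂⟩ := h2
  obtain ⟨l, hl⟩ := hd R (ψ ≫ O.1.ι)
    ⟨l₁ ≫ (f ⁻¹ᵁ O.1).ι, by rw [Category.assoc, ← morphismRestrict_ι, reassoc_of% e₁]⟩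
    ⟨l₂ ≫ (f ⁻¹ᵁ O.1).ι, by rw [Category.assoc, ← morphismRestrict_ι, reassoc_of% e₂]⟩
  exact ⟨(isPullback_morphismRestrict f O.1).flip.lift l ψ hl, (isPullback_morphismRestrict f O.1).flip.lift_snd _ _ _⟩

end Groth.Agent.Stk19b
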