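import Groth.Agent.Stk19b.QuotTriv

/-! Fibres of `[X/G]` over an arbitrary base: isomorphism of objects with sections is the orbit relation. -/

set_option autoImplicit false
set_option linter.style.haveILetI false
set_option backward.isDefEq.respectTransparency false
set_option backward.isDefEq.respectTransparency.types false

universe u

open CategoryTheory CategoryTheory.Limits AlgebraicGeometry MonoidalCategory CartesianMonoidalCategory MonObj GrpObj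

namespace Groth.Agent.Stk19b.GeomFibre

open QuotTriv

variable {S : Scheme.{u}} {G X : Over S} [GrpObj G] {K : Precoverage Scheme.{u}} {aX : AlgGrp.Action G X} {T : Over S}

theorem base_eq {A B : (AlgSt.QuotObj.forget K G aX).Fiber T} (φ : A ⟶ B) :
    φ.1.base = eqToHom A.2 ≫ eqToHom B.2.symm := by
  haveI := φ.2
  have := IsHomLift.fac' (AlgSt.QuotObj.forget K G aX) (𝟙 T) φ.1
  rw [Category.id_comp] at this
  exact this

/-- Morphisms over the identity are morphisms of the fibre. -/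
def fibHom {A B : (AlgSt.QuotObj.forget K G aX).Fiber T} (φ : A.1 ⟶ B.1)
    (h : φ.base = eqToHom A.2 ≫ eqToHom B.2.symm) : A ⟶ B :=
  ⟨φ, IsHomLift.of_fac' _ _ _ A.2 B.2 (by rw [Category.id_comp]; exact h)⟩

theorem isIso_fib {A B : (AlgSt.QuotObj.forget K G aX).Fiber T} (φ : A ⟶ B) : IsIso φ := by
  haveI : IsIso φ.1.base := by rw [base_eq φ]; infer_instance
  haveI := isIso_of_base φ.1
  refine ⟨fibHom (inv φ.1) ?_, Subtype.ext (IsIso.hom_inv_id _), Subtype.ext (IsIso.inv_hom_id _)⟩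
  have h := congrArg AlgSt.QuotObj.Hom.base (IsIso.inv_hom_id φ.1)
  rw [AlgSt.QuotObj.comp_base, AlgSt.QuotObj.id_base, base_eq φ] at h
  rw [← cancel_mono (eqToHom A.2 ≫ eqToHom B.2.symm), h]
  simp

variable [K.HasIsos]

variable (K aX) in
/-- The trivial object of a point in the fibre. -/
noncomputable def mkFib (x : T ⟶ X) : (AlgSt.QuotObj.forget K G aX).Fiber T := ⟨triv K aX x, rfl⟩

theorem exists_iso_mkFib (A : (AlgSt.QuotObj.forget K G aX).Fiber T) (t : T ⟶ A.1.P)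
    (ht : t ≫ A.1.π = eqToHom A.2.symm) : Nonempty (mkFib K aX (t ≫ A.1.φ) ≅ A) := by
  obtain ⟨h, hb, -⟩ := exists_hom_of_point A.1 t _ ht (t ≫ A.1.φ) rfl
  let φ : mkFib K aX (t ≫ A.1.φ) ⟶ A :=
    fibHom h (hb.trans (by show eqToHom A.2.symm = 𝟙 T ≫ eqToHom A.2.symm; rw [Category.id_comp]))
  haveI := isIso_fib φ
  exact ⟨asIso φ⟩

theorem isIsomorphic_mkFib_iff (x x' : T ⟶ X) :
    Nonempty (mkFib K aX x ≅ mkFib K aX x') ↔ ∃ g : T ⟶ G, smulPt aX g x' = x := by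
  refine ⟨fun ⟨i⟩ => ?_, fun ⟨g, hg⟩ => ?_⟩
  · obtain ⟨g, hg, -⟩ := exists_smul_of_hom (K := K) i.hom.1 (𝟙 T)
      ((base_eq i.hom).trans (by show 𝟙 T ≫ 𝟙 T = 𝟙 T; rw [Category.id_comp]))
    exact ⟨g, by rwa [Category.id_comp] at hg⟩
  · obtain ⟨h, hb, -⟩ := exists_hom_of_smul (K := K) x x' (𝟙 T) g (by rwa [Category.id_comp])
    let φ : mkFib K aX x ⟶ mkFib K aX x' :=
      fibHom h (hb.trans (by show 𝟙 T = 𝟙 T ≫ 𝟙 T; rw [Category.id_comp]))
    haveI := isIso_fib φ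
    exact ⟨asIso φ⟩

theorem isomorphic_iff (A B : (AlgSt.QuotObj.forget K G aX).Fiber T) (tA : T ⟶ A.1.P) (tB : T ⟶ B.1.P)
    (hA : tA ≫ A.1.π = eqToHom A.2.symm) (hB : tB ≫ B.1.π = eqToHom B.2.symm) :
    Nonempty (A ≅ B) ↔ ∃ g : T ⟶ G, smulPt aX g (tA ≫ A.1.φ) = tB ≫ B.1.φ := by
  obtain ⟨iA⟩ := exists_iso_mkFib A tA hA
  obtain ⟨iB⟩ := exists_iso_mkFib B tB hB
  rw [← isIsomorphic_mkFib_iff (K := K)]
  exact ⟨fun ⟨i⟩ => ⟨iB ≪≫ i.symm ≪≫ iA.symm⟩, fun ⟨i⟩ => ⟨iA.symm ≪≫ i.symm ≪≫ iB⟩⟩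

end Groth.Agent.Stk19b.GeomFibre
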