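import Groth.Prelude.Def_AlgSt5

/-! Trivial objects of a quotient category `[X/G]`: morphisms, trivialisations by sections. -/

set_option autoImplicit false
set_option backward.isDefEq.respectTransparency false
set_option backward.isDefEq.respectTransparency.types false

universe u

open CategoryTheory CategoryTheory.Limits AlgebraicGeometry MonoidalCategory CartesianMonoidalCategory MonObj GrpObj

namespace Groth.Agent.Stk19b.QuotTriv

variable {S : Scheme.{u}} {G X : Over S} [GrpObj G]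

/-- `g • x` on `T`-points. -/
noncomputable abbrev smulPt (a : AlgGrp.Action G X) {T : Over S} (g : T ⟶ G) (x : T ⟶ X) : T ⟶ X :=
  lift g x ≫ a.act

theorem smulPt_mul (a : AlgGrp.Action G X) {T : Over S} (g h : T ⟶ G) (x : T ⟶ X) :
    smulPt a (g * h) x = smulPt a g (smulPt a h x) := by
  rw [Hom.mul_def]
  have h1 : lift (lift g h) x ≫ (μ[G] ▷ X) = lift (lift g h ≫ μ[G]) x := lift_whiskerRight _ _ _
  show lift (lift g h ≫ μ[G]) x ≫ a.act = _
  rw [← h1, Category.assoc, a.mul_act]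
  simp

theorem smulPt_one (a : AlgGrp.Action G X) {T : Over S} (x : T ⟶ X) : smulPt a 1 x = x := by
  rw [Hom.one_def]
  show lift (toUnit T ≫ η[G]) x ≫ a.act = x
  rw [← lift_whiskerRight, Category.assoc, a.one_act, lift_leftUnitor_hom]

theorem comp_smulPt (a : AlgGrp.Action G X) {T' T : Over S} (k : T' ⟶ T) (g : T ⟶ G) (x : T ⟶ X) :
    k ≫ smulPt a g x = smulPt a (k ≫ g) (k ≫ x) := by
  show k ≫ lift g x ≫ a.act = lift (k ≫ g) (k ≫ x) ≫ a.act
  rw [comp_lift_assoc]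

theorem smulPt_inv_smul (a : AlgGrp.Action G X) {T : Over S} (g : T ⟶ G) (x : T ⟶ X) :
    smulPt a g⁻¹ (smulPt a g x) = x := by
  rw [← smulPt_mul, inv_mul_cancel, smulPt_one]

theorem smulPt_smul_inv (a : AlgGrp.Action G X) {T : Over S} (g : T ⟶ G) (x : T ⟶ X) :
    smulPt a g (smulPt a g⁻¹ x) = x := by
  rw [← smulPt_mul, mul_inv_cancel, smulPt_one]

theorem whiskerLeft_eq {T Y : Over S} (t : T ⟶ Y) : G ◁ t = lift (fst G T) (snd G T ≫ t) := by
  apply CartesianMonoidalCategory.hom_ext <;> simp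

variable {K : Precoverage Scheme.{u}} {aX : AlgGrp.Action G X}

theorem comp_φ (A : AlgSt.QuotObj K G aX) {T : Over S} (g : T ⟶ G) (p : T ⟶ A.P) :
    smulPt A.act g p ≫ A.φ = smulPt aX g (p ≫ A.φ) := by
  show (lift g p ≫ A.act.act) ≫ A.φ = lift g (p ≫ A.φ) ≫ aX.act
  rw [Category.assoc, A.eqv, lift_whiskerLeft_assoc]

theorem smulPt_π (A : AlgSt.QuotObj K G aX) {T : Over S} (g : T ⟶ G) (p : T ⟶ A.P) :
    smulPt A.act g p ≫ A.π = p ≫ A.π := by
  show (lift g p ≫ A.act.act) ≫ A.π = p ≫ A.π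
  rw [Category.assoc, A.cart.w, lift_snd_assoc]

theorem existsUnique_smul (A : AlgSt.QuotObj K G aX) {T : Over S} (p q : T ⟶ A.P)
    (h : q ≫ A.π = p ≫ A.π) : ∃! g : T ⟶ G, smulPt A.act g p = q := by
  refine ⟨A.cart.lift q p h ≫ fst _ _, ?_, fun g hg => ?_⟩
  · show lift (A.cart.lift q p h ≫ fst _ _) p ≫ A.act.act = q
    have e : lift (A.cart.lift q p h ≫ fst _ _) p = A.cart.lift q p h := by
      apply CartesianMonoidalCategory.hom_ext <;> simp
    rw [e, A.cart.lift_fst]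
  · have e : lift g p = A.cart.lift q p h :=
      A.cart.hom_ext (by rw [A.cart.lift_fst]; exact hg) (by simp)
    rw [← e, lift_fst]

theorem hom_top_smul {A B : AlgSt.QuotObj K G aX} (h : A ⟶ B) {T : Over S} (g : T ⟶ G) (p : T ⟶ A.P) :
    smulPt A.act g p ≫ h.top = smulPt B.act g (p ≫ h.top) := by
  show (lift g p ≫ A.act.act) ≫ h.top = lift g (p ≫ h.top) ≫ B.act.act
  rw [Category.assoc, h.eqv, lift_whiskerLeft_assoc]

theorem isIso_of_base {A B : AlgSt.QuotObj K G aX} (h : A ⟶ B) [IsIso h.base] : IsIso h := by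
  haveI : IsIso h.top := h.cart.isIso_fst_of_isIso
  refine ⟨⟨{ base := inv h.base, top := inv h.top, eqv := ?_, cart := ?_, wφ := ?_ }, ?_, ?_⟩⟩
  · rw [← cancel_mono h.top, Category.assoc, Category.assoc, IsIso.inv_hom_id, Category.comp_id, h.eqv,
      ← MonoidalCategory.whiskerLeft_comp_assoc, IsIso.inv_hom_id]
    simp
  · exact IsPullback.of_horiz_isIso ⟨by rw [IsIso.inv_comp_eq, ← Category.assoc, IsIso.eq_comp_inv, h.cart.w]⟩
  · rw [IsIso.inv_comp_eq, h.wφ]
  · exact AlgSt.QuotObj.hom_ext (IsIso.hom_inv_id _) (IsIso.hom_inv_id _)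
  · exact AlgSt.QuotObj.hom_ext (IsIso.inv_hom_id _) (IsIso.inv_hom_id _)

variable [K.HasIsos]

variable (K aX) in
/-- The trivial object of a point `x`. -/
noncomputable abbrev triv {T : Over S} (x : T ⟶ X) : AlgSt.QuotObj K G aX :=
  (AlgSt.quotMap K G aX).obj ((AlgSt.ofOverCat X).obj (Over.mk x))

/-- The unit section of the trivial torsor. -/
noncomputable abbrev unitSec (T : Over S) : T ⟶ G ⊗ T := lift 1 (𝟙 T)

theorem triv_smul {T : Over S} (x : T ⟶ X) {Z : Over S} (g h : Z ⟶ G) (t : Z ⟶ T) :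
    smulPt (triv K aX x).act g (lift h t) = (lift (g * h) t : Z ⟶ G ⊗ T) := by
  show lift g (lift h t) ≫ lift (fst G (G ⊗ T) * (snd G (G ⊗ T) ≫ fst G T)) (snd G (G ⊗ T) ≫ snd G T) = _
  rw [comp_lift, MonObj.comp_mul]
  simp

theorem triv_φ {T : Over S} (x : T ⟶ X) {Z : Over S} (h : Z ⟶ G) (t : Z ⟶ T) :
    lift h t ≫ (triv K aX x).φ = smulPt aX h (t ≫ x) := by
  show lift h t ≫ (G ◁ x) ≫ aX.act = lift h (t ≫ x) ≫ aX.act
  rw [lift_whiskerLeft_assoc]

theorem unitSec_φ {T : Over S} (x : T ⟶ X) : unitSec T ≫ (triv K aX x).φ = x := by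
  rw [triv_φ, Category.id_comp, smulPt_one]

/-- A point of the torsor over `f` gives a morphism from a trivial object. -/
theorem exists_hom_of_point (A : AlgSt.QuotObj K G aX) {T : Over S} (t : T ⟶ A.P) (f : T ⟶ A.base)
    (hf : t ≫ A.π = f) (x : T ⟶ X) (hx : t ≫ A.φ = x) :
    ∃ h : triv K aX x ⟶ A, h.base = f ∧ h.top = smulPt A.act (fst G T) (snd G T ≫ t) := by
  subst hx hf
  refine ⟨{ base := t ≫ A.π, top := smulPt A.act (fst G T) (snd G T ≫ t), eqv := ?_, cart := ?_, wφ := ?_ }, rfl, rfl⟩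
  · show (AlgSt.leftMul G T).act ≫ smulPt A.act (fst G T) (snd G T ≫ t) =
      (G ◁ smulPt A.act (fst G T) (snd G T ≫ t)) ≫ A.act.act
    have e : (AlgSt.leftMul G T).act =
        lift (fst G (G ⊗ T) * (snd G (G ⊗ T) ≫ fst G T)) (snd G (G ⊗ T) ≫ snd G T) := rfl
    rw [comp_smulPt, e, lift_fst, lift_snd_assoc, smulPt_mul, whiskerLeft_eq, comp_smulPt, Category.assoc]
  · have e : smulPt A.act (fst G T) (snd G T ≫ t) = (G ◁ t) ≫ A.act.act := by rw [whiskerLeft_eq]
    rw [e]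
    exact (AlgSt.isPullback_whiskerLeft t).paste_horiz A.cart
  · rw [comp_φ, Category.assoc]
    show _ = (G ◁ (t ≫ A.φ)) ≫ aX.act
    rw [whiskerLeft_eq]

theorem top_eq {A : AlgSt.QuotObj K G aX} {T : Over S} {x : T ⟶ X} (h : triv K aX x ⟶ A) :
    h.top = smulPt A.act (fst G T) (snd G T ≫ unitSec T ≫ h.top) := by
  have e : smulPt (triv K aX x).act (fst G T) (snd G T ≫ unitSec T) = (𝟙 (G ⊗ T) : G ⊗ T ⟶ G ⊗ T) := by
    rw [comp_lift, MonObj.comp_one, Category.comp_id, triv_smul, _root_.mul_one, lift_fst_snd]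
  exact ((Category.id_comp _).symm.trans (congrArg (· ≫ h.top) e).symm).trans
    ((hom_top_smul h _ _).trans (congrArg _ (Category.assoc _ _ _)))

theorem unitSec_top_π {A : AlgSt.QuotObj K G aX} {T : Over S} {x : T ⟶ X} (h : triv K aX x ⟶ A) :
    unitSec T ≫ h.top ≫ A.π = h.base := by
  rw [h.cart.w]
  show lift 1 (𝟙 T) ≫ snd G T ≫ h.base = h.base
  rw [lift_snd_assoc, Category.id_comp]

theorem exists_smul_of_hom {T T' : Over S} {x : T ⟶ X} {x' : T' ⟶ X} (h : triv K aX x ⟶ triv K aX x')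
    (f : T ⟶ T') (hf : h.base = f) :
    ∃ g : T ⟶ G, smulPt aX g (f ≫ x') = x ∧ h.top = lift (fst G T * (snd G T ≫ g)) (snd G T ≫ f) := by
  let p : T ⟶ G ⊗ T' := unitSec T ≫ h.top
  have hp2 : p ≫ snd G T' = f := (Category.assoc _ _ _).trans ((unitSec_top_π h).trans hf)
  have hp : p = lift (p ≫ fst G T') f := by
    apply CartesianMonoidalCategory.hom_ext
    · simp
    · rw [lift_snd, hp2]
  refine ⟨p ≫ fst G T', ?_, ?_⟩
  · rw [← triv_φ (K := K) x', ← hp]
    show (unitSec T ≫ h.top) ≫ (triv K aX x').φ = x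
    rw [Category.assoc, h.wφ, unitSec_φ]
  · refine (top_eq h).trans ?_
    show smulPt (triv K aX x').act (fst G T) (snd G T ≫ p) = _
    rw [hp, comp_lift, triv_smul]
    simp

theorem exists_hom_of_smul {T T' : Over S} (x : T ⟶ X) (x' : T' ⟶ X) (f : T ⟶ T') (g : T ⟶ G)
    (hg : smulPt aX g (f ≫ x') = x) :
    ∃ h : triv K aX x ⟶ triv K aX x', h.base = f ∧ h.top = lift (fst G T * (snd G T ≫ g)) (snd G T ≫ f) := by
  obtain ⟨h, h1, h2⟩ := exists_hom_of_point (triv K aX x') (lift g f) f (lift_snd _ _) x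
    ((triv_φ (K := K) x' g f).trans hg)
  refine ⟨h, h1, h2.trans ?_⟩
  rw [comp_lift, triv_smul]

end Groth.Agent.Stk19b.QuotTriv
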