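import Groth.Agent.AlgSpLib.RelDimLocus
import Groth.Agent.AlgSpLib.SheafCoprod
import Groth.Prelude.Def_AlgSpGpd

/-!
For a group algebraic space, a fibrewise pointwise property of the structure map is detected along the unit.
-/

set_option autoImplicit false
set_option backward.isDefEq.respectTransparency false
set_option backward.isDefEq.respectTransparency.types false

universe u

open CategoryTheory CategoryTheory.Limits AlgebraicGeometry MonoidalCategory CartesianMonoidalCategory MonObj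
open AlgSp

noncomputable section

namespace Groth.Agent.Stk19b.GrpLocus

variable {S : Scheme.{u}}

/-- A pointwise property of lft morphisms of algebraic spaces which is insensitive to base change. -/
structure PtProp (Loc : MorphismProperty Scheme.{u}) where
  /-- the predicate -/
  Q : ∀ {X Y : Sp S}, (X ⟶ Y) → Points X → Prop
  baseChange : ∀ {X Y X' Y' : Sp S}, IsAlgSpace X → IsAlgSpace Y → IsAlgSpace Y' → IsAlgSpace X' →
    ∀ {f : X ⟶ Y} {g : Y' ⟶ Y} {g' : X' ⟶ X} {f' : X' ⟶ Y'}, IsPullback g' f' f g →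
      LocP @LocallyOfFiniteType f → ∀ x', Q f' x' ↔ Q f (Points.map g' x')
  locP_iff : ∀ {X Y : Sp S}, IsAlgSpace X → IsAlgSpace Y → ∀ {f : X ⟶ Y},
    LocP @LocallyOfFiniteType f → (LocP Loc f ↔ ∀ x, Q f x)
  isOpen : ∀ {X Y : Sp S}, IsAlgSpace X → IsAlgSpace Y → ∀ {f : X ⟶ Y},
    LocP @LocallyOfFiniteType f → IsOpen {x : Points X | Q f x}

variable {Loc : MorphismProperty Scheme.{u}} (P : PtProp (S := S) Loc) {B : Sp S} (G : Over B) [GrpObj G]

/-- The unit section. -/
abbrev unitSec : B ⟶ G.left := (1 : Over.mk (𝟙 B) ⟶ G).left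

theorem unit_left {T : Over B} : (1 : T ⟶ G).left = T.hom ≫ unitSec G := by
  let k : T ⟶ Over.mk (𝟙 B) := Over.homMk T.hom (Category.comp_id _)
  rw [← MonObj.comp_one (M := G) k]
  rfl

/-- The square `G ×_B G` over its second factor. -/
abbrev GG : Over B := Over.mk (pullback.snd G.hom G.hom ≫ G.hom)

abbrev pr₁ : GG G ⟶ G := Over.homMk (pullback.fst G.hom G.hom) pullback.condition
abbrev pr₂ : GG G ⟶ G := Over.homMk (pullback.snd G.hom G.hom) rfl

abbrev shearHom (a : GG G ⟶ G) : pullback G.hom G.hom ⟶ pullback G.hom G.hom :=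
  pullback.lift a.left (pullback.snd G.hom G.hom) (Over.w a)

theorem shearHom_comp (a b : GG G ⟶ G) (k : GG G ⟶ GG G) (hk : k.left = shearHom G b)
    (h : k ≫ a = pr₁ G) : shearHom G b ≫ shearHom G a = 𝟙 _ := by
  refine pullback.hom_ext ?_ ?_
  · rw [Category.assoc, pullback.lift_fst, ← hk, ← Over.comp_left, h, Category.id_comp]
    rfl
  · rw [Category.assoc, pullback.lift_snd, pullback.lift_snd, Category.id_comp]

/-- `(x, y) ↦ (x * y, y)`. -/
def shear : pullback G.hom G.hom ≅ pullback G.hom G.hom where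
  hom := shearHom G (pr₁ G * pr₂ G)
  inv := shearHom G (pr₁ G * (pr₂ G)⁻¹)
  hom_inv_id := by
    let k : GG G ⟶ GG G := Over.homMk (shearHom G (pr₁ G * pr₂ G))
      (by simp only [Over.mk_hom, pullback.lift_snd_assoc])
    refine shearHom_comp G _ _ k rfl ?_
    have h1 : k ≫ pr₁ G = pr₁ G * pr₂ G := Over.OverMorphism.ext (pullback.lift_fst _ _ _)
    have h2 : k ≫ pr₂ G = pr₂ G := Over.OverMorphism.ext (pullback.lift_snd _ _ _)
    rw [MonObj.comp_mul, GrpObj.comp_inv, h1, h2, mul_inv_cancel_right]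
  inv_hom_id := by
    let k : GG G ⟶ GG G := Over.homMk (shearHom G (pr₁ G * (pr₂ G)⁻¹))
      (by simp only [Over.mk_hom, pullback.lift_snd_assoc])
    refine shearHom_comp G _ _ k rfl ?_
    have h1 : k ≫ pr₁ G = pr₁ G * (pr₂ G)⁻¹ := Over.OverMorphism.ext (pullback.lift_fst _ _ _)
    have h2 : k ≫ pr₂ G = pr₂ G := Over.OverMorphism.ext (pullback.lift_snd _ _ _)
    rw [MonObj.comp_mul, h1, h2, inv_mul_cancel_right]

/-- The section through the unit. -/
abbrev unitPair : G.left ⟶ pullback G.hom G.hom :=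
  pullback.lift (G.hom ≫ unitSec G) (𝟙 _) (by
    rw [Category.assoc, Over.w (1 : Over.mk (𝟙 B) ⟶ G)]
    simp)

theorem unitPair_shear : unitPair G ≫ (shear G).hom = pullback.lift (𝟙 _) (𝟙 _) rfl := by
  let k : G ⟶ GG G := Over.homMk (unitPair G) (by simp only [Over.mk_hom, pullback.lift_snd_assoc, Category.id_comp])
  have h1 : k ≫ pr₁ G = 1 := Over.OverMorphism.ext ((pullback.lift_fst _ _ _).trans (unit_left G).symm)
  have h2 : k ≫ pr₂ G = 𝟙 G := Over.OverMorphism.ext (pullback.lift_snd _ _ _)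
  refine pullback.hom_ext ?_ ?_
  · rw [Category.assoc, shear, pullback.lift_fst, pullback.lift_fst]
    change (k ≫ (pr₁ G * pr₂ G)).left = 𝟙 G.left
    rw [MonObj.comp_mul, h1, h2, _root_.one_mul]
    rfl
  · simp [shear]

variable (hB : IsAlgSpace B) (hG : IsAlgSpace G.left) (hf : LocP @LocallyOfFiniteType G.hom)

include hB hG hf

theorem pt_iff_of {Q : ∀ {X Y : Sp S}, (X ⟶ Y) → Points X → Prop}
    (hbc : ∀ {X Y X' Y' : Sp S}, IsAlgSpace X → IsAlgSpace Y → IsAlgSpace Y' → IsAlgSpace X' →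
      ∀ {f : X ⟶ Y} {g : Y' ⟶ Y} {g' : X' ⟶ X} {f' : X' ⟶ Y'}, IsPullback g' f' f g →
        LocP @LocallyOfFiniteType f → ∀ x', Q f' x' ↔ Q f (Points.map g' x'))
    (x : Points G.left) :
    Q G.hom (Points.map (G.hom ≫ unitSec G) x) ↔ Q G.hom x := by
  have sq := IsPullback.of_hasPullback G.hom G.hom
  have hP := AlgSpLib.isAlgSpace_of_isPullback hB.diag hG hG sq
  have hl : LocP @LocallyOfFiniteType (pullback.snd G.hom G.hom) :=
    AlgSpLib.locP_of_isPullback AlgSpLib.etLocal_lft hG hB hP sq hf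
  have sq' : IsPullback (shear G).hom (pullback.snd G.hom G.hom) (pullback.snd G.hom G.hom) (𝟙 _) :=
    IsPullback.of_horiz_isIso ⟨by simp [shear]⟩
  rw [Points.map_comp]
  have e1 := hbc hG hB hG hP sq hf (Points.map (unitPair G) x)
  have e2 := hbc hG hB hG hP sq hf (Points.map (unitPair G ≫ (shear G).hom) x)
  have e3 := hbc hP hG hG hP sq' hl (Points.map (unitPair G) x)
  rw [← Points.map_comp, pullback.lift_fst, Points.map_comp] at e1
  rw [← Points.map_comp, unitPair_shear, pullback.lift_fst, Points.map_id] at e2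
  rw [← Points.map_comp, unitPair_shear] at e3
  exact e1.symm.trans (e3.trans e2)

include P

theorem pt_iff (x : Points G.left) :
    P.Q G.hom (Points.map (G.hom ≫ unitSec G) x) ↔ P.Q G.hom x :=
  pt_iff_of G hB hG hf P.baseChange x

theorem locus_spec {T Z : Sp S} (hT : IsAlgSpace T) {w : T ⟶ B} {fst : Z ⟶ G.left} {snd : Z ⟶ T}
    (sq : IsPullback fst snd G.hom w) :
    LocP Loc snd ↔ Set.range (Points.map w) ⊆ {b | P.Q G.hom (Points.map (unitSec G) b)} := by
  have hP := AlgSpLib.isAlgSpace_of_isPullback hB.diag hG hT sq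
  have hl : LocP @LocallyOfFiniteType snd :=
    AlgSpLib.locP_of_isPullback AlgSpLib.etLocal_lft hG hB hP sq hf
  rw [P.locP_iff hP hT hl]
  constructor
  · rintro h _ ⟨t, rfl⟩
    obtain ⟨z, hz, -⟩ := AlgSpLib.exists_point_of_isPullback sq
      (x := Points.map (unitSec G) (Points.map w t)) (y := t) (by
        rw [← Points.map_comp, Over.w (1 : Over.mk (𝟙 B) ⟶ G)]
        exact Points.map_id _)
    have := (P.baseChange hG hB hT hP sq hf z).1 (h z)
    rwa [hz] at this
  · intro h z
    rw [P.baseChange hG hB hT hP sq hf z, ← pt_iff P G hB hG hf, Points.map_comp]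
    exact h ⟨Points.map snd z, by rw [← Points.map_comp, ← sq.w, Points.map_comp]⟩

/-- The largest open subspace over which the property holds, commuting with base change. -/
theorem exists_largest :
    ∃ (W : AlgSp.Sp S) (w : W ⟶ B), RepWith @IsOpenImmersion w ∧
      (∀ (W' : AlgSp.Sp S) (w' : W' ⟶ B), RepWith @IsOpenImmersion w' →
        (LocP Loc (pullback.snd G.hom w') ↔ ∃ k : W' ⟶ W, k ≫ w = w')) ∧
      (∀ (B' : AlgSp.Sp S), IsAlgSpace B' → ∀ (f : B' ⟶ B) (W'' : AlgSp.Sp S) (w'' : W'' ⟶ B'),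
        RepWith @IsOpenImmersion w'' →
        (LocP Loc (pullback.snd (pullback.snd G.hom f) w'') ↔
          ∃ k : W'' ⟶ pullback w f, k ≫ pullback.snd w f = w'')) := by
  let Ω : Set (Points B) := {b | P.Q G.hom (Points.map (unitSec G) b)}
  have hΩ : IsOpen Ω := (P.isOpen hG hB hf).preimage (Points.continuous_map (unitSec G))
  have hj := AlgSpLib.repWith_openSubspaceι B hΩ
  refine ⟨AlgSpLib.openSubspace B Ω, AlgSpLib.openSubspaceι B Ω, hj, fun W' w' hw' => ?_,
    fun B' hB' f W'' w'' hw'' => ?_⟩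
  · rw [locus_spec P G hB hG hf (AlgSpLib.isAlgSpace_of_openImmersion hB hw') (IsPullback.of_hasPullback G.hom w'),
      AlgSpLib.exists_lift_iff_range_subset hj, AlgSpLib.range_openSubspaceι]
  · have hW'' := AlgSpLib.isAlgSpace_of_openImmersion hB' hw''
    rw [locus_spec P G hB hG hf hW''
      ((IsPullback.of_hasPullback (pullback.snd G.hom f) w'').paste_horiz (IsPullback.of_hasPullback G.hom f))]
    constructor
    · intro h
      obtain ⟨k, hk⟩ := (AlgSpLib.exists_lift_iff_range_subset hj (w'' ≫ f)).2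
        (by rw [AlgSpLib.range_openSubspaceι]; exact h)
      exact ⟨pullback.lift k w'' hk, pullback.lift_snd _ _ _⟩
    · rintro ⟨k, hk⟩
      have := (AlgSpLib.exists_lift_iff_range_subset hj (w'' ≫ f)).1
        ⟨k ≫ pullback.fst _ f, by rw [Category.assoc, pullback.condition, reassoc_of% hk]⟩
      rwa [AlgSpLib.range_openSubspaceι] at this

end Groth.Agent.Stk19b.GrpLocus
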