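import Groth.Agent.AlgSpLib.RelDimLocus
import Groth.Agent.Stk19b.GrpLocus
import Groth.Agent.Stk19b.EtaleDim
import Groth.Agent.S10142

/-!
Groups and groupoids over a field are equidimensional.
-/

set_option autoImplicit false
set_option backward.isDefEq.respectTransparency false
set_option backward.isDefEq.respectTransparency.types false

universe u

open CategoryTheory CategoryTheory.Limits AlgebraicGeometry
open AlgSp Groth.Agent.AlgSpLib

noncomputable section

namespace Groth.Agent.Stk19b.FieldDim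

theorem coheight_le_dim {X : Scheme.{u}} (W : X.Opens) (x : X) (hx : x ∈ W) :
    (Order.coheight x : WithBot ℕ∞) ≤ topologicalKrullDim (W : Set X) := by
  let x' : ↥(W : Scheme.{u}) := ⟨x, hx⟩
  have h1 : Order.coheight (W.ι x') = Order.coheight x' := EtaleDim.coheight_eq W.ι x'
  have h2 : W.ι x' = x := rfl
  rw [h2] at h1
  rw [h1]
  show _ ≤ topologicalKrullDim (W : Scheme.{u})
  rw [EtaleDim.topologicalKrullDim_eq_iSup_coheight]
  exact le_iSup (fun y : ↥(W : Scheme.{u}) => (Order.coheight y : WithBot ℕ∞)) x'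

theorem topologicalKrullDim_eq_iSup_localDim (X : Scheme.{u}) :
    topologicalKrullDim X = ⨆ x : X, FlatMor.localDim X x := by
  refine le_antisymm ?_ (iSup_le fun x => ?_)
  · rw [EtaleDim.topologicalKrullDim_eq_iSup_coheight]
    exact iSup_le fun x => le_iSup_of_le x (le_iInf fun U => coheight_le_dim U.1 x U.2)
  · exact (iInf_le _ ⟨⊤, trivial⟩).trans (Topology.IsInducing.subtypeVal).topologicalKrullDim_le

theorem fibreDimAt_of_subsingleton {U V : Scheme.{u}} (h : U ⟶ V) [Subsingleton V] (u : U) :
    FlatMor.fibreDimAt h u = FlatMor.localDim U u := by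
  have hs : Function.Surjective (h.fiberι (h u)) := fun x => by
    have : x ∈ Set.range (h.fiberι (h u)) := by
      rw [h.range_fiberι (h u)]
      exact Subsingleton.elim (α := V) _ _
    exact this
  have he : Topology.IsOpenEmbedding (h.fiberι (h u)) :=
    ⟨(h.fiberι (h u)).isEmbedding, by rw [hs.range_eq]; exact isOpen_univ⟩
  show FlatMor.localDim _ (h.asFiber u) = _
  rw [localDim_eq_of_map he.continuous he.isOpenMap he.generalizingMap
    (fun _ _ _ e => he.injective e) (h.asFiber u), Scheme.Hom.fiberι_asFiber]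

variable {S : Scheme.{u}} {X : Sp S} {V : Over S} [Subsingleton V.left] (hX : IsAlgSpace X)
  (f : X ⟶ (yon S).obj V)

include hX f

theorem fibreDim_iff_localDim (U : Over S) (a : (yon S).obj U ⟶ X) (u : ↥U.left) (d : WithBot ℕ∞)
    (ha : RepWith @Etale a) :
    HasAtMor (fun _ _ h u => FlatMor.fibreDimAt h u = d) f (Points.ofPt a u) ↔
      FlatMor.localDim ↥U.left u = d := by
  obtain ⟨h, hh⟩ := (yon S).map_surjective (a ≫ f)
  rw [hasAtMor_fibreDim_iff hX (IsAlgSpace.yon_obj V) f a (𝟙 _) h ha (repWith_id _ V)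
    (by rw [hh, Category.comp_id]) u d, fibreDimAt_of_subsingleton h.left u]

/-- A nonempty space of constant relative dimension over a one point scheme has that dimension. -/
theorem dim_eq_of_const (x₀ : Points X) (d : WithBot ℕ∞)
    (hconst : ∀ x, HasAtMor (fun _ _ h u => FlatMor.fibreDimAt h u = d) f x) : AlgSp.dim X = d := by
  obtain ⟨U₀, a, ha, has⟩ := hX.atlas
  obtain ⟨u₀, -⟩ := surjective_ofPt a has x₀
  have hall : ∀ (U : Over S) (b : (yon S).obj U ⟶ X) (u : ↥U.left), RepWith @Etale b →
      FlatMor.localDim ↥U.left u = d := fun U b u hb =>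
    (fibreDim_iff_localDim hX f U b u d hb).1 (hconst _)
  refine le_antisymm (iSup_le fun U => iSup_le fun b => iSup_le fun hb => ?_)
    (le_iSup_of_le U₀ (le_iSup_of_le a (le_iSup_of_le ha ?_)))
  · rw [topologicalKrullDim_eq_iSup_localDim]
    exact iSup_le fun u => (hall U b u hb).le
  · rw [topologicalKrullDim_eq_iSup_localDim]
    exact le_iSup_of_le u₀ (hall U₀ a u₀ ha).ge

/-- A space over a one point scheme with constant relative dimension is equidimensional. -/
theorem hasAt_localDim (x₀ : Points X)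
    (hconst : ∀ x d, HasAtMor (fun _ _ h u => FlatMor.fibreDimAt h u = d) f x₀ →
      HasAtMor (fun _ _ h u => FlatMor.fibreDimAt h u = d) f x)
    (x : Points X) :
    HasAt (fun U u => FlatMor.localDim ↥U u = AlgSp.dim X) X x := by
  obtain ⟨U₀, a, ha, has⟩ := hX.atlas
  obtain ⟨u₀, hu₀⟩ := surjective_ofPt a has x₀
  let d := FlatMor.localDim ↥U₀.left u₀
  have hall : ∀ y, HasAtMor (fun _ _ h u => FlatMor.fibreDimAt h u = d) f y := fun y =>
    hconst y d (hu₀ ▸ (fibreDim_iff_localDim hX f U₀ a u₀ d ha).2 rfl)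
  obtain ⟨u, hu⟩ := surjective_ofPt a has x
  exact ⟨U₀, a, u, ha, hu, ((fibreDim_iff_localDim hX f U₀ a u d ha).1 (hall _)).trans
    (dim_eq_of_const hX f x₀ d hall).symm⟩

end Groth.Agent.Stk19b.FieldDim
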