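import Mathlib.Algebra.Category.ModuleCat.Sheaf.Quasicoherent
import Mathlib.Algebra.Category.ModuleCat.Sheaf.PullbackFree

/-!
Pullback of sheaves of modules commutes with restriction to slices, and preserves quasi-coherence.
-/

set_option autoImplicit false
set_option backward.isDefEq.respectTransparency false
set_option backward.defeqAttrib.useBackward true

universe u v₁ v₂ u₁ u₂

open CategoryTheory Limits

noncomputable section

namespace Groth.Agent.Stk19b.QPull

variable {C : Type u₁} [Category.{v₁} C] {D : Type u₂} [Category.{v₂} D]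
  {J : GrothendieckTopology C} {K : GrothendieckTopology D} (F : C ⥤ D)
  [HasBinaryProducts C] [HasBinaryProducts D] [PreservesLimitsOfShape (Discrete WalkingPair) F]
  {S : Sheaf J RingCat.{u}} {R : Sheaf K RingCat.{u}}

instance final_post (x : C) : (Over.post (X := x) F).Final := by
  have : HasTerminal (Over x) := Over.mkIdTerminal.hasTerminal
  have : PreservesLimit (Functor.empty.{0} (Over x)) (Over.post (X := x) F) :=
    preservesLimit_of_preserves_limit_cone Over.mkIdTerminal
      ((isLimitMapConeEmptyConeEquiv _ _).symm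
        (Over.mkIdTerminal.ofIso (Over.isoMk (Iso.refl _) (by simp))))
  infer_instance

/-- The two ways of going from `C` to the slice of `D` at `F x`. -/
def starIso (x : C) : Over.star x ⋙ Over.post F ≅ F ⋙ Over.star (F.obj x) :=
  NatIso.ofComponents (fun y ↦ Over.isoMk (PreservesLimitPair.iso F x y) (by simp)) (fun {y z} f ↦ by
    ext
    dsimp
    ext <;> simp [← Functor.map_comp])

variable [F.IsContinuous J K] [∀ x, (Over.post (X := x) F).IsContinuous (J.over x) (K.over _)]
  (φ : S ⟶ (F.sheafPushforwardContinuous RingCat.{u} J K).obj R)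

/-- The restriction of `φ` to the slice at `x`. -/
abbrev phiOver (x : C) :
    S.over x ⟶ ((Over.post F).sheafPushforwardContinuous RingCat.{u} (J.over x) (K.over (F.obj x))).obj
      (R.over (F.obj x)) :=
  ((Over.forget x).sheafPushforwardContinuous RingCat.{u} (J.over x) J).map φ

/-- Direct image commutes with direct image from slices. -/
def pushforwardOverIso (x : C) :
    SheafOfModules.pushforward.{u} (phiOver F φ x) ⋙
      SheafOfModules.pushforward.{u} (SheafOfModules.pushforwardOver (R := S) x) ≅
    SheafOfModules.pushforward.{u} (SheafOfModules.pushforwardOver (R := R) (F.obj x)) ⋙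
      SheafOfModules.pushforward.{u} φ :=
  haveI := Functor.isContinuous_comp (Over.star x) (Over.post F) J (J.over x) (K.over (F.obj x))
  haveI := Functor.isContinuous_comp F (Over.star (F.obj x)) J K (K.over (F.obj x))
  SheafOfModules.pushforwardComp _ _ ≪≫
    SheafOfModules.pushforwardCongr₂ _ (starIso F x).symm (by
      ext y : 3
      dsimp [SheafOfModules.pushforwardOver, starIso]
      rw [Category.assoc]
      erw [φ.hom.naturality_assoc (prod.snd (X := x) (Y := y.unop)).op]
      congr 1
      dsimp
      rw [← Functor.map_comp, ← op_comp]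
      congr 2
      rw [Iso.inv_comp_eq, PreservesLimitPair.iso_hom, prodComparison_snd]) ≪≫
    (SheafOfModules.pushforwardComp _ _).symm

section Free

omit [HasBinaryProducts C] [HasBinaryProducts D] [PreservesLimitsOfShape (Discrete WalkingPair) F]
  [∀ x, (Over.post (X := x) F).IsContinuous (J.over x) (K.over _)]

variable [HasWeakSheafify J AddCommGrpCat.{u}] [J.WEqualsLocallyBijective AddCommGrpCat.{u}]
  [HasWeakSheafify K AddCommGrpCat.{u}] [K.WEqualsLocallyBijective AddCommGrpCat.{u}] [F.Final]

/-- Maps out of a free module into a direct image, for a final functor. -/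
def freeEquiv (I : Type u) (N : SheafOfModules.{u} R) :
    (SheafOfModules.free (R := R) I ⟶ N) ≃
      (SheafOfModules.free (R := S) I ⟶ (SheafOfModules.pushforward φ).obj N) :=
  (SheafOfModules.freeHomEquiv N).trans
    ((Equiv.piCongrRight fun _ ↦ Equiv.ofBijective _
      (SheafOfModules.bijective_pushforwardSections φ N)).trans
      (SheafOfModules.freeHomEquiv _).symm)

theorem freeEquiv_comp (I : Type u) {N N' : SheafOfModules.{u} R}
    (g : SheafOfModules.free (R := R) I ⟶ N) (p : N ⟶ N') :
    freeEquiv F φ I N' (g ≫ p) = freeEquiv F φ I N g ≫ (SheafOfModules.pushforward φ).map p := by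
  apply (SheafOfModules.freeHomEquiv _).injective
  funext i
  simp only [freeEquiv, Equiv.trans_apply, Equiv.apply_symm_apply,
    SheafOfModules.freeHomEquiv_comp_apply, Equiv.piCongrRight_apply, Pi.map_apply,
    Equiv.ofBijective_apply]
  rfl

theorem freeEquiv_eq (I : Type u) {N : SheafOfModules.{u} R}
    (g : SheafOfModules.free (R := R) I ⟶ N) :
    freeEquiv F φ I N g =
      freeEquiv F φ I _ (𝟙 _) ≫ (SheafOfModules.pushforward φ).map g := by
  rw [← freeEquiv_comp, Category.id_comp]

theorem freeEquiv_zero (I : Type u) (N : SheafOfModules.{u} R) : freeEquiv F φ I N 0 = 0 := by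
  rw [freeEquiv_eq, show (SheafOfModules.pushforward φ).map (0 : _ ⟶ N) = 0 from rfl, comp_zero]

/-- A presentation of `M` gives one of any object corepresenting maps from `M` into direct images. -/
def presentationOfCorep [HasSheafify K AddCommGrpCat.{u}] [HasSheafify J AddCommGrpCat.{u}]
    {M : SheafOfModules.{u} S} (P : M.Presentation) (A : SheafOfModules.{u} R)
    (e : ∀ N, (A ⟶ N) ≃ (M ⟶ (SheafOfModules.pushforward φ).obj N))
    (he : ∀ {N N' : SheafOfModules.{u} R} (a : A ⟶ N) (p : N ⟶ N'),
      e N' (a ≫ p) = e N a ≫ (SheafOfModules.pushforward φ).map p) : A.Presentation := by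
  let f₀ : SheafOfModules.free (R := S) P.relations.I ⟶ SheafOfModules.free P.generators.I :=
    (SheafOfModules.freeHomEquiv _).symm P.relations.s ≫ kernel.ι _
  have hw₀ : f₀ ≫ P.generators.π = 0 := by simp [f₀]
  have hc : IsColimit (CokernelCofork.ofπ P.generators.π hw₀) := P.isColimit
  let f : SheafOfModules.free (R := R) P.relations.I ⟶ SheafOfModules.free P.generators.I :=
    (freeEquiv F φ _ _).symm (f₀ ≫ freeEquiv F φ _ _ (𝟙 _))
  let g : SheafOfModules.free (R := R) P.generators.I ⟶ A :=
    (freeEquiv F φ _ _).symm (P.generators.π ≫ e A (𝟙 A))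
  have key : ∀ {N : SheafOfModules.{u} R} (a : SheafOfModules.free P.generators.I ⟶ N),
      freeEquiv F φ _ _ (f ≫ a) = f₀ ≫ freeEquiv F φ _ _ a := fun a ↦ by
    rw [freeEquiv_comp, Equiv.apply_symm_apply, Category.assoc, ← freeEquiv_eq]
  have kg : ∀ {N : SheafOfModules.{u} R} (b : A ⟶ N),
      freeEquiv F φ _ _ (g ≫ b) = P.generators.π ≫ e N b := fun b ↦ by
    rw [freeEquiv_comp, Equiv.apply_symm_apply, Category.assoc, ← he, Category.id_comp]
  have H : f ≫ g = 0 := (freeEquiv F φ _ _).injective (by
    rw [key, freeEquiv_zero, Equiv.apply_symm_apply, ← Category.assoc, hw₀, zero_comp])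
  refine SheafOfModules.presentationOfIsCokernelFree f g H ?_
  have hz : ∀ {N : SheafOfModules.{u} R} (a : SheafOfModules.free P.generators.I ⟶ N),
      f ≫ a = 0 → f₀ ≫ freeEquiv F φ _ _ a = 0 := fun a ha ↦ by
    rw [← key, ha, freeEquiv_zero]
  exact CokernelCofork.IsColimit.ofπ g H
    (fun a ha ↦ (e _).symm (hc.desc (CokernelCofork.ofπ (freeEquiv F φ _ _ a) (hz a ha))))
    (fun a ha ↦ (freeEquiv F φ _ _).injective (by
      rw [kg, Equiv.apply_symm_apply]
      exact hc.fac (CokernelCofork.ofπ _ (hz a ha)) WalkingParallelPair.one))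
    (fun a ha b hb ↦ (e _).injective (by
      rw [Equiv.apply_symm_apply]
      refine Cofork.IsColimit.hom_ext hc ?_
      have h1 : P.generators.π ≫ e _ b = freeEquiv F φ _ _ a := by rw [← kg, hb]
      exact h1.trans (hc.fac (CokernelCofork.ofπ _ (hz a ha)) WalkingParallelPair.one).symm))

end Free

variable [(SheafOfModules.pushforward.{u} φ).IsRightAdjoint]

/-- The corepresenting property of the inverse image restricted to a slice. -/
def overCorep (M : SheafOfModules.{u} S) (x : C) (N : SheafOfModules.{u} (R.over (F.obj x))) :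
    (((SheafOfModules.pullback φ).obj M).over (F.obj x) ⟶ N) ≃
      (M.over x ⟶ (SheafOfModules.pushforward (phiOver F φ x)).obj N) :=
  ((((SheafOfModules.pullbackPushforwardAdjunction φ).comp
    (SheafOfModules.overPushforwardOverAdj (F.obj x))).ofNatIsoRight
      (pushforwardOverIso F φ x).symm).homEquiv M N).trans
    ((SheafOfModules.overPushforwardOverAdj x).homEquiv M _).symm

theorem overCorep_comp (M : SheafOfModules.{u} S) (x : C)
    {N N' : SheafOfModules.{u} (R.over (F.obj x))}
    (a : ((SheafOfModules.pullback φ).obj M).over (F.obj x) ⟶ N) (p : N ⟶ N') :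
    overCorep F φ M x N' (a ≫ p) =
      overCorep F φ M x N a ≫ (SheafOfModules.pushforward (phiOver F φ x)).map p := by
  simp only [overCorep, Equiv.trans_apply]
  erw [Adjunction.homEquiv_naturality_right]
  exact Adjunction.homEquiv_naturality_right_symm _ _ _

variable [∀ x : C, HasSheafify (J.over x) AddCommGrpCat.{u}]
  [∀ x : C, (J.over x).WEqualsLocallyBijective AddCommGrpCat.{u}]
  [∀ x : D, HasSheafify (K.over x) AddCommGrpCat.{u}]
  [∀ x : D, (K.over x).WEqualsLocallyBijective AddCommGrpCat.{u}]

include F in
/-- Inverse image preserves quasi-coherence when the image of a covering family covers. -/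
theorem isQuasicoherent_pullback
    (hcov : ∀ {I : Type u₁} (X : I → C), J.CoversTop X → K.CoversTop (fun i ↦ F.obj (X i)))
    (M : SheafOfModules.{u} S) [M.IsQuasicoherent] :
    ((SheafOfModules.pullback.{u} φ).obj M).IsQuasicoherent := by
  obtain ⟨q⟩ : Nonempty M.QuasicoherentData := SheafOfModules.IsQuasicoherent.nonempty_quasicoherentData
  refine SheafOfModules.QuasicoherentData.isQuasicoherent
    { I := q.I
      X := fun i ↦ F.obj (q.X i)
      coversTop := hcov q.X q.coversTop
      presentation := fun i ↦ ?_ }
  exact presentationOfCorep (Over.post F) (phiOver F φ (q.X i)) (q.presentation i) _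
    (overCorep F φ M (q.X i)) (overCorep_comp F φ M (q.X i))

end Groth.Agent.Stk19b.QPull
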