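import Groth.Agent.Stk19b.TrivStab
import Groth.Agent.Stk19.AlgSt.CoverDiag
import Groth.Agent.AlgSpLib.SmoothLocalST
import Groth.Agent.Stk19b.Boot.Corollaries

/-!
# Functors between DM stacks injective on geometric stabilisers are faithful
-/

set_option autoImplicit false
set_option linter.style.haveILetI false
set_option backward.isDefEq.respectTransparency false
set_option backward.isDefEq.respectTransparency.types false

universe u

open CategoryTheory CategoryTheory.Limits AlgebraicGeometry Opposite FibCat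
open Groth.Agent.Stk19 Groth.Agent.Desc19

namespace Groth.Agent.Stk19b

variable {S : Scheme.{u}} {𝒳 𝒴 : AlgSt.Cat S}

/-- a Deligne–Mumford stack has unramified diagonal -/
theorem isDMOver_of_isDM {K : Precoverage Scheme.{u}} (h : AlgSt.IsDM K 𝒳) : AlgSt.IsDMOver 𝒳 := by
  obtain ⟨U, u, hu, hu'⟩ := h.2
  let W : AlgSp.Space S := ⟨_, AlgSp.IsAlgSpace.yon_obj U⟩
  let w : AlgSt.ofSp W.obj ⥤ᵇ 𝒳 := BasedFunctor.comp (AlgSt.toOverCat U) u
  have hw : AlgSt.RepByAlgSpWith AlgSp.IsEtaleMor w := with_equiv_comp (isEquivOver_toOverCat U) hu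
  have key : ∀ (P : MorphismProperty Scheme.{u}), (∀ {A B : Scheme.{u}} (g : A ⟶ B), Etale g → P g) →
      AlgSt.RepByAlgSpWith (AlgSp.LocP P) w := fun P hP =>
    repByAlgSpWith_mono (fun _ V a hX ha => AlgSpLib.locP_mono (fun _ _ g hg => hP g hg)
      ((AlgSpLib.isEtaleMor_iff_locP AlgSpLib.etLocal_etale hX (AlgSp.IsAlgSpace.yon_obj V) a).1 ha)) hw
  exact diag_toSelf_of_cover (respSrc_locP AlgSpLib.etLocal_unramified)
    (schDescent_locP AlgSpLib.etLocal_unramified) h.1.diag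
    (key @Flat fun g _ => inferInstance) (key @LocallyOfFinitePresentation fun g _ => inferInstance)
    (with_equiv_comp (isEquivOver_toOverCat U) hu')
    (fpToProd_of_cancel (pbStable_locP AlgSpLib.etLocal_unramified) cancel_unram W w
      (key (@LocallyOfFiniteType ⊓ @FormallyUnramified) fun g _ => ⟨inferInstance, inferInstance⟩))

/-- the pulled back automorphism is killed by `g` -/
theorem g_map_aut (g : 𝒳 ⥤ᵇ 𝒴) (h𝒴 : IsFibGrpd 𝒴.p) {T : Over S} {G : AlgSp.Sp S} {y : overCat T ⥤ᵇ 𝒳}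
    {e : AlgSt.ofSp G ⥤ᵇ fp y (inertiaToBase (toSelf 𝒳))} {u v : (AlgSt.ofSp G).obj} (m : u ⟶ v)
    {z : (fp y (inertiaToBase (toSelf 𝒳))).obj} (η : e.obj v ≅ z)
    (hg : g.map z.obj.snd.aut.hom = 𝟙 _) : g.map (e.obj u).obj.snd.aut.hom = 𝟙 _ := by
  let w := (e.map m ≫ η.hom).hom.snd
  have hc : (e.obj u).obj.snd.aut.hom ≫ w.hom = w.hom ≫ z.obj.snd.aut.hom := w.comm
  refine fibGrpd_ext h𝒴 (g.map w.hom) ?_ ?_
  · rw [based_map g, 𝒴.p.map_id,
      show 𝒳.p.map (e.obj u).obj.snd.aut.hom = 𝟙 _ from (e.obj u).obj.snd.map_aut]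
    simp
  · rw [← g.toFunctor.map_comp, hc, g.toFunctor.map_comp, hg, Category.comp_id, Category.id_comp]

/-- the morphism of sections given by restriction -/
def yonedaElt {T' T : Over S} {G : AlgSp.Sp S} (t : T' ⟶ T) (γ : (AlgSp.yon S).obj T ⟶ G) :
    (⟨T', GrothendieckTopology.uliftYonedaEquiv.{u + 1} (AlgSp.J S) ((AlgSp.yon S).map t ≫ γ)⟩ : (AlgSt.ofSp G).obj) ⟶
      ⟨T, GrothendieckTopology.uliftYonedaEquiv.{u + 1} (AlgSp.J S) γ⟩ :=
  ⟨t, (GrothendieckTopology.uliftYonedaEquiv_naturality (AlgSp.J S) γ t)⟩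

theorem vert_aut (w : InertiaObj (toSelf 𝒳)) : 𝒳.p.IsHomLift (𝟙 (𝒳.p.obj w.pt)) w.aut.hom :=
  vert_of_map_eq 𝒳.p (h := rfl) ((show 𝒳.p.map w.aut.hom = 𝟙 _ from w.map_aut).trans (eqToHom_refl _ _).symm)

/-- injectivity on geometric stabilisers kills vertical automorphisms killed by `g` -/
theorem vert_aut_eq_id_of_geom (hd : AlgSt.IsDMOver 𝒳) (h𝒳 : IsFibGrpd 𝒳.p) (h𝒴 : IsFibGrpd 𝒴.p)
    (g : 𝒳 ⥤ᵇ 𝒴)
    (hinj : ∀ (k : Type u) [Field k] [IsAlgClosed k] (s : Spec (CommRingCat.of k) ⟶ S)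
      (ξ : 𝒳.obj) (_ : 𝒳.p.obj ξ = Over.mk s) (a : ξ ⟶ ξ),
      𝒳.p.IsHomLift (𝟙 (𝒳.p.obj ξ)) a → g.map a = 𝟙 (g.obj ξ) → a = 𝟙 ξ)
    {a : 𝒳.obj} (φ : a ≅ a) (hφ : 𝒳.p.map φ.hom = 𝟙 _) (hg : g.map φ.hom = 𝟙 _) : φ.hom = 𝟙 a := by
  let T := 𝒳.p.obj a
  obtain ⟨y, i, hi⟩ := exists_classifying (U := T) h𝒳 a rfl
  let top : (overCat T).obj := Over.mk (𝟙 T)
  let q := inertiaToBase (toSelf 𝒳)
  have hl : AlgSt.RepByAlgSpWith (AlgSp.LocP (@LocallyOfFiniteType ⊓ @FormallyUnramified)) q :=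
    inertia_with_of_diag hd
  obtain ⟨G, e, he, hG⟩ := hl T y
  have hfull := (EqvData.of_isEquivOver he).full
  let z₁ : (fp y q).obj := fpMk top (⟨a, φ, hφ⟩ : InertiaObj (toSelf 𝒳)) i hi
  let z₂ : (fp y q).obj := fpMk top (⟨a, Iso.refl a, 𝒳.p.map_id a⟩ : InertiaObj (toSelf 𝒳)) i hi
  obtain ⟨s₁, hs₁, ⟨η₁⟩⟩ := exists_sec e he z₁
  obtain ⟨s₂, hs₂, ⟨η₂⟩⟩ := exists_sec e he z₂
  have hs₁' := hs₁.trans ((AlgSp.yon S).map_id T)
  have hs₂' := hs₂.trans ((AlgSp.yon S).map_id T)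
  have hsec : s₁ = s₂ := by
    refine eq_of_open_diag (diag_of_locP_unram (V := G) (Z := ⟨_, AlgSp.IsAlgSpace.yon_obj T⟩) _ hG)
      s₁ s₂ hs₁' hs₂' fun p => ?_
    let k := T.left.residueField p
    let K := AlgebraicClosure k
    let t₀ : Spec (CommRingCat.of K) ⟶ T.left :=
      Spec.map (CommRingCat.ofHom (algebraMap k K)) ≫ T.left.fromSpecResidueField p
    let T' : Over S := Over.mk (t₀ ≫ T.hom)
    let t : T' ⟶ T := Over.homMk t₀
    refine ⟨T', t, ⟨IsLocalRing.closedPoint K, ?_⟩, ?_⟩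
    · show (Spec.map (CommRingCat.ofHom (algebraMap k K)) ≫ T.left.fromSpecResidueField p) _ = p
      rw [Scheme.Hom.comp_apply]
      exact Scheme.fromSpecResidueField_apply _ _
    have hγ : ∀ γ : (AlgSp.yon S).obj T ⟶ G.obj,
        γ ≫ AlgSt.spMapOfOver (BasedFunctor.comp e (fpFst y q)) = 𝟙 _ →
        ((AlgSp.yon S).map t ≫ γ) ≫ AlgSt.spMapOfOver (BasedFunctor.comp e (fpFst y q)) = (AlgSp.yon S).map t :=
      fun γ h => by rw [Category.assoc, h, Category.comp_id]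
    refine sec_eq_of_aut_trivial he t _ _ (hγ _ hs₁') (hγ _ hs₂') ?_ ?_
    all_goals
      refine hinj K (t₀ ≫ T.hom) _ ?_ _ (vert_aut _) ?_
      · exact (BasedFunctor.comp e (BasedFunctor.comp (fpSnd y q) q)).w_obj _
    · exact g_map_aut g h𝒴 (yonedaElt t s₁) η₁ hg
    · exact g_map_aut g h𝒴 (yonedaElt t s₂) η₂ (g.toFunctor.map_id a)
  let η₂' : e.obj ⟨_, GrothendieckTopology.uliftYonedaEquiv.{u + 1} (AlgSp.J S) s₁⟩ ≅ z₂ :=
    eqToIso (congrArg (fun s => e.obj ⟨_, GrothendieckTopology.uliftYonedaEquiv.{u + 1} (AlgSp.J S) s⟩) hsec) ≪≫ η₂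
  let k : z₁.obj.snd ≅ z₂.obj.snd := (fpSnd y q).toFunctor.mapIso (η₁.symm ≪≫ η₂')
  have hc : φ.hom ≫ k.hom.hom = k.hom.hom ≫ 𝟙 a := k.hom.comm
  have : IsIso k.hom.hom := inferInstanceAs (IsIso (InertiaObj.forget.map k.hom))
  exact (cancel_mono (k.hom.hom : a ⟶ a)).1 (hc.trans ((Category.comp_id _).trans (Category.id_comp _).symm))

end Groth.Agent.Stk19b
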