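import Groth.Agent.Stk19b.FieldPtsMono
import Groth.Agent.Stk19.AlgSt.InertiaSep
import Groth.Agent.Stk19.AlgSt.SepDiag
import Groth.Prelude.Def_StGerb

/-!
# An algebraic stack with trivial stabilisers at field points is fibred in setoids
-/

set_option autoImplicit false
set_option linter.style.haveILetI false
set_option backward.isDefEq.respectTransparency false
set_option backward.isDefEq.respectTransparency.types false

universe v₂ u₂ u

open CategoryTheory CategoryTheory.Limits AlgebraicGeometry Opposite FibCat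
open Groth.Agent.Stk19 Groth.Agent.Desc19

namespace Groth.Agent.Stk19b

variable {S : Scheme.{u}} {𝒳 𝒵 : AlgSt.Cat S}

section Sec

variable {T : Over S} {G : AlgSp.Sp S} {y : overCat T ⥤ᵇ 𝒳} {q : 𝒵 ⥤ᵇ 𝒳} (e : AlgSt.ofSp G ⥤ᵇ fp y q)

/-- the structure morphism of the object attached to a section over a point of the base -/
theorem sec_fst_hom {T' : Over S} (γ : (AlgSp.yon S).obj T' ⟶ G) {g : T' ⟶ T}
    (hγ : γ ≫ AlgSt.spMapOfOver (BasedFunctor.comp e (fpFst y q)) = (AlgSp.yon S).map g)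
    (hv : (e.obj ⟨T', (GrothendieckTopology.uliftYonedaEquiv.{u + 1} (AlgSp.J S)) γ⟩).obj.fst.left = T') :
    (e.obj ⟨T', (GrothendieckTopology.uliftYonedaEquiv.{u + 1} (AlgSp.J S)) γ⟩).obj.fst.hom = eqToHom hv ≫ g := by
  have h := congrArg (GrothendieckTopology.uliftYonedaEquiv.{u + 1} (AlgSp.J S)) hγ
  rw [GrothendieckTopology.uliftYonedaEquiv_comp, AlgSt.spMapOfOver_app] at h
  have h' : eqToHom hv.symm ≫ (e.obj ⟨T', (GrothendieckTopology.uliftYonedaEquiv.{u + 1} (AlgSp.J S)) γ⟩).obj.fst.hom = g := by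
    refine (congrArg ULift.down h).trans ?_
    show (𝟙 T' ≫ g : T' ⟶ T) = g
    rw [Category.id_comp]
  rw [← h', ← Category.assoc, eqToHom_trans, eqToHom_refl, Category.id_comp]

/-- every object of the fibre product comes from a section -/
theorem exists_sec (he : IsEquivOver e) (z : (fp y q).obj) :
    ∃ γ : (AlgSp.yon S).obj z.obj.fst.left ⟶ G,
      γ ≫ AlgSt.spMapOfOver (BasedFunctor.comp e (fpFst y q)) = (AlgSp.yon S).map z.obj.fst.hom ∧
        Nonempty (e.obj ⟨_, (GrothendieckTopology.uliftYonedaEquiv.{u + 1} (AlgSp.J S)) γ⟩ ≅ z) := by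
  obtain ⟨⟨V, sec⟩, η, hη⟩ := (EqvData.of_isEquivOver he).surj z
  haveI := hη
  have hV : V = z.obj.fst.left :=
    (e.w_obj ⟨V, sec⟩).symm.trans (IsHomLift.domain_eq (fp y q).p (𝟙 ((fp y q).p.obj z)) η.hom)
  subst hV
  refine ⟨(GrothendieckTopology.uliftYonedaEquiv.{u + 1} (AlgSp.J S)).symm sec, ?_, ⟨eqToIso (congrArg (fun s => e.obj ⟨_, s⟩) (Equiv.apply_symm_apply (GrothendieckTopology.uliftYonedaEquiv.{u + 1} (AlgSp.J S)) sec)) ≪≫ η⟩⟩
  refine (GrothendieckTopology.uliftYonedaEquiv.{u + 1} (AlgSp.J S)).injective ?_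
  rw [GrothendieckTopology.uliftYonedaEquiv_comp, Equiv.apply_symm_apply, AlgSt.spMapOfOver_app]
  refine ULift.ext _ _ ?_
  show eqToHom _ ≫ (e.obj ⟨_, sec⟩).obj.fst.hom = 𝟙 _ ≫ z.obj.fst.hom
  have w := Over.w η.hom.hom.fst
  have m : η.hom.hom.fst.left = eqToHom _ :=
    map_eq_of_vert (fp y q).p (R := (fp y q).p.obj z) η.hom
  rw [← w, m, Category.id_comp]
  simp

end Sec

/-- sections over the same point with trivial automorphisms agree -/
theorem sec_eq_of_aut_trivial {T T' : Over S} {G : AlgSp.Sp S} {y : overCat T ⥤ᵇ 𝒳}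
    {e : AlgSt.ofSp G ⥤ᵇ fp y (inertiaToBase (toSelf 𝒳))} (he : IsEquivOver e) (g : T' ⟶ T)
    (α β : (AlgSp.yon S).obj T' ⟶ G)
    (hα : α ≫ AlgSt.spMapOfOver (BasedFunctor.comp e (fpFst y _)) = (AlgSp.yon S).map g)
    (hβ : β ≫ AlgSt.spMapOfOver (BasedFunctor.comp e (fpFst y _)) = (AlgSp.yon S).map g)
    (ta : (e.obj ⟨T', GrothendieckTopology.uliftYonedaEquiv.{u + 1} (AlgSp.J S) α⟩).obj.snd.aut.hom = 𝟙 _)
    (tb : (e.obj ⟨T', GrothendieckTopology.uliftYonedaEquiv.{u + 1} (AlgSp.J S) β⟩).obj.snd.aut.hom = 𝟙 _) :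
    α = β := by
  have := (EqvData.of_isEquivOver he).full
  let za := e.obj ⟨T', (GrothendieckTopology.uliftYonedaEquiv.{u + 1} (AlgSp.J S)) α⟩
  let zb := e.obj ⟨T', (GrothendieckTopology.uliftYonedaEquiv.{u + 1} (AlgSp.J S)) β⟩
  have hva : za.obj.fst.left = T' := e.w_obj _
  have hvb : zb.obj.fst.left = T' := e.w_obj _
  let ζ : za.obj.fst ≅ zb.obj.fst := Over.isoMk (eqToIso (hva.trans hvb.symm)) (by
    rw [sec_fst_hom e α hα hva, sec_fst_hom e β hβ hvb]; simp)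
  let κ : za.obj.snd.pt ≅ zb.obj.snd.pt := za.obj.iso.symm ≪≫ y.toFunctor.mapIso ζ ≪≫ zb.obj.iso
  let κ' : za.obj.snd ≅ zb.obj.snd :=
    { hom := ⟨κ.hom, by rw [ta, tb, Category.id_comp, Category.comp_id]⟩
      inv := ⟨κ.inv, by rw [ta, tb, Category.id_comp, Category.comp_id]⟩
      hom_inv_id := InertiaObj.hom_ext κ.hom_inv_id
      inv_hom_id := InertiaObj.hom_ext κ.inv_hom_id }
  let W : za ≅ zb := fpIsoMk ζ κ' (by
    show y.map ζ.hom ≫ zb.obj.iso.hom = za.obj.iso.hom ≫ κ.hom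
    simp [κ])
  let m := e.toFunctor.preimage W.hom
  have hm : m.hom = 𝟙 T' := by
    have h := based_map_back e m
    rw [e.toFunctor.map_preimage] at h
    refine h.trans ?_
    show eqToHom _ ≫ (ζ.hom.left) ≫ eqToHom _ = 𝟙 T'
    simp [ζ]
  refine (GrothendieckTopology.uliftYonedaEquiv.{u + 1} (AlgSp.J S)).injective ?_
  have := m.map_sec
  rw [hm] at this
  exact (this.symm.trans (by simp)).symm.symm

/-- trivial stabilisers at field points give trivial vertical automorphisms everywhere -/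
theorem vert_aut_eq_id {K : Precoverage Scheme.{u}} (h𝒳 : AlgSt.IsAlgStack K 𝒳)
    (hK : ∀ (k : Type u) [Field k] (sk : Spec (CommRingCat.of k) ⟶ S)
      (x : overCat (Over.mk sk) ⥤ᵇ 𝒳) (T : Over (Over.mk sk)), Subsingleton (Gerb.AutO (x.obj T)))
    {a : 𝒳.obj} (φ : a ≅ a) (hφ : 𝒳.p.map φ.hom = 𝟙 _) : φ.hom = 𝟙 a := by
  let T := 𝒳.p.obj a
  obtain ⟨y, i, hi⟩ := exists_classifying (U := T) h𝒳.isStack.1 a rfl
  let top : (overCat T).obj := Over.mk (𝟙 T)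
  let q := inertiaToBase (toSelf 𝒳)
  have hl : AlgSt.RepByAlgSpWith (AlgSp.LocP @LocallyOfFiniteType) q :=
    inertia_with_of_diag (diag_toSelf_lft h𝒳)
  obtain ⟨G, e, he, hG⟩ := hl T y
  have hfull := (EqvData.of_isEquivOver he).full
  let z₁ : (fp y q).obj := fpMk top (⟨a, φ, hφ⟩ : InertiaObj (toSelf 𝒳)) i hi
  let z₂ : (fp y q).obj := fpMk top (⟨a, Iso.refl a, 𝒳.p.map_id a⟩ : InertiaObj (toSelf 𝒳)) i hi
  obtain ⟨s₁, hs₁, ⟨η₁⟩⟩ := exists_sec e he z₁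
  obtain ⟨s₂, hs₂, ⟨η₂⟩⟩ := exists_sec e he z₂
  have hsec : (GrothendieckTopology.uliftYonedaEquiv.{u + 1} (AlgSp.J S)) s₁ = (GrothendieckTopology.uliftYonedaEquiv.{u + 1} (AlgSp.J S)) s₂ := by
    refine congrArg _ (eq_of_fieldPts G.property (AlgSt.spMapOfOver (BasedFunctor.comp e (fpFst y q))) hG ?_
      s₁ s₂ (hs₁.trans ((AlgSp.yon S).map_id T)) (hs₂.trans ((AlgSp.yon S).map_id T)))
    intro k _ sk t T' c α β hα hβ
    have triv : ∀ γ : (AlgSp.yon S).obj T' ⟶ G.obj,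
        γ ≫ AlgSt.spMapOfOver (BasedFunctor.comp e (fpFst y q)) = (AlgSp.yon S).map (c ≫ t) →
        (e.obj ⟨T', (GrothendieckTopology.uliftYonedaEquiv.{u + 1} (AlgSp.J S)) γ⟩).obj.snd.aut.hom = 𝟙 _ := by
      intro γ hγ
      let z := e.obj ⟨T', (GrothendieckTopology.uliftYonedaEquiv.{u + 1} (AlgSp.J S)) γ⟩
      have hv : z.obj.fst.left = T' := e.w_obj _
      let o : (overCat (Over.mk sk)).obj := Over.mk c
      let xk := BasedFunctor.comp (AlgSt.overMap t) y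
      let j : (AlgSt.overMap t).obj o ≅ z.obj.fst := Over.isoMk (eqToIso hv.symm) (by
        show eqToHom hv.symm ≫ z.obj.fst.hom = c ≫ t
        rw [sec_fst_hom e γ hγ hv]; simp)
      let β' : xk.obj o ≅ z.obj.snd.pt := y.toFunctor.mapIso j ≪≫ z.obj.iso
      let A : xk.obj o ≅ xk.obj o := β' ≪≫ z.obj.snd.aut ≪≫ β'.symm
      have hmap : 𝒳.p.map z.obj.snd.aut.hom = 𝟙 _ := z.obj.snd.map_aut
      have hA : 𝒳.p.map A.hom = 𝟙 _ := by
        show 𝒳.p.map (β'.hom ≫ z.obj.snd.aut.hom ≫ β'.inv) = _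
        rw [𝒳.p.map_comp, 𝒳.p.map_comp, hmap, Category.id_comp, ← 𝒳.p.map_comp, β'.hom_inv_id,
          𝒳.p.map_id]
      have hA' : 𝒳.p.map A.inv = 𝟙 _ := by
        rw [← Category.id_comp (𝒳.p.map A.inv), ← hA, ← 𝒳.p.map_comp, A.hom_inv_id, 𝒳.p.map_id]
        exact hA.symm
      let A' : Gerb.AutO (xk.obj o) :=
        { hom := ⟨A.hom, vert_of_map_eq 𝒳.p (h := rfl) (hA.trans (eqToHom_refl _ _).symm)⟩
          inv := ⟨A.inv, vert_of_map_eq 𝒳.p (h := rfl) (hA'.trans (eqToHom_refl _ _).symm)⟩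
          hom_inv_id := Subtype.ext A.hom_inv_id
          inv_hom_id := Subtype.ext A.inv_hom_id }
      have hh : A.hom = 𝟙 _ :=
        congrArg (fun w => w.hom.1) ((hK k sk xk o).elim A' (Iso.refl _))
      have : β'.inv ≫ A.hom ≫ β'.hom = 𝟙 _ := by rw [hh]; simp
      simpa [A] using this
    exact sec_eq_of_aut_trivial he _ α β hα hβ (triv α hα) (triv β hβ)
  let η₂' : e.obj ⟨_, (GrothendieckTopology.uliftYonedaEquiv.{u + 1} (AlgSp.J S)) s₁⟩ ≅ z₂ :=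
    eqToIso (congrArg (fun s => e.obj ⟨_, s⟩) hsec) ≪≫ η₂
  let k : z₁.obj.snd ≅ z₂.obj.snd := (fpSnd y q).toFunctor.mapIso (η₁.symm ≪≫ η₂')
  have hc : φ.hom ≫ k.hom.hom = k.hom.hom ≫ 𝟙 a := k.hom.comm
  have : IsIso k.hom.hom := inferInstanceAs (IsIso (InertiaObj.forget.map k.hom))
  exact (cancel_mono (k.hom.hom : a ⟶ a)).1 (hc.trans ((Category.comp_id _).trans (Category.id_comp _).symm))

theorem isFibSetoid_of_trivStab {K : Precoverage Scheme.{u}} (h𝒳 : AlgSt.IsAlgStack K 𝒳)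
    (hK : ∀ (k : Type u) [Field k] (sk : Spec (CommRingCat.of k) ⟶ S)
      (x : overCat (Over.mk sk) ⥤ᵇ 𝒳) (T : Over (Over.mk sk)), Subsingleton (Gerb.AutO (x.obj T))) :
    IsFibSetoid 𝒳.p := by
  refine ⟨h𝒳.isStack.1, fun U a b => ⟨fun f g => ?_⟩⟩
  have hi : ∀ k : a ⟶ b, IsIso k := fun k => by
    haveI : 𝒳.p.IsHomLift (𝟙 U) k.1 := k.2
    haveI : IsIso k.1 := fibGrpd_isIso_vert h𝒳.isStack.1 (R := U) k.1
    exact ⟨⟨inv k.1, vert_inv 𝒳.p (asIso k.1) k.2⟩, Subtype.ext (IsIso.hom_inv_id k.1),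
      Subtype.ext (IsIso.inv_hom_id k.1)⟩
  haveI := hi f
  haveI := hi g
  let ψ : b ≅ b := (asIso g).symm ≪≫ asIso f
  let φ : b.1 ≅ b.1 := Functor.Fiber.fiberInclusion.mapIso ψ
  haveI : 𝒳.p.IsHomLift (𝟙 U) φ.hom := ψ.hom.2
  have hφ : 𝒳.p.map φ.hom = 𝟙 _ := (map_eq_of_vert 𝒳.p (R := U) φ.hom).trans (eqToHom_refl _ _)
  have hh : ψ.hom = 𝟙 _ := Subtype.ext (vert_aut_eq_id h𝒳 hK φ hφ)
  rw [← Category.comp_id g, ← hh]
  simp [ψ]

end Groth.Agent.Stk19b
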