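import Groth.Agent.AlgSpLib.Bootstrap
import Groth.Agent.AlgSpLib.FppfLocal
import Groth.Agent.AlgSpLib.MorQC
import Groth.Agent.AlgSpLib.SheafCoprod
import Groth.Agent.AlgSpLib.MorSep
import Groth.Agent.Desc19b.Imm
import Groth.Prelude.Def_AlgSpSub

/-!
# Factorisation through an fppf cover from a schematically dense open
-/

set_option autoImplicit false
set_option backward.isDefEq.respectTransparency.types false

universe u

open CategoryTheory CategoryTheory.Limits AlgebraicGeometry
open Groth.Agent.AlgSpLib AlgSp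

namespace Groth.Agent.Stk19b.DenseFactor

set_option maxHeartbeats 800000

theorem ker_ι_eq_bot {T : Scheme.{u}} (W : T.Opens) [QuasiCompact W.ι] (h : CInt.IsSchematicallyDense W) :
    W.ι.ker = ⊥ := by
  refine Scheme.IdealSheafData.ext (funext fun U => ?_)
  rw [Scheme.Hom.ker_apply, Scheme.IdealSheafData.ideal_bot, Pi.bot_apply, eq_bot_iff]
  intro x hx
  rw [RingHom.mem_ker, Scheme.Opens.ι_app] at hx
  rw [Ideal.mem_bot]
  have hV : (W.ι ''ᵁ W.ι ⁻¹ᵁ (U : T.Opens)) = (U : T.Opens) ⊓ W := by
    rw [Scheme.Hom.image_preimage_eq_opensRange_inf, Scheme.Opens.opensRange_ι, inf_comm]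
  refine h U ?_
  have h2 := congrArg (T.presheaf.map (homOfLE hV.ge).op) hx
  erw [map_zero, ← CommRingCat.comp_apply, ← Functor.map_comp] at h2
  erw [map_zero]
  exact h2

/-- A closed immersion through which the preimage of a schematically dense open factors is an iso. -/
theorem isIso_of_dense {E R V : Scheme.{u}} (i : E ⟶ R) [IsClosedImmersion i] (r : R ⟶ V) [Flat r]
    (W : V.Opens) [QuasiCompact W.ι] (h : CInt.IsSchematicallyDense W)
    (m : pullback W.ι r ⟶ E) (hm : m ≫ i = pullback.snd W.ι r) : IsIso i := by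
  rw [IsClosedImmersion.isIso_iff_ker_eq_bot, eq_bot_iff]
  have h2 : (pullback.snd W.ι r).ker = ⊥ := by
    rw [Desc19b.ker_pullback_snd_of_flat, ker_ι_eq_bot W h, Scheme.IdealSheafData.comap_bot]
  rw [← h2, ← hm]
  exact Scheme.Hom.le_ker_comp m i

variable {S : Scheme.{u}} {B Y Z V : AlgSp.Sp S}

theorem exists_factor_of_chart (hZ : IsAlgSpace Z) {U : Over S} (f : (yon S).obj U ⟶ Y)
    (g : (yon S).obj U ⟶ Z) (pY : Y ⟶ B) (pZ : Z ⟶ B) (hfg : f ≫ pY = g ≫ pZ)
    (hY : IsSeparatedMor pY) (hgf : RepWith @Flat g) (hgp : RepWith @LocallyOfFinitePresentation g)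
    (hgs : RepWith @Surjective g) (v : V ⟶ Z) (hv : IsSchDense v) (hvq : IsQuasiCompactMor v)
    (φ' : V ⟶ Y) (hfac : pullback.fst g v ≫ f = pullback.snd g v ≫ φ') :
    ∃ h : Z ⟶ Y, g ≫ h = f := by
  obtain ⟨hvo, T, φ, W, a, hφe, hφs, sqW, hW⟩ := hv
  let WI : Over.mk (W.ι ≫ T.hom) ⟶ T := Over.homMk W.ι rfl
  have hV : IsAlgSpace V := isAlgSpace_of_openImmersion hZ hvo
  have hvqr : RepWith @QuasiCompact v := (repWith_quasiCompact_iff hV hZ hvo.1).2 hvq
  have : QuasiCompact W.ι := hvqr.property _ _ WI sqW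
  obtain ⟨t, ht⟩ := (yon S).map_surjective (hgf.1.fst g)
  let s := hgf.1.snd g
  let R := hgf.1.pullback g
  have sqR : IsPullback ((yon S).map t) ((yon S).map s) g g := ht ▸ hgf.1.isPullback g
  have hflat : Flat t.left := hgf.property _ _ _ sqR.flip
  let α := (yon S).map t ≫ f
  let β := (yon S).map s ≫ f
  have hαβ : α ≫ pY = β ≫ pY := by
    simp only [α, β, Category.assoc, hfg, reassoc_of% sqR.w]
  let l : (yon S).obj R ⟶ pullback pY pY := pullback.lift α β hαβ
  let i := hY.1.snd l
  have sqE : IsPullback (hY.1.fst l) ((yon S).map i) (pullback.diagonal pY) l := hY.1.isPullback l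
  have : IsClosedImmersion i.left := hY.property_snd l
  -- the chart of `Z` over `R`
  let ρ : (yon S).obj R ⟶ Z := (yon S).map t ≫ g
  obtain ⟨r, hr⟩ := (yon S).map_surjective (hφe.1.fst ρ)
  let c := hφe.1.snd ρ
  let R' := hφe.1.pullback ρ
  have sqc : IsPullback ((yon S).map r) ((yon S).map c) φ ρ := hr ▸ hφe.1.isPullback ρ
  have hce : Etale c.left := hφe.property_snd ρ
  have hcs : Surjective c.left := hφs.property _ _ _ sqc
  have : Flat r.left := by
    have hρ : RepWith @Flat ρ := RepWith.comp ((repWith_yon_map_iff _ t).2 hflat) hgf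
    exact hρ.property _ _ _ sqc.flip
  let P : Over S := Over.mk (pullback.snd W.ι r.left ≫ R'.hom)
  let p2 : P ⟶ R' := Over.homMk (pullback.snd W.ι r.left)
  let p1 : P ⟶ Over.mk (W.ι ≫ T.hom) := Over.homMk (pullback.fst W.ι r.left) (by
    show pullback.fst W.ι r.left ≫ W.ι ≫ T.hom = pullback.snd W.ι r.left ≫ R'.hom
    rw [pullback.condition_assoc, Over.w r])
  let k := (yon S).map p2 ≫ (yon S).map c
  let z := (yon S).map p1 ≫ a
  have hz : z ≫ v = k ≫ ρ := by
    simp only [z, k, Category.assoc, sqW.w]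
    rw [← sqc.w, ← Category.assoc, ← Category.assoc, ← Functor.map_comp, ← Functor.map_comp]
    congr 2
    exact Over.OverMorphism.ext pullback.condition
  have sqV := IsPullback.of_hasPullback g v
  have key : ∀ (x : R ⟶ U) (hx : (yon S).map x ≫ g = ρ), k ≫ (yon S).map x ≫ f = z ≫ φ' := fun x hx => by
    let q := sqV.lift (k ≫ (yon S).map x) z (by rw [Category.assoc, hx, hz])
    have h1 : q ≫ pullback.fst g v = k ≫ (yon S).map x := sqV.lift_fst _ _ _
    have h2 : q ≫ pullback.snd g v = z := sqV.lift_snd _ _ _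
    rw [← Category.assoc, ← h1, Category.assoc, hfac, ← Category.assoc, h2]
  obtain ⟨e, he1, he2⟩ : ∃ e : P ⟶ hY.1.pullback l, (yon S).map e ≫ (yon S).map i = k ∧ True := by
    have hl : (k ≫ α) ≫ pullback.diagonal pY = k ≫ l := by
      apply pullback.hom_ext
      · simp [l, pullback.lift_fst]
      · simp only [Category.assoc, pullback.diagonal_snd, Category.comp_id, l, pullback.lift_snd, α, β]
        exact (key t rfl).trans (key s sqR.w.symm).symm
    obtain ⟨e, he⟩ := (yon S).map_surjective (sqE.lift (k ≫ α) k hl)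
    exact ⟨e, by rw [he, sqE.lift_snd], trivial⟩
  have hei : e ≫ i = p2 ≫ c := (yon S).map_injective (by rw [Functor.map_comp, he1, Functor.map_comp])
  let m : pullback W.ι r.left ⟶ pullback i.left c.left :=
    pullback.lift e.left (pullback.snd W.ι r.left) (congrArg CommaMorphism.left hei)
  have hiso' : IsIso (pullback.snd i.left c.left) :=
    isIso_of_dense _ r.left W hW m (pullback.lift_snd _ _ _)
  have : IsIso i.left := by
    have hc : FPPF c.left := ⟨⟨hcs, inferInstance⟩, inferInstance⟩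
    exact MorphismProperty.of_pullback_snd_of_descendsAlong (P := MorphismProperty.isomorphisms Scheme.{u})
      (Q := FPPF.{u}) hc hiso'
  have : IsIso i := by
    have : IsIso ((Over.forget S).map i) := this
    exact isIso_of_reflects_iso i (Over.forget S)
  have hab : α = β := by
    have w := sqE.w
    have h1 := congrArg (· ≫ pullback.fst pY pY) w
    have h2 := congrArg (· ≫ pullback.snd pY pY) w
    simp [l, pullback.lift_fst, pullback.lift_snd] at h1 h2
    rw [← cancel_epi ((yon S).map i), ← h1, ← h2]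
  have := isLocallySurjective_of_repWith hgf hgp hgs
  have : Epi g := Sheaf.epi_of_isLocallySurjective g
  have : IsRegularEpiCategory (AlgSp.Sp S) :=
    inferInstanceAs (IsRegularEpiCategory (Sheaf (AlgSp.J S) (Type (u + 1))))
  have : IsRegularEpi g := IsRegularEpiCategory.regularEpiOfEpi g
  refine ⟨EffectiveEpi.desc g f fun g₁ g₂ h => ?_, EffectiveEpi.fac _ _ _⟩
  rw [← sqR.lift_fst g₁ g₂ h, Category.assoc]
  conv_rhs => rw [← sqR.lift_snd g₁ g₂ h, Category.assoc]
  exact congrArg (_ ≫ ·) hab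

end Groth.Agent.Stk19b.DenseFactor
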