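import Groth.Agent.AlgSpLib.Descent
import Groth.Prelude.Def_AlgSpRep

/-!
A Zariski sheaf covered fppf locally by subfunctors which are fppf sheaves, with sheaf fibres, is an fppf sheaf.
-/

set_option autoImplicit false
set_option backward.isDefEq.respectTransparency false
set_option backward.isDefEq.respectTransparency.types false

universe v u

open CategoryTheory CategoryTheory.Limits AlgebraicGeometry Opposite
open AlgSp

noncomputable section

namespace Groth.Agent.Stk19b.SubSheafCover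

variable {S : Scheme.{u}} {F : PSp S}

theorem injective_app {G : PSp S} (m : G ⟶ F) [Mono m] (U : (Over S)ᵒᵖ) : Function.Injective (m.app U) :=
  (mono_iff_injective _).1 inferInstance

/-- Membership in a subsheaf with sheaf fibres is fppf local. -/
theorem mem_range_of_cover {G : PSp S} (m : G ⟶ F) [Mono m] (hb : RepBySp m) {W : Over S}
    (x : F.obj (op W)) {R : Sieve W} (hR : R ∈ J S W)
    (hx : ∀ ⦃Z : Over S⦄ (g : Z ⟶ W), R g → F.map g.op x ∈ Set.range (m.app (op Z))) :
    x ∈ Set.range (m.app (op W)) := by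
  let ξ : (pyon S).obj W ⟶ F := uliftYonedaEquiv.symm x
  have hξ : ∀ {Z : Over S} (h : ToType (((pyon S).obj W).obj (op Z))), ξ.app (op Z) h = F.map h.down.op x :=
    fun h => rfl
  have sq := IsPullback.of_hasPullback m ξ
  obtain ⟨hP, -⟩ := hb ξ _ _ sq
  have sqZ : ∀ Z : Over S, IsPullback ((pullback.fst m ξ).app (op Z)) ((pullback.snd m ξ).app (op Z))
      (m.app (op Z)) (ξ.app (op Z)) := fun Z => sq.map ((evaluation _ _).obj (op Z))
  have hm : ∀ ⦃Z : Over S⦄ (g : Z ⟶ W), R g → ∃ p : (pullback m ξ).obj (op Z),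
      (pullback.snd m ξ).app (op Z) p = ULift.up g := fun Z g hg => by
    obtain ⟨y, hy⟩ := hx g hg
    obtain ⟨p, -, hp⟩ := Types.exists_of_isPullback (sqZ Z) y (ULift.up g) (hy.trans (hξ (ULift.up g)).symm)
    exact ⟨p, hp⟩
  choose p hp using hm
  have hinj : ∀ Z : Over S, Function.Injective ((pullback.snd m ξ).app (op Z)) := fun Z a b hab => by
    refine Types.ext_of_isPullback (sqZ Z) (injective_app m _ ?_) hab
    have ea := ConcreteCategory.congr_hom (sqZ Z).w a
    have eb := ConcreteCategory.congr_hom (sqZ Z).w b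
    simp only [types_comp_apply] at ea eb
    exact ea.trans ((congrArg _ hab).trans eb.symm)
  let fam : Presieve.FamilyOfElements (pullback m ξ) R.arrows := fun Z g hg => p g hg
  have hfam : fam.Compatible := fun Y₁ Y₂ Z g₁ g₂ f₁ f₂ h₁ h₂ e => hinj Z (by
    show (pullback.snd m ξ).app _ ((pullback m ξ).map g₁.op (p f₁ h₁)) =
      (pullback.snd m ξ).app _ ((pullback m ξ).map g₂.op (p f₂ h₂))
    rw [NatTrans.naturality_apply, NatTrans.naturality_apply, hp, hp]
    exact congrArg ULift.up e)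
  have hsh := ((isSheaf_iff_isSheaf_of_type (J S) _).1 hP) R hR
  let q := hsh.amalgamate fam hfam
  have hq : (pullback.snd m ξ).app (op W) q = ULift.up (𝟙 W) := by
    refine ((isSheaf_iff_isSheaf_of_type (J S) _).1 ((yon S).obj W).property R hR).isSeparatedFor.ext
      fun Z g hg => ?_
    show ((pyon S).obj W).map g.op ((pullback.snd m ξ).app (op W) q) = ((pyon S).obj W).map g.op (ULift.up (𝟙 W))
    rw [← NatTrans.naturality_apply, show (pullback m ξ).map g.op q = fam g hg from hsh.valid_glue hfam g hg]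
    exact (hp g hg).trans (congrArg ULift.up (Category.comp_id g).symm)
  refine ⟨(pullback.fst m ξ).app (op W) q, ?_⟩
  refine (ConcreteCategory.congr_hom (sqZ W).w q : _).trans ?_
  show ξ.app (op W) ((pullback.snd m ξ).app (op W) q) = x
  rw [hq, hξ]
  simp

variable {ι : Type v} {Fi : ι → PSp S} (m : ∀ i, Fi i ⟶ F)

/-- Refine an fppf cover to open pieces, each covered by one member of the cover. -/
theorem exists_open_refinement {T : Over S} {R : Sieve T} (hR : R ∈ J S T) (t : T.left) :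
    ∃ (W Z : Over S) (j : W ⟶ T) (q : Z ⟶ W), IsOpenImmersion j.left ∧ t ∈ Set.range j.left ∧
      R (q ≫ j) ∧ ∀ {R' : Sieve W}, R' q → R' ∈ J S W := by
  obtain ⟨R', hR', hle⟩ := AlgSpLib.exists_precoverage_of_mem hR
  obtain ⟨κ, Z, f, rfl⟩ := R'.exists_eq_ofArrows
  obtain ⟨hcov, hprop⟩ := (Scheme.ofArrows_mem_precoverage_iff _).1 hR'
  obtain ⟨k, z, hz⟩ := hcov t
  have hflat : Flat (f k) := (hprop k).1
  have hlfp : LocallyOfFinitePresentation (f k) := (hprop k).2
  let V : T.left.Opens := ⟨Set.range (f k), (f k).isOpenMap.isOpen_range⟩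
  let W : Over S := Over.mk (V.ι ≫ T.hom)
  let g : Z k ⟶ V := IsOpenImmersion.lift V.ι (f k) (by rw [Scheme.Opens.range_ι]; rfl)
  have hg : g ≫ V.ι = f k := IsOpenImmersion.lift_fac _ _ _
  have sq : IsPullback (𝟙 _) g (f k) V.ι :=
    IsPullback.of_iso_pullback ⟨by rw [Category.id_comp, hg]⟩
      { hom := pullback.lift (𝟙 _) g (by rw [Category.id_comp, hg])
        inv := pullback.fst _ _
        hom_inv_id := pullback.lift_fst _ _ _
        inv_hom_id := by
          refine pullback.hom_ext (by simp) ?_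
          rw [Category.assoc, pullback.lift_snd, Category.id_comp, ← cancel_mono V.ι, Category.assoc, hg]
          exact pullback.condition }
      (pullback.lift_fst _ _ _) (pullback.lift_snd _ _ _)
  let j : W ⟶ T := Over.homMk V.ι rfl
  let Zk : Over S := Over.mk (f k ≫ T.hom)
  let q : Zk ⟶ W := Over.homMk g (by simp [Zk, W, reassoc_of% hg])
  have : Flat q.left := MorphismProperty.of_isPullback (P := @Flat) sq hflat
  have : LocallyOfFinitePresentation q.left :=
    MorphismProperty.of_isPullback (P := @LocallyOfFinitePresentation) sq hlfp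
  have : Surjective q.left := ⟨fun v => by
    obtain ⟨y, hy⟩ := v.2
    refine ⟨y, V.ι.isOpenEmbedding.injective ?_⟩
    show V.ι (g y) = v.1
    rw [← Scheme.Hom.comp_apply, hg]
    exact hy⟩
  refine ⟨W, Zk, j, q, (inferInstance : IsOpenImmersion V.ι), ⟨⟨t, z, hz⟩, rfl⟩, ?_,
    fun h => AlgSpLib.mem_J_of_flat_lfp_surjective q h⟩
  rw [show q ≫ j = (Over.homMk (f k) : Zk ⟶ T) from Over.OverMorphism.ext hg]
  exact hle _ (Presieve.ofArrows.mk k)

variable [∀ i, Mono (m i)] (hb : ∀ i, RepBySp (m i))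
  (h1 : Presheaf.IsSheaf (QuotSh.J Scheme.zariskiPrecoverage S) F)
  (ha : ∀ i, Presheaf.IsSheaf (J S) (Fi i))
  (hc : ∀ (T : Over S) (x : F.obj (op T)), ∃ R ∈ (J S) T,
    ∀ ⦃T' : Over S⦄ (f : T' ⟶ T), R.arrows f → ∃ i, F.map f.op x ∈ Set.range ((m i).app (op T')))

/-- A sieve containing an open immersion around every point is a Zariski covering. -/
theorem zariski_mem {T : Over S} (R : Sieve T)
    (h : ∀ t : T.left, ∃ (W : Over S) (j : W ⟶ T), IsOpenImmersion j.left ∧ R j ∧ t ∈ Set.range j.left) :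
    R ∈ QuotSh.J Scheme.zariskiPrecoverage S T := by
  choose W j hj hR ht using h
  show Sieve.overEquiv T R ∈ Scheme.zariskiPrecoverage.toGrothendieck T.left
  refine GrothendieckTopology.superset_covering _ ?_ (Precoverage.generate_mem_toGrothendieck
    ((Scheme.ofArrows_mem_precoverage_iff (@IsOpenImmersion) (f := fun t => (j t).left)).2
      ⟨fun t => ⟨t, ht t⟩, hj⟩))
  rw [Sieve.generate_le_iff]
  rintro _ _ ⟨t⟩
  exact (Sieve.overEquiv_iff _ _).2 (by
    convert R.downward_closed (hR t) (Over.homMk (𝟙 _) (by simp [Over.w]) :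
      Over.mk ((j t).left ≫ T.hom) ⟶ W t) using 1
    exact Over.OverMorphism.ext (Category.id_comp _).symm)

include hb hc in
theorem exists_open_mem {T : Over S} (x : F.obj (op T)) (t : T.left) :
    ∃ (W : Over S) (j : W ⟶ T) (i : ι), IsOpenImmersion j.left ∧ t ∈ Set.range j.left ∧
      F.map j.op x ∈ Set.range ((m i).app (op W)) := by
  obtain ⟨R, hR, hx⟩ := hc T x
  obtain ⟨W, Z, j, q, hj, ht, hqj, hcov⟩ := exists_open_refinement hR t
  obtain ⟨i, hi⟩ := hx _ hqj
  refine ⟨W, j, i, hj, ht, mem_range_of_cover (m i) (hb i) _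
    (hcov (R' := Sieve.generate (Presieve.singleton q)) ⟨_, 𝟙 _, q, ⟨⟩, Category.id_comp _⟩) ?_⟩
  rintro Y g ⟨_, k, _, ⟨⟩, rfl⟩
  obtain ⟨y, hy⟩ := hi
  refine ⟨(Fi i).map k.op y, ?_⟩
  rw [NatTrans.naturality_apply, hy, ← Functor.map_comp_apply, ← Functor.map_comp_apply]
  simp

include hb h1 ha hc in
theorem isSeparated : Presieve.IsSeparated (J S) F := fun T R hR fam x y hx hy => by
  refine ((((isSheaf_iff_isSheaf_of_type _ _).1 h1).isSeparated) _
    (zariski_mem (S := S) { arrows := fun Z g => F.map g.op x = F.map g.op y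
                            downward_closed := fun {Y Z g} e k => by
                              rw [op_comp, Functor.map_comp_apply, Functor.map_comp_apply, e] }
      fun t => ?_)).ext fun Z g hg => hg
  obtain ⟨W, j, i, hj, ht, a, ha'⟩ := exists_open_mem m hb hc x t
  have hR' : R.pullback j ∈ J S W := (J S).pullback_stable j hR
  have heq : ∀ ⦃Z : Over S⦄ (g : Z ⟶ W), R.pullback j g → F.map g.op (F.map j.op y) = F.map g.op (F.map j.op x) := by
    intro Z g hg
    rw [← Functor.map_comp_apply, ← Functor.map_comp_apply, ← op_comp]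
    exact (hy _ hg).trans (hx _ hg).symm
  obtain ⟨b, hb'⟩ := mem_range_of_cover (m i) (hb i) (F.map j.op y) hR' fun Z g hg =>
    ⟨(Fi i).map g.op a, by rw [heq g hg, NatTrans.naturality_apply, ha']⟩
  refine ⟨W, j, hj, ?_, ht⟩
  show F.map j.op x = F.map j.op y
  rw [← ha', ← hb']
  refine congrArg _ ((((isSheaf_iff_isSheaf_of_type (J S) _).1 (ha i)) _ hR').isSeparatedFor.ext
    fun Z g hg => injective_app (m i) _ ?_)
  rw [NatTrans.naturality_apply, NatTrans.naturality_apply, ha', hb', heq g hg]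

include hb h1 ha hc in
theorem isSheaf : Presheaf.IsSheaf (J S) F := by
  refine (isSheaf_iff_isSheaf_of_type _ _).2 ((isSeparated m hb h1 ha hc).isSheaf fun T R hR fam hfam => ?_)
  have hF := (isSheaf_iff_isSheaf_of_type _ _).1 h1
  have hsep := isSeparated m hb h1 ha hc
  let Zar : Sieve T :=
    { arrows := fun W j => ∃ y : F.obj (op W), ∀ ⦃Z : Over S⦄ (g : Z ⟶ W) (hg : R (g ≫ j)),
        F.map g.op y = fam (g ≫ j) hg
      downward_closed := fun {W W' j} hj k => by
        obtain ⟨y, hy⟩ := hj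
        refine ⟨F.map k.op y, fun Z g hg => ?_⟩
        rw [← Functor.map_comp_apply, ← op_comp, hy (g ≫ k) (by rwa [Category.assoc])]
        have h' : R ((g ≫ k) ≫ j) := by rwa [Category.assoc]
        exact (by simpa using hfam (𝟙 Z) (𝟙 Z) h' hg (by simp) : fam _ h' = fam _ hg) }
  have hZar : Zar ∈ QuotSh.J Scheme.zariskiPrecoverage S T := zariski_mem Zar fun t => by
    obtain ⟨W₀, Z₀, j₀, q₀, hj₀, ⟨t₀, ht₀⟩, hq₀, hcov₀⟩ := exists_open_refinement hR t
    obtain ⟨P, hP, hPi⟩ := hc Z₀ (fam _ hq₀)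
    let B : Sieve W₀ :=
      { arrows := fun Y g => ∃ l : Y ⟶ Z₀, P l ∧ l ≫ q₀ = g
        downward_closed := fun {Y Y' g} hg k => by
          obtain ⟨l, hl, rfl⟩ := hg
          exact ⟨k ≫ l, P.downward_closed hl k, Category.assoc _ _ _⟩ }
    have hB : B ∈ J S W₀ :=
      (J S).transitive (hcov₀ (R' := Sieve.generate (Presieve.singleton q₀)) ⟨_, 𝟙 _, q₀, ⟨⟩, Category.id_comp _⟩) _ (by
        rintro Y g ⟨_, k, _, ⟨⟩, rfl⟩
        refine (J S).superset_covering ?_ ((J S).pullback_stable k hP)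
        intro Y' g' hg'
        exact ⟨g' ≫ k, hg', Category.assoc _ _ _⟩)
    obtain ⟨W, Z, j, q, hj, ht, hqj, hcov⟩ := exists_open_refinement hB t₀
    obtain ⟨l, hl, hlq⟩ := hqj
    obtain ⟨i, a, ha'⟩ := hPi l hl
    have hqR : R (q ≫ j ≫ j₀) := by
      rw [← Category.assoc, ← hlq, Category.assoc]
      exact R.downward_closed hq₀ l
    have ha'' : (m i).app (op Z) a = fam (q ≫ j ≫ j₀) hqR := by
      rw [ha']
      refine (?_ : _ = fam (l ≫ q₀ ≫ j₀) (R.downward_closed hq₀ l)).trans ?_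
      · exact (hfam (𝟙 _) l (R.downward_closed hq₀ l) hq₀ (Category.id_comp _)).symm.trans (by simp)
      · congr 1
        rw [← Category.assoc, hlq, Category.assoc]
    refine ⟨W, j ≫ j₀, inferInstanceAs (IsOpenImmersion (j.left ≫ j₀.left)), ?_, ?_⟩
    · have hmem : ∀ ⦃Y : Over S⦄ (g : Y ⟶ W) (hg : R (g ≫ j ≫ j₀)),
          fam _ hg ∈ Set.range ((m i).app (op Y)) := fun Y g hg => by
        refine mem_range_of_cover (m i) (hb i) _ ((J S).pullback_stable g (hcov
          (R' := Sieve.generate (Presieve.singleton q)) ⟨_, 𝟙 _, q, ⟨⟩, Category.id_comp _⟩)) ?_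
        rintro Y' g' ⟨_, k, _, ⟨⟩, hk⟩
        refine ⟨(Fi i).map k.op a, ?_⟩
        rw [NatTrans.naturality_apply, ha'']
        exact hfam k g' hqR hg (by rw [← Category.assoc, hk, Category.assoc])
      choose b hb' using hmem
      let famW : Presieve.FamilyOfElements (Fi i) (R.pullback (j ≫ j₀)).arrows := fun Y g hg => b g hg
      have hW : famW.Compatible := fun Y₁ Y₂ Y g₁ g₂ f₁ f₂ h₁ h₂ e => injective_app (m i) _ (by
        rw [NatTrans.naturality_apply, NatTrans.naturality_apply, hb', hb']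
        exact hfam g₁ g₂ h₁ h₂ (by rw [← Category.assoc, e, Category.assoc]))
      have hs := ((isSheaf_iff_isSheaf_of_type (J S) _).1 (ha i)) _ ((J S).pullback_stable (j ≫ j₀) hR)
      refine ⟨(m i).app (op W) (hs.amalgamate famW hW), fun Y g hg => ?_⟩
      rw [← NatTrans.naturality_apply, hs.valid_glue hW g hg]
      exact hb' g hg
    · obtain ⟨w, hw⟩ := ht
      exact ⟨w, by rw [Over.comp_left, Scheme.Hom.comp_apply, hw, ht₀]⟩
  choose s hs using fun W (j : W ⟶ T) (h : Zar j) => h
  let famZ : Presieve.FamilyOfElements F Zar.arrows := fun W j h => s W j h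
  have hZc : famZ.Compatible := fun W₁ W₂ Y g₁ g₂ j₁ j₂ h₁ h₂ e => by
    refine (hsep _ ((J S).pullback_stable (g₁ ≫ j₁) hR)).ext fun Z g hg => ?_
    show F.map g.op (F.map g₁.op (s _ _ h₁)) = F.map g.op (F.map g₂.op (s _ _ h₂))
    rw [← Functor.map_comp_apply, ← Functor.map_comp_apply, ← op_comp, ← op_comp,
      hs _ _ h₁ (g ≫ g₁) (by rw [Category.assoc]; exact hg),
      hs _ _ h₂ (g ≫ g₂) (by rw [Category.assoc, ← e]; exact hg)]
    congr 1
    rw [Category.assoc, Category.assoc, e]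
  refine ⟨(hF Zar hZar).amalgamate famZ hZc, fun Z f hf => ?_⟩
  refine (hF _ ((QuotSh.J Scheme.zariskiPrecoverage S).pullback_stable f hZar)).isSeparatedFor.ext
    fun W g hg => ?_
  rw [← Functor.map_comp_apply, ← op_comp, (hF Zar hZar).valid_glue hZc (g ≫ f) hg]
  have h0 : R (g ≫ f) := R.downward_closed hf g
  show s _ _ hg = F.map g.op (fam f hf)
  have hm : R (𝟙 W ≫ g ≫ f) := by rwa [Category.id_comp]
  have h1' := hs _ _ hg (𝟙 _) hm
  have h2 := hfam (𝟙 W) g hm hf (by simp)
  rw [op_id, Functor.map_id_apply] at h1' h2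
  exact h1'.trans h2

end Groth.Agent.Stk19b.SubSheafCover
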