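import Groth.Agent.AlgSpLib.MorSep
import Groth.Agent.AlgSpLib.MorQC
import Groth.Agent.AlgSpLib.Diag
import Groth.Prelude.Def_AlgSpGpd

/-!
# Separation properties of `j` and the unit section of the stabilizer
-/

set_option autoImplicit false
set_option backward.isDefEq.respectTransparency.types false

universe u

open CategoryTheory CategoryTheory.Limits AlgebraicGeometry
open Groth.Agent.AlgSpLib AlgSp

namespace Groth.Agent.Stk19b.GrpdSep

variable {S : Scheme.{u}} {B : AlgSp.Sp S} (G : AlgSp.GroupoidSp B)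
  (eG : G.U ⟶ G.stabilizer) (heG : eG ≫ G.stabilizerι = G.e)

theorem pts {T : AlgSp.Sp S} {r r' : T ⟶ G.R} (h : r ≫ G.j = r' ≫ G.j) :
    r ≫ G.t = r' ≫ G.t ∧ r ≫ G.s = r' ≫ G.s := by
  have h1 := congrArg (· ≫ pullback.fst G.pU G.pU) h
  have h2 := congrArg (· ≫ pullback.snd G.pU G.pU) h
  simp only [Category.assoc, GroupoidSp.j_fst, GroupoidSp.j_snd] at h1 h2
  exact ⟨h1, h2⟩

theorem diag_fst : G.diag ≫ pullback.fst G.pU G.pU = 𝟙 G.U := pullback.lift_fst _ _ _

theorem diag_snd : G.diag ≫ pullback.snd G.pU G.pU = 𝟙 G.U := pullback.lift_snd _ _ _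

/-- `(r, r') ↦ r⁻¹ r'`. -/
noncomputable def diff : pullback G.j G.j ⟶ G.stabilizer :=
  pullback.lift
    (pullback.lift (pullback.fst G.j G.j ≫ G.i) (pullback.snd G.j G.j)
      (by rw [Category.assoc, G.i_s, (pts G pullback.condition).1]) ≫ G.c)
    (pullback.fst G.j G.j ≫ G.s)
    (by
      apply pullback.hom_ext
      · simp only [Category.assoc, GroupoidSp.j_fst, diag_fst, Category.comp_id]
        rw [← Category.assoc, G.comp_t, Category.assoc, G.i_t]
      · simp only [Category.assoc, GroupoidSp.j_snd, diag_snd, Category.comp_id]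
        rw [← Category.assoc, G.comp_s, (pts G pullback.condition).2])

include heG in
theorem eG_toU : eG ≫ G.stabilizerToU = 𝟙 G.U := by
  have h : (eG ≫ G.stabilizerι) ≫ G.j = (eG ≫ G.stabilizerToU) ≫ G.diag := by
    rw [Category.assoc, Category.assoc]
    exact congrArg (eG ≫ ·) pullback.condition
  have h' := congrArg (· ≫ pullback.fst G.pU G.pU) h
  simp only [heG, Category.assoc, GroupoidSp.j_fst, diag_fst, Category.comp_id, G.e_t] at h'
  exact h'.symm

theorem diff_ι : diff G ≫ G.stabilizerι =
    pullback.lift (f := G.s) (g := G.t) (pullback.fst G.j G.j ≫ G.i) (pullback.snd G.j G.j)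
      (by rw [Category.assoc, G.i_s, (pts G pullback.condition).1]) ≫ G.c :=
  pullback.lift_fst _ _ _

theorem diff_toU : diff G ≫ G.stabilizerToU = pullback.fst G.j G.j ≫ G.s := pullback.lift_snd _ _ _

theorem stab_ext {T : AlgSp.Sp S} {x y : T ⟶ G.stabilizer} (h1 : x ≫ G.stabilizerι = y ≫ G.stabilizerι)
    (h2 : x ≫ G.stabilizerToU = y ≫ G.stabilizerToU) : x = y := pullback.hom_ext h1 h2

theorem eq_of_diff {T : AlgSp.Sp S} (r r' : T ⟶ G.R) (ht : r ≫ G.t = r' ≫ G.t)
    (h : pullback.lift (f := G.s) (g := G.t) (r ≫ G.i) r' (by rw [Category.assoc, G.i_s, ht]) ≫ G.c =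
      r ≫ G.s ≫ G.e) : r' = r := by
  have hi : r ≫ G.s = (r ≫ G.i) ≫ G.t := by rw [Category.assoc, G.i_t]
  have hi' : (r ≫ G.i) ≫ G.s = r' ≫ G.t := by rw [Category.assoc, G.i_s, ht]
  have h' := G.assoc r (r ≫ G.i) r' hi hi'
  simp only [h, G.comp_i r, G.comp_e r] at h'
  rw [← h']
  conv_lhs => rw [← G.e_comp r']
  congr 1
  apply pullback.hom_ext <;> simp [pullback.lift_fst, pullback.lift_snd, reassoc_of% ht]

include heG in
theorem isPullback_diagonal_j : IsPullback G.s (pullback.diagonal G.j) eG (diff G) := by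
  have w : G.s ≫ eG = pullback.diagonal G.j ≫ diff G := by
    refine stab_ext G ?_ ?_
    · rw [Category.assoc, Category.assoc, heG, diff_ι, ← Category.assoc (pullback.diagonal G.j)]
      have hl : pullback.diagonal G.j ≫ pullback.lift (f := G.s) (g := G.t) (pullback.fst G.j G.j ≫ G.i)
          (pullback.snd G.j G.j) (by rw [Category.assoc, G.i_s, (pts G pullback.condition).1]) =
          pullback.lift (f := G.s) (g := G.t) (𝟙 G.R ≫ G.i) (𝟙 G.R) (by rw [Category.assoc, G.i_s]) := by
        apply pullback.hom_ext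
        · simp [pullback.lift_fst]
        · simp [pullback.lift_snd]
      rw [hl, G.i_comp, Category.id_comp]
    · rw [Category.assoc, Category.assoc, diff_toU, eG_toU G eG heG, pullback.diagonal_fst_assoc,
        Category.comp_id]
  refine ⟨⟨w⟩, ⟨PullbackCone.IsLimit.mk _ (fun c => c.snd ≫ pullback.fst G.j G.j) (fun c => ?_) (fun c => ?_)
    (fun c m _ h2 => ?_)⟩⟩
  · have := congrArg (· ≫ G.stabilizerToU) c.condition
    simp only [Category.assoc, diff_toU, eG_toU G eG heG, Category.comp_id] at this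
    rw [Category.assoc]
    exact this.symm
  · have h1 := congrArg (· ≫ G.stabilizerι) c.condition
    have hx := congrArg (· ≫ G.stabilizerToU) c.condition
    simp only [Category.assoc, diff_ι, heG] at h1
    simp only [Category.assoc, diff_toU, eG_toU G eG heG, Category.comp_id] at hx
    have hjj : (c.snd ≫ pullback.fst G.j G.j) ≫ G.j = (c.snd ≫ pullback.snd G.j G.j) ≫ G.j := by
      rw [Category.assoc, Category.assoc, pullback.condition]
    obtain ⟨ht, hs⟩ := pts G hjj
    have key : pullback.lift (f := G.s) (g := G.t) ((c.snd ≫ pullback.fst G.j G.j) ≫ G.i)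
        (c.snd ≫ pullback.snd G.j G.j) (by rw [Category.assoc, G.i_s, ht]) ≫ G.c =
        (c.snd ≫ pullback.fst G.j G.j) ≫ G.s ≫ G.e := by
      have e : pullback.lift (f := G.s) (g := G.t) ((c.snd ≫ pullback.fst G.j G.j) ≫ G.i)
          (c.snd ≫ pullback.snd G.j G.j) (by rw [Category.assoc, G.i_s, ht]) =
          c.snd ≫ pullback.lift (f := G.s) (g := G.t) (pullback.fst G.j G.j ≫ G.i) (pullback.snd G.j G.j)
            (by rw [Category.assoc, G.i_s, (pts G pullback.condition).1]) := by
        apply pullback.hom_ext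
        · simp [pullback.lift_fst]
        · simp [pullback.lift_snd]
      rw [e, Category.assoc, ← h1, hx]
      simp only [Category.assoc]
    apply pullback.hom_ext
    · rw [Category.assoc, pullback.diagonal_fst, Category.comp_id]
    · rw [Category.assoc, pullback.diagonal_snd, Category.comp_id, eq_of_diff G _ _ ht key]
  · rw [← h2, Category.assoc, pullback.diagonal_fst, Category.comp_id]

end Groth.Agent.Stk19b.GrpdSep
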