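import Groth.Agent.AlgSpLib.MorTop
import Groth.Agent.AlgSpLib.LocP
import Groth.Prelude.Def_AlgSpGpd

/-!
# Morphisms to a field: flat and universally open; groupoid composition as a base change
-/

set_option autoImplicit false
set_option backward.isDefEq.respectTransparency.types false

universe u

open CategoryTheory CategoryTheory.Limits AlgebraicGeometry
open Groth.Agent.AlgSpLib AlgSp

namespace Groth.Agent.Stk19b.FieldGrpd

variable {S : Scheme.{u}} {F G H K : AlgSp.Sp S}

theorem isUnivOpenMor_of_isPullback {f : F ⟶ G} {g : H ⟶ G} {fst : K ⟶ F} {f' : K ⟶ H}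
    (sq : IsPullback fst f' f g) (hH : IsUnivOpenMor f) : IsUnivOpenMor f' :=
  fun _ _ hZ h _ _ sq' => hH hZ (h ≫ g) _ _ (sq'.paste_horiz sq)

theorem isUnivOpenMor_of_comp_iso {f : F ⟶ G} (e : G ≅ H) (hH : IsUnivOpenMor (f ≫ e.hom)) :
    IsUnivOpenMor f :=
  isUnivOpenMor_of_isPullback (g := e.hom) (fst := 𝟙 F)
    (IsPullback.of_horiz_isIso ⟨by rw [Category.id_comp]⟩) hH

theorem locP_flat_to_field (hF : IsAlgSpace F) {k : Type u} [Field k]
    {str : Spec (CommRingCat.of k) ⟶ S} (p : F ⟶ (yon S).obj (Over.mk str)) : LocP @Flat p := by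
  obtain ⟨U, a, hae, has⟩ := hF.atlas
  obtain ⟨l, hl⟩ := (yon S).map_surjective (a ≫ p)
  have : Flat l.left := by
    have : IsIntegral (Over.mk str).left := (inferInstance : IsIntegral (Spec (CommRingCat.of k)))
    have : Subsingleton ↥(Over.mk str).left :=
      (inferInstance : Subsingleton ↥(Spec (CommRingCat.of k)))
    infer_instance
  refine locP_of_atlas etLocal_flat hF a hae has ?_
  rw [← hl]
  exact (repWith_yon_map_iff _ l).2 this

theorem to_field_of_iso (hF : IsAlgSpace F) {k : Type u} [Field k] {str : Spec (CommRingCat.of k) ⟶ S}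
    (f : F ⟶ G) (eG : G ≅ (yon S).obj (Over.mk str)) : LocP @Flat f ∧ IsUnivOpenMor f := by
  refine ⟨fun U V a b h ha hb w => ?_, isUnivOpenMor_of_comp_iso eG (isUnivOpenMor_to_field hF _)⟩
  refine locP_flat_to_field hF (f ≫ eG.hom) a (b ≫ eG.hom) h ha ?_ (by rw [reassoc_of% w])
  exact RepWith.comp hb (repWith_of_isIso _ _)

theorem flat_open_of_isPullback (hF : IsAlgSpace F) (hG : IsAlgSpace G) (hK : IsAlgSpace K)
    {f : F ⟶ G} {g : H ⟶ G} {fst : K ⟶ F} {f' : K ⟶ H} (sq : IsPullback fst f' f g)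
    (h : LocP @Flat f ∧ IsUnivOpenMor f) : LocP @Flat f' ∧ IsUnivOpenMor f' :=
  ⟨locP_of_isPullback etLocal_flat hF hG hK sq h.1, isUnivOpenMor_of_isPullback sq h.2⟩

end Groth.Agent.Stk19b.FieldGrpd

namespace Groth.Agent.Stk19b.FieldGrpd

variable {S : Scheme.{u}} {F G H : AlgSp.Sp S}

theorem isUnivOpenMor_comp {f : F ⟶ G} {g : G ⟶ H} (hF : IsUnivOpenMor f) (hG : IsUnivOpenMor g)
    (hspace : ∀ {Z : AlgSp.Sp S}, IsAlgSpace Z → ∀ h : Z ⟶ H, IsAlgSpace (pullback g h)) :
    IsUnivOpenMor (f ≫ g) := fun Z Z' hZ h fst snd sq => by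
  have sqG := IsPullback.of_hasPullback g h
  let a : Z' ⟶ pullback g h := sqG.lift (fst ≫ f) snd (by rw [Category.assoc, sq.w])
  have sqF : IsPullback fst a f (pullback.fst g h) :=
    IsPullback.of_bot (v₂₁ := pullback.snd g h) (v₂₂ := g) (h₃₁ := h) (by rw [sqG.lift_snd]; exact sq)
      (sqG.lift_fst _ _ _).symm sqG
  show IsOpenMap (Points.map snd)
  rw [← sqG.lift_snd (fst ≫ f) snd (by rw [Category.assoc, sq.w]),
    show Points.map (a ≫ pullback.snd g h) = Points.map (pullback.snd g h) ∘ Points.map a from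
      funext fun x => Points.map_comp _ _ x]
  exact (hG hZ h _ _ sqG).comp (hF (hspace hZ h) _ _ _ sqF)

variable {U' U B : AlgSp.Sp S} (f : U' ⟶ U) (p : U ⟶ B) (p' : U' ⟶ B) (hp : f ≫ p = p')

/-- The first half of `U' ×_B U' ⟶ U ×_B U`. -/
noncomputable def mapR : pullback p' p' ⟶ pullback p' p :=
  pullback.lift (pullback.fst p' p') (pullback.snd p' p' ≫ f) (by rw [Category.assoc, hp, pullback.condition])

/-- The second half of `U' ×_B U' ⟶ U ×_B U`. -/
noncomputable def mapL : pullback p' p ⟶ pullback p p :=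
  pullback.lift (pullback.fst p' p ≫ f) (pullback.snd p' p) (by rw [Category.assoc, hp, pullback.condition])

theorem isPullback_mapR : IsPullback (pullback.snd p' p') (mapR f p p' hp) f (pullback.snd p' p) :=
  IsPullback.of_bot (v₂₁ := pullback.fst p' p) (v₂₂ := p) (h₃₁ := p')
    (by rw [mapR, pullback.lift_fst, hp]; exact (IsPullback.of_hasPullback p' p').flip)
    (by rw [mapR, pullback.lift_snd]) (IsPullback.of_hasPullback p' p).flip

theorem isPullback_mapL : IsPullback (pullback.fst p' p) (mapL f p p' hp) f (pullback.fst p p) :=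
  IsPullback.of_bot (v₂₁ := pullback.snd p p) (v₂₂ := p) (h₃₁ := p)
    (by rw [mapL, pullback.lift_snd, hp]; exact IsPullback.of_hasPullback p' p)
    (by rw [mapL, pullback.lift_fst]) (IsPullback.of_hasPullback p p)

theorem map_eq_comp :
    pullback.map p' p' p p f f (𝟙 B) (by rw [hp, Category.comp_id]) (by rw [hp, Category.comp_id]) =
      mapR f p p' hp ≫ mapL f p p' hp := by
  apply pullback.hom_ext <;>
    simp [pullback.map, mapR, mapL, pullback.lift_fst, pullback.lift_snd, pullback.lift_fst_assoc,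
      pullback.lift_snd_assoc]

end Groth.Agent.Stk19b.FieldGrpd
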