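import Groth.Agent.AlgSpLib.DecentPoints
import Groth.Agent.AlgSpLib.MorProper

/-!
# Decent group algebraic spaces over a field are separated
-/

set_option autoImplicit false
set_option backward.isDefEq.respectTransparency.types false

universe u

open CategoryTheory CategoryTheory.Limits AlgebraicGeometry MonoidalCategory CartesianMonoidalCategory
open MonObj GrpObj
open Groth.Agent.AlgSpLib AlgSp

namespace Groth.Agent.Stk19b.GrpSpSep

set_option maxHeartbeats 800000

variable {k : Type u} [Field k]

local notation "Sk" => Spec (CommRingCat.of k)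
local notation "pt" => (Over.mk (𝟙 (Spec (CommRingCat.of k))) : Over (Spec (CommRingCat.of k)))

/-- A quasi-compact point with a retraction to its field is closed. -/
theorem closedImmersion_of_qc_section {S : Scheme.{u}} {σ : Sk ⟶ S} {X : AlgSp.Sp S} (hX : IsAlgSpace X)
    (p : (yon S).obj (Over.mk σ) ⟶ X) (q : X ⟶ (yon S).obj (Over.mk σ)) (hpq : p ≫ q = 𝟙 _)
    (hq : RepWith @QuasiCompact p) : RepWith @IsClosedImmersion p := by
  have : Mono p := have : Mono (p ≫ q) := by rw [hpq]; infer_instance
    mono_of_mono p q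
  obtain ⟨V, b, hbe, hbs⟩ := hX.atlas
  obtain ⟨c, hc⟩ := (yon S).map_surjective (hq.1.fst b)
  obtain ⟨l, hl⟩ := (yon S).map_surjective (b ≫ q)
  let g := hq.1.snd b
  have sq : IsPullback ((yon S).map c) ((yon S).map g) p b := hc ▸ hq.1.isPullback b
  have hw : g.left ≫ l.left = c.left := by
    have : g ≫ l = c := (yon S).map_injective (by
      rw [Functor.map_comp, hl, ← reassoc_of% sq.w, hpq, Category.comp_id])
    exact congrArg CommaMorphism.left this
  have hce : Etale c.left := (repWith_yon_map_iff @Etale c).1 (RepWith.baseChange sq.flip hbe)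
  have hgm : Mono g.left := by
    have : Mono ((yon S).map g) :=
      MorphismProperty.of_isPullback (P := MorphismProperty.monomorphisms _) sq
        (MorphismProperty.monomorphisms.infer_property p)
    have : Mono g := (yon S).mono_of_mono_map this
    exact inferInstanceAs (Mono g.left)
  have hgq : QuasiCompact g.left := hq.property_snd b
  have : IsAffine (Over.mk σ).left := inferInstanceAs (IsAffine (Spec (CommRingCat.of k)))
  have : IsLocallyArtinian (Over.mk σ).left := inferInstanceAs (IsLocallyArtinian (Spec (CommRingCat.of k)))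
  have hfin : IsFinite g.left := by
    refine IsZariskiLocalAtTarget.of_iSup_eq_top (P := @IsFinite) (fun O : V.left.affineOpens => O.1)
      (iSup_affineOpens_eq_top _) fun O => ?_
    have : IsAffine O.1.toScheme := O.2
    let h := O.1.ι ≫ l.left
    have : CompactSpace ↥(g.left ⁻¹ᵁ O.1).toScheme :=
      isCompact_iff_compactSpace.1 ((quasiCompact_iff _).1 hgq _ O.1.isOpen O.2.isCompact)
    have he : (g.left ∣_ O.1) ≫ h = (g.left ⁻¹ᵁ O.1).ι ≫ c.left := by
      simp only [h, morphismRestrict_ι_assoc, hw]
    have : Etale ((g.left ∣_ O.1) ≫ h) := by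
      rw [he]
      have : Etale (g.left ⁻¹ᵁ O.1).ι := inferInstance
      exact MorphismProperty.comp_mem _ _ _ this hce
    have := locallyQuasiFinite_of_etale ((g.left ∣_ O.1) ≫ h)
    have : QuasiCompact ((g.left ∣_ O.1) ≫ h) :=
      (HasAffineProperty.iff_of_isAffine (P := @QuasiCompact)).mpr ‹CompactSpace _›
    have : IsFinite ((g.left ∣_ O.1) ≫ h) := IsFinite.of_locallyQuasiFinite _
    exact IsFinite.of_comp (g.left ∣_ O.1) h
  have : Sheaf.IsLocallySurjective b := isLocallySurjective_of_etale hbe hbs
  exact repWith_of_isLocallySurjective hq.1 b sq @IsClosedImmersion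
    ((repWith_yon_map_iff @IsClosedImmersion g).2 ((IsClosedImmersion.iff_isFinite_and_mono _).2 ⟨hfin, hgm⟩))

theorem closedImmersion_of_decent {S : Scheme.{u}} {σ : Sk ⟶ S} {X : AlgSp.Sp S} (hX : IsAlgSpace X)
    (hd : IsDecent X) (p : (yon S).obj (Over.mk σ) ⟶ X) (q : X ⟶ (yon S).obj (Over.mk σ))
    (hpq : p ≫ q = 𝟙 _) : RepWith @IsClosedImmersion p := by
  have : Mono p := have : Mono (p ≫ q) := by rw [hpq]; infer_instance
    mono_of_mono p q
  exact closedImmersion_of_qc_section hX p q hpq
    (repWith_quasiCompact_of_finiteFibres hX p (FiniteFibres.of_mk (hd (ptOfHom p))).2)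

/-- the diagonal is the base change of the unit along `(x, y) ↦ x * y⁻¹` -/
theorem isPullback_lift_id {C : Type*} [Category C] [CartesianMonoidalCategory C] (G : C) [GrpObj G] :
    IsPullback (toUnit G) (lift (𝟙 G) (𝟙 G)) η[G] (fst G G * (snd G G)⁻¹) := by
  have hz : ∀ {Z : C} (z : Z ⟶ 𝟙_ C), z ≫ η[G] = 1 := fun z => by
    rw [Hom.one_def, Subsingleton.elim z (toUnit _)]
  refine ⟨⟨?_⟩, ⟨PullbackCone.IsLimit.mk _ (fun c => c.snd ≫ fst G G) (fun c => Subsingleton.elim _ _)
    (fun c => ?_) (fun c m _ h2 => ?_)⟩⟩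
  · rw [hz, MonObj.comp_mul, GrpObj.comp_inv, lift_fst, lift_snd, mul_inv_cancel]
  · have h := c.condition
    rw [hz, MonObj.comp_mul, GrpObj.comp_inv] at h
    have e := mul_inv_eq_one.1 h.symm
    apply CartesianMonoidalCategory.hom_ext
    · rw [Category.assoc, lift_fst, Category.comp_id]
    · rw [Category.assoc, lift_snd, Category.comp_id, e]
  · rw [← h2, Category.assoc, lift_fst, Category.comp_id]

theorem isSeparatedSp_of_decent (G : Over ((yon Sk).obj pt)) [GrpObj G]
    (hG : IsAlgSpace G.left) (hd : IsDecent G.left) : IsSeparatedSp G.left := by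
  let e : (yon Sk).obj pt ⟶ G.left := η[G].left
  have hc := closedImmersion_of_decent hG hd e G.hom ((isTerminal_yon_base Sk).some.hom_ext _ _)
  have sq : IsPullback (toUnit G).left (lift (𝟙 G) (𝟙 G)).left e (fst G G * (snd G G)⁻¹).left :=
    (isPullback_lift_id G).map (Over.forget _)
  have hd' : pullback.diagonal G.hom = (lift (𝟙 G) (𝟙 G)).left := by
    apply pullback.hom_ext
    · rw [pullback.diagonal_fst]
      exact (congrArg CommaMorphism.left (lift_fst (𝟙 G) (𝟙 G))).symm
    · rw [pullback.diagonal_snd]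
      exact (congrArg CommaMorphism.left (lift_snd (𝟙 G) (𝟙 G))).symm
  refine (repWith_diagonal_iff_diag _ (isTerminal_yon_base Sk).some G.hom).1 ?_
  rw [hd']
  exact RepWith.baseChange sq hc

end Groth.Agent.Stk19b.GrpSpSep
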