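import Groth.Agent.Stk19b.FieldImage
import Groth.Agent.AlgSpLib.Diag
import Groth.Agent.AlgSpLib.RepBySpLemmas
import Groth.Prelude.Def_AlgSpGpd

/-!
The map `R ⟶ U ×_B U` of a groupoid over a field has fibres of full dimension.
-/

set_option autoImplicit false
set_option backward.isDefEq.respectTransparency false
set_option backward.isDefEq.respectTransparency.types false

universe u

open CategoryTheory CategoryTheory.Limits AlgebraicGeometry TensorProduct Topology
open AlgSp Groth.Agent.AlgSpLib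

noncomputable section

namespace Groth.Agent.Stk19b.FieldStab

theorem fibreDimAt_of_const {U V : Scheme.{u}} (h : U ⟶ V) (u : U) (hc : ∀ x, h x = h u) :
    FlatMor.fibreDimAt h u = FlatMor.localDim U u := by
  have hs : Function.Surjective (h.fiberι (h u)) := fun x => by
    have : x ∈ Set.range (h.fiberι (h u)) := by
      rw [h.range_fiberι (h u)]
      exact hc x
    exact this
  have he : IsOpenEmbedding (h.fiberι (h u)) :=
    ⟨(h.fiberι (h u)).isEmbedding, by rw [hs.range_eq]; exact isOpen_univ⟩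
  show FlatMor.localDim _ (h.asFiber u) = _
  rw [localDim_eq_of_map he.continuous he.isOpenMap he.generalizingMap
    (fun _ _ _ e => he.injective e) (h.asFiber u), Scheme.Hom.fiberι_asFiber]

theorem eq_of_specializes_of_lqf {A B : Scheme.{u}} (c : A ⟶ B) [LocallyQuasiFinite c] {x y : A}
    (h : y ⤳ x) (e : c y = c x) : y = x := by
  have hd : _root_.IsDiscrete (c ⁻¹' {c x}) := c.isDiscrete_preimage_singleton (c x)
  have := hd.to_subtype
  have h1 : (⟨y, e⟩ : ↥(c ⁻¹' {c x})) ⤳ ⟨x, rfl⟩ :=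
    Topology.IsInducing.subtypeVal.specializes_iff.1 h
  exact congrArg Subtype.val h1.eq

/-- Near `w` a map is constant, if it identifies specialisations and the source is locally noetherian. -/
theorem exists_const_nhd {W V : Scheme.{u}} [IsLocallyNoetherian W] (h : W ⟶ V)
    (hsp : ∀ {a b : W}, a ⤳ b → h a = h b) (w : W) :
    ∃ O : W.Opens, w ∈ O ∧ ∀ x ∈ O, h x = h w := by
  obtain ⟨O₁, hO₁, hw, -⟩ := exists_isAffineOpen_mem_and_subset (x := w) (U := ⊤) trivial
  have : IsAffine (O₁ : Scheme.{u}) := hO₁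
  have : IsNoetherian (O₁ : Scheme.{u}) := {}
  let w₁ : ↥(O₁ : Scheme.{u}) := ⟨w, hw⟩
  let bad : Set (Set ↥(O₁ : Scheme.{u})) := {Z ∈ irreducibleComponents _ | w₁ ∉ Z}
  have hfin : bad.Finite :=
    (TopologicalSpace.NoetherianSpace.finite_irreducibleComponents).subset fun Z hZ => hZ.1
  have hclosed : IsClosed (⋃₀ bad) := Set.sUnion_eq_biUnion ▸
    hfin.isClosed_biUnion fun Z hZ => isClosed_of_mem_irreducibleComponents Z hZ.1
  let O₂ : (O₁ : Scheme.{u}).Opens := ⟨(⋃₀ bad)ᶜ, hclosed.isOpen_compl⟩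
  refine ⟨O₁.ι ''ᵁ O₂, ⟨w₁, ?_, rfl⟩, ?_⟩
  · rintro ⟨Z, hZ, hwZ⟩
    exact hZ.2 hwZ
  · rintro _ ⟨x, hx, rfl⟩
    let Z := irreducibleComponent x
    have hwZ : w₁ ∈ Z := by
      by_contra hn
      exact hx ⟨Z, ⟨irreducibleComponent_mem_irreducibleComponents x, hn⟩, mem_irreducibleComponent⟩
    have hg := (isIrreducible_irreducibleComponent (x := x)).isGenericPoint_genericPoint_closure
    rw [isClosed_irreducibleComponent.closure_eq] at hg
    have h1 := hsp ((hg.specializes mem_irreducibleComponent).map O₁.ι.continuous)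
    have h2 := hsp ((hg.specializes hwZ).map O₁.ι.continuous)
    exact h1.symm.trans h2

theorem fibreDimAt_eq_localDim {W V : Scheme.{u}} [IsLocallyNoetherian W] (h : W ⟶ V)
    (hsp : ∀ {a b : W}, a ⤳ b → h a = h b) (w : W) :
    FlatMor.fibreDimAt h w = FlatMor.localDim W w := by
  obtain ⟨O, hw, hO⟩ := exists_const_nhd h hsp w
  have h1 := fibreDimAt_eq_of_etale_square (h := h) (h' := O.ι ≫ h) O.ι (𝟙 V)
    (Category.comp_id _).symm ⟨w, hw⟩
  have h2 : O.ι ⟨w, hw⟩ = w := rfl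
  rw [h2] at h1
  rw [h1, fibreDimAt_of_const (O.ι ≫ h) ⟨w, hw⟩ (fun x => hO x.1 x.2), EtaleDim.localDim_eq O.ι, h2]

variable {S : Scheme.{u}} {k : Type u} [Field k] {σ : Spec (CommRingCat.of k) ⟶ S}

/-- Specialisations are not seen in `U ×_S U`. -/
theorem eq_of_specializes_pullback {W : Scheme.{u}} (q : W ⟶ pullback σ σ)
    [LocallyOfFiniteType (q ≫ pullback.snd σ σ)] {w' w : W} (h : w' ⤳ w) : q w' = q w := by
  let z : ↥(Spec (CommRingCat.of k)) := IsLocalRing.closedPoint k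
  obtain ⟨O, hO, hz, -⟩ := exists_isAffineOpen_mem_and_subset (x := σ z) (U := ⊤) trivial
  have hr : Set.range σ ⊆ Set.range hO.fromSpec := by
    rw [hO.range_fromSpec]
    rintro _ ⟨y, rfl⟩
    rwa [Subsingleton.elim y z]
  obtain ⟨c, hc⟩ := Spec.map_surjective (IsOpenImmersion.lift hO.fromSpec σ hr)
  letI : Algebra Γ(S, O) k := c.hom.toAlgebra
  have hσ : Spec.map (CommRingCat.ofHom (algebraMap Γ(S, O) k)) ≫ hO.fromSpec = σ := by
    show Spec.map c ≫ _ = _
    rw [hc, IsOpenImmersion.lift_fac]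
  let s₀ := Spec.map (CommRingCat.ofHom (algebraMap Γ(S, O) k))
  have sqP : IsPullback (pullback.fst σ σ) (pullback.snd σ σ) s₀ s₀ :=
    ⟨⟨by rw [← cancel_mono hO.fromSpec, Category.assoc, Category.assoc, hσ, pullback.condition]⟩,
      ⟨PullbackCone.IsLimit.mk _
        (fun c => pullback.lift c.fst c.snd
          (by rw [← hσ, ← Category.assoc, ← Category.assoc, c.condition]))
        (fun c => pullback.lift_fst _ _ _) (fun c => pullback.lift_snd _ _ _)
        (fun c m h₁ h₂ => pullback.hom_ext (h₁.trans (pullback.lift_fst _ _ _).symm)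
          (h₂.trans (pullback.lift_snd _ _ _).symm))⟩⟩
  let e : pullback σ σ ≅ Spec (.of (k ⊗[Γ(S, O)] k)) :=
    sqP.isoPullback ≪≫ pullbackSpecIso Γ(S, O) k k
  have he : e.hom ≫ Spec.map (CommRingCat.ofHom
      (Algebra.TensorProduct.includeRight : k →ₐ[Γ(S, O)] k ⊗[Γ(S, O)] k).toRingHom) = pullback.snd σ σ := by
    show (sqP.isoPullback.hom ≫ (pullbackSpecIso Γ(S, O) k k).hom) ≫ _ = _
    rw [Category.assoc]
    exact (congrArg (sqP.isoPullback.hom ≫ ·) (pullbackSpecIso_hom_snd _ _ _)).trans sqP.isoPullback_hom_snd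
  have : LocallyOfFiniteType ((q ≫ e.hom) ≫ Spec.map (CommRingCat.ofHom
      (Algebra.TensorProduct.includeRight : k →ₐ[Γ(S, O)] k ⊗[Γ(S, O)] k).toRingHom)) := by
    rw [Category.assoc, he]
    infer_instance
  have h1 := FieldImage.eq_of_specializes (q ≫ e.hom) h
  exact e.hom.isOpenEmbedding.injective h1

theorem mono_lift {Q : Over S} {π₁ π₂ : Q ⟶ Over.mk σ}
    (hQ : ∀ {T : Over S} (a b : T ⟶ Q), a ≫ π₁ = b ≫ π₁ → a ≫ π₂ = b ≫ π₂ → a = b)
    {U : Sp S} (eU : U ≅ (yon S).obj (Over.mk σ)) :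
    Mono (prod.lift ((yon S).map π₁ ≫ eU.inv) ((yon S).map π₂ ≫ eU.inv)) := by
  refine ⟨fun {X} a b hab => AlgSpLib.hom_ext_of_yon fun T x => ?_⟩
  obtain ⟨a', ha⟩ := (yon S).map_surjective (x ≫ a)
  obtain ⟨b', hb⟩ := (yon S).map_surjective (x ≫ b)
  have h : ∀ (π : Q ⟶ Over.mk σ), a ≫ (yon S).map π ≫ eU.inv = b ≫ (yon S).map π ≫ eU.inv → a' ≫ π = b' ≫ π := fun π h => by
    refine (yon S).map_injective ?_
    rw [Functor.map_comp, Functor.map_comp, ha, hb, Category.assoc, Category.assoc, ← cancel_mono eU.inv]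
    simp only [Category.assoc, h]
  rw [← ha, ← hb, hQ a' b' (h π₁ ?_) (h π₂ ?_)]
  · simpa using congrArg (· ≫ prod.fst) hab
  · simpa using congrArg (· ≫ prod.snd) hab

variable {B : Sp S} (hB : IsAlgSpace B) (G : AlgSp.GroupoidSp B) (hR : IsAlgSpace G.R)
  (eU : G.U ≅ (yon S).obj (Over.mk σ)) (hs : LocP @LocallyOfFiniteType G.s)

include hB hR eU hs

theorem chart_spec {W V : Over S} (a : (yon S).obj W ⟶ G.R) (b : (yon S).obj V ⟶ pullback G.pU G.pU)
    (h : W ⟶ V) (ha : RepWith @Etale a) (hb : RepWith @Etale b) (w : a ≫ G.j = (yon S).map h ≫ b) :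
    LocallyOfFiniteType h.left ∧ ∀ x, FlatMor.fibreDimAt h.left x = FlatMor.localDim ↥W.left x := by
  let Q : Over S := Over.mk (pullback.fst σ σ ≫ σ)
  let π₁ : Q ⟶ Over.mk σ := Over.homMk (pullback.fst σ σ) rfl
  let π₂ : Q ⟶ Over.mk σ := Over.homMk (pullback.snd σ σ) pullback.condition.symm
  obtain ⟨l₁, hl₁⟩ := (yon S).map_surjective (b ≫ pullback.fst G.pU G.pU ≫ eU.hom)
  obtain ⟨l₂, hl₂⟩ := (yon S).map_surjective (b ≫ pullback.snd G.pU G.pU ≫ eU.hom)
  let p : V ⟶ Q := Over.homMk (pullback.lift l₁.left l₂.left ((Over.w l₁).trans (Over.w l₂).symm))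
    (by
      show pullback.lift _ _ _ ≫ pullback.fst σ σ ≫ σ = _
      rw [pullback.lift_fst_assoc]
      exact Over.w l₁)
  have hp₁ : p ≫ π₁ = l₁ := Over.OverMorphism.ext (pullback.lift_fst _ _ _)
  have hp₂ : p ≫ π₂ = l₂ := Over.OverMorphism.ext (pullback.lift_snd _ _ _)
  have hQ : ∀ {T : Over S} (a b : T ⟶ Q), a ≫ π₁ = b ≫ π₁ → a ≫ π₂ = b ≫ π₂ → a = b :=
    fun a b h₁ h₂ => Over.OverMorphism.ext (pullback.hom_ext (congrArg (fun t => t.left) h₁)
      (congrArg (fun t => t.left) h₂))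
  have := mono_lift hQ eU
  have hlqf : LocallyQuasiFinite p.left := by
    have h1 : RepWith @LocallyQuasiFinite
        (prod.lift (pullback.fst G.pU G.pU) (pullback.snd G.pU G.pU)) :=
      RepWith.baseChange (isPullback_diag_of_isPullback (IsPullback.of_hasPullback G.pU G.pU))
        (RepWith.mono (fun _ _ g hg => hg.1) (repWith_diag_lqf hB))
    have h2 := RepWith.comp
      (RepWith.mono (fun _ _ g (_ : Etale g) => locallyQuasiFinite_of_etale g) hb) h1
    have e : b ≫ prod.lift (pullback.fst G.pU G.pU) (pullback.snd G.pU G.pU) =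
        (yon S).map p ≫ prod.lift ((yon S).map π₁ ≫ eU.inv) ((yon S).map π₂ ≫ eU.inv) := by
      apply prod.hom_ext <;>
        simp only [Category.assoc, prod.lift_fst, prod.lift_snd, ← Functor.map_comp_assoc, hp₁, hp₂,
          hl₁, hl₂, Iso.hom_inv_id, Category.comp_id]
    rw [e] at h2
    exact (repWith_yon_map_iff _ _).1 (repWith_of_comp_mono _ _ h2)
  have hlft : LocallyOfFiniteType (h.left ≫ l₂.left) := by
    refine hs a eU.inv (h ≫ l₂) ha (AlgSpLib.repWith_of_isIso @Etale eU.inv) ?_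
    rw [Functor.map_comp, hl₂]
    simp only [Category.assoc, Iso.hom_inv_id, Category.comp_id]
    rw [← Category.assoc, ← w, Category.assoc, G.j_snd]
  refine ⟨locallyOfFiniteType_of_comp h.left l₂.left, fun x => ?_⟩
  have : IsLocallyNoetherian (Over.mk σ).left :=
    inferInstanceAs (IsLocallyNoetherian (Spec (CommRingCat.of k)))
  have := LocallyOfFiniteType.isLocallyNoetherian (h.left ≫ l₂.left)
  refine fibreDimAt_eq_localDim h.left (fun {c d} hcd => ?_) x
  refine eq_of_specializes_of_lqf p.left (hcd.map h.left.continuous) ?_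
  have hsnd : (h.left ≫ p.left) ≫ pullback.snd σ σ = h.left ≫ l₂.left := by
    rw [Category.assoc]
    exact congrArg (h.left ≫ ·) (pullback.lift_snd _ _ _)
  have : LocallyOfFiniteType ((h.left ≫ p.left) ≫ pullback.snd σ σ) := hsnd ▸ hlft
  exact eq_of_specializes_pullback (σ := σ) (h.left ≫ p.left) hcd

theorem locP_j : LocP @LocallyOfFiniteType G.j := fun _ _ a b h ha hb w =>
  (chart_spec hB G hR eU hs a b h ha hb w).1

theorem fibreDim_j (d : WithBot ℕ∞)
    (hd : ∀ (W : Over S) (a : (yon S).obj W ⟶ G.R) (x : ↥W.left), RepWith @Etale a →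
      FlatMor.localDim ↥W.left x = d) (hU : IsAlgSpace G.U) (r : Points G.R) :
    HasAtMor (fun _ _ h u => FlatMor.fibreDimAt h u = d) G.j r := by
  have hP := isAlgSpace_of_isPullback hB.diag hU hU (IsPullback.of_hasPullback G.pU G.pU)
  obtain ⟨W, V, a, b, h, x, ha, hb, w, rfl⟩ := exists_chart_at hR hP G.j r
  exact ⟨W, V, a, b, h, x, ha, hb, w, rfl,
    ((chart_spec hB G hR eU hs a b h ha hb w).2 x).trans (hd W a x ha)⟩

end Groth.Agent.Stk19b.FieldStab
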