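import Groth.Agent.AlgSpLib.EqvQuot
import Groth.Agent.AlgSpLib.MorTop
import Groth.Agent.AlgGrpLib.FppfGeomQuot

/-!
# The quotient of a restriction along a map with open saturated image is an open subsheaf
-/

set_option autoImplicit false
set_option backward.isDefEq.respectTransparency.types false

universe u

open CategoryTheory CategoryTheory.Limits AlgebraicGeometry
open Groth.Agent.AlgSpLib AlgSp

namespace Groth.Agent.Stk19b.RestrictOpen

set_option maxHeartbeats 800000

variable {S : Scheme.{u}} {R U U' R' : Over S} {s t : R ⟶ U}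

theorem ofPt_yon_comp {T : Over S} {F : AlgSp.Sp S} (φ : T ⟶ U) (p : (yon S).obj U ⟶ F) (x : ↥T.left) :
    Points.ofPt ((yon S).map φ ≫ p) x = Points.ofPt p (φ.left x) := by
  rw [Points.ofPt_eq_map_ofScheme, Points.map_comp, map_yon_map_ofScheme, ← Points.ofPt_eq_map_ofScheme]

/-- Points with the same image in the quotient are related by an arrow. -/
theorem exists_arrow_of_ofPt_eq (hpre : IsPreEqvRelSp ((yon S).map s) ((yon S).map t)) (u v : ↥U.left)
    (h : Points.ofPt (quotSpπ ((yon S).map s) ((yon S).map t)) u =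
      Points.ofPt (quotSpπ ((yon S).map s) ((yon S).map t)) v) :
    ∃ r : ↥R.left, t.left r = v ∧ s.left r = u := by
  rw [Points.ofPt_eq_map_ofScheme, Points.ofPt_eq_map_ofScheme] at h
  obtain ⟨Ω, _, w, a, b, e, ha, hb⟩ := exists_of_map_eq h
  obtain ⟨C, hC, hr⟩ := exists_covering_rel _ _ hpre b a e.symm
  obtain ⟨κ, Y, f, hf, c, hc, -, -, hcs⟩ := AlgGrpLib.FppfGeomQuot.exists_family_of_covering hC
  obtain ⟨y, -⟩ := hcs.surj (IsLocalRing.closedPoint Ω)
  obtain ⟨i, z, -⟩ : ∃ (i : κ) (z : ↥(Y i).left), (sigmaOverι Y i).left z = y :=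
    (sigmaOpenCover fun i => (Y i).left).exists_eq y
  obtain ⟨r, hr1, hr2⟩ := hr (f i) (hf i)
  obtain ⟨r0, hr0⟩ := (Points.schemeEquiv R).surjective (Points.map r (Points.ofScheme _ z))
  have key : ∀ (a : (yon S).obj (Over.mk w) ⟶ (yon S).obj U) (x : Points ((yon S).obj (Over.mk w))),
      Points.map a x = ptOfHom a := fun a x => by
    have : Subsingleton (Points ((yon S).obj (Over.mk w))) :=
      haveI : Subsingleton ↥(Over.mk w).left := (inferInstance : Subsingleton ↥(Spec (CommRingCat.of Ω)))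
      (Points.schemeEquiv (Over.mk w)).symm.subsingleton
    rw [Subsingleton.elim x (ptOfHom (𝟙 _)), map_ptOfHom, Category.id_comp]
  have h1 := congrArg (fun q => Points.map q (Points.ofScheme _ z)) hr1
  have h2 := congrArg (fun q => Points.map q (Points.ofScheme _ z)) hr2
  simp only [Points.map_comp, key, ha, hb] at h1 h2
  have hr0' : Points.map r (Points.ofScheme _ z) = Points.ofScheme R r0 := hr0.symm
  rw [hr0', map_yon_map_ofScheme] at h1 h2
  exact ⟨r0, (Points.schemeEquiv U).injective h1, (Points.schemeEquiv U).injective h2⟩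

theorem repWith_restrict (hpre : IsPreEqvRelSp ((yon S).map s) ((yon S).map t)) (g : U' ⟶ U)
    {P W : Over S} (p1 : P ⟶ U') (p2 : P ⟶ R) (ι : W ⟶ U) (hlift : P ⟶ W) [IsOpenImmersion ι.left]
    (hsq : IsPullback p1.left p2.left g.left t.left) (hh : hlift ≫ ι = p2 ≫ s)
    (hW : Set.range ι.left = Set.range (p2 ≫ s).left) (hp : p1 ≫ g = p2 ≫ t)
    (hsurj : Sheaf.IsLocallySurjective ((yon S).map hlift))
    {s' t' : R' ⟶ U'} {r : R' ⟶ R}
    (sqR : IsPullback (prod.lift t' s') r (prod.map g g) (prod.lift t s))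
    (ψ : quotSp ((yon S).map s') ((yon S).map t') ⟶ quotSp ((yon S).map s) ((yon S).map t))
    (hψ : quotSpπ ((yon S).map s') ((yon S).map t') ≫ ψ =
      (yon S).map g ≫ quotSpπ ((yon S).map s) ((yon S).map t)) :
    RepWith @IsOpenImmersion ψ := by
  have : Mono ψ := by
    refine mono_of_restrict hpre ((yon S).map g) (fun T a b q h1 h2 => ?_) ψ hψ
    obtain ⟨a, rfl⟩ := (yon S).map_surjective a
    obtain ⟨b, rfl⟩ := (yon S).map_surjective b
    obtain ⟨q, rfl⟩ := (yon S).map_surjective q
    simp only [← Functor.map_comp] at h1 h2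
    replace h1 := (yon S).map_injective h1
    replace h2 := (yon S).map_injective h2
    obtain ⟨l, l1, -⟩ := sqR.exists_lift (prod.lift a b) q (by
      apply Limits.prod.hom_ext
      · rw [prod.lift_map, prod.lift_fst, Category.assoc, prod.lift_fst, h1]
      · rw [prod.lift_map, prod.lift_snd, Category.assoc, prod.lift_snd, h2])
    refine ⟨(yon S).map l, ?_, ?_⟩
    · rw [← Functor.map_comp]
      exact congrArg _ (by simpa [prod.lift_fst] using congrArg (· ≫ prod.fst) l1)
    · rw [← Functor.map_comp]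
      exact congrArg _ (by simpa [prod.lift_snd] using congrArg (· ≫ prod.snd) l1)
  let π := quotSpπ ((yon S).map s) ((yon S).map t)
  let O : Set (Points (quotSp ((yon S).map s) ((yon S).map t))) := Set.range (Points.ofPt ((yon S).map g ≫ π))
  have hπst : ∀ z : ↥R.left, Points.ofPt π (s.left z) = Points.ofPt π (t.left z) := fun z => by
    rw [← ofPt_yon_comp, ← ofPt_yon_comp, quotSp_condition]
  have hO : ∀ x : ↥U.left, Points.ofPt π x ∈ O ↔ x ∈ Set.range ι.left := fun x => by
    rw [hW]
    constructor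
    · rintro ⟨x', hx'⟩
      rw [ofPt_yon_comp] at hx'
      obtain ⟨z, hz1, hz2⟩ := exists_arrow_of_ofPt_eq hpre x (g.left x') hx'.symm
      obtain ⟨q, -, hq⟩ := Scheme.exists_preimage_of_isPullback hsq x' z hz1.symm
      exact ⟨q, by rw [Over.comp_left, Scheme.Hom.comp_apply, hq, hz2]⟩
    · rintro ⟨q, rfl⟩
      refine ⟨p1.left q, ?_⟩
      rw [ofPt_yon_comp, Over.comp_left, Scheme.Hom.comp_apply, hπst, ← Scheme.Hom.comp_apply,
        ← Scheme.Hom.comp_apply, ← Over.comp_left, ← Over.comp_left, hp]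
  have : Epi π := epi_quotSpπ _ _
  have hopen : IsOpen O := isOpen_of_forall_affine fun T hT ξ => by
    obtain ⟨V, c, hV, hcf, hcp, hcs, x, -, hx, -⟩ := exists_affine_lift π ξ ξ
    obtain ⟨x, rfl⟩ := (yon S).map_surjective x
    have key : Points.map ξ ⁻¹' O =
        Points.ofScheme T '' (c.left '' (x.left ⁻¹' Set.range ι.left)) := by
      ext y
      obtain ⟨y, rfl⟩ := (Points.schemeEquiv T).surjective y
      constructor
      · intro hy
        obtain ⟨v, rfl⟩ := c.left.surjective y
        refine ⟨_, ⟨v, ?_, rfl⟩, rfl⟩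
        rw [Set.mem_preimage, ← hO, ← ofPt_yon_comp, hx, ofPt_yon_comp, Points.ofPt_eq_map_ofScheme]
        exact hy
      · rintro ⟨_, ⟨v, hv, rfl⟩, hv'⟩
        rw [← hv', Set.mem_preimage, ← Points.ofPt_eq_map_ofScheme, ← ofPt_yon_comp, ← hx, ofPt_yon_comp, hO]
        exact hv
    rw [key]
    exact (Points.schemeHomeo T).isOpenMap _
      (c.left.isOpenMap _ (ι.left.isOpenEmbedding.isOpen_range.preimage x.left.continuous))
  let j := openSubspaceι _ O
  obtain ⟨l, hl⟩ := (exists_lift_openSubspace_iff O ((yon S).map g ≫ π)).2 fun u => ⟨u, rfl⟩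
  obtain ⟨lW, hlW⟩ := (exists_lift_openSubspace_iff O ((yon S).map ι ≫ π)).2 fun w => by
    rw [ofPt_yon_comp, hO]
    exact ⟨w, rfl⟩
  have hlWs : Sheaf.IsLocallySurjective lW := ⟨fun {T} z => by
    let ζ := (GrothendieckTopology.uliftYonedaEquiv.{u + 1} (J S)).symm z
    obtain ⟨C, hC, hr⟩ := exists_covering_lift π (ζ ≫ j)
    refine (J S).superset_covering (fun T' f hf => ?_) hC
    obtain ⟨x, hx⟩ := hr f hf
    obtain ⟨x, rfl⟩ := (yon S).map_surjective x
    have hrg : Set.range x.left ⊆ Set.range ι.left := by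
      rintro _ ⟨v, rfl⟩
      rw [← hO, ← ofPt_yon_comp, hx]
      exact (exists_lift_openSubspace_iff O _).1 ⟨(yon S).map f ≫ ζ, Category.assoc _ _ _⟩ v
    let m : T' ⟶ W := Over.homMk (IsOpenImmersion.lift ι.left x.left hrg) (by
      rw [← Over.w ι, ← Category.assoc, IsOpenImmersion.lift_fac, Over.w])
    have := (imageSieve_iff lW ζ f).2 ⟨(yon S).map m, by
      rw [← cancel_mono j, Category.assoc, hlW, ← Category.assoc, ← Functor.map_comp,
        show m ≫ ι = x from Over.OverMorphism.ext (IsOpenImmersion.lift_fac _ _ _), Category.assoc]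
      exact hx⟩
    rwa [Equiv.apply_symm_apply] at this⟩
  have : Epi lW := Sheaf.epi_of_isLocallySurjective lW
  have : Epi ((yon S).map hlift) := Sheaf.epi_of_isLocallySurjective _
  have hfac : (yon S).map hlift ≫ lW = (yon S).map p1 ≫ l := by
    rw [← cancel_mono j, Category.assoc, Category.assoc, hlW, hl, ← Category.assoc, ← Category.assoc,
      ← Functor.map_comp, ← Functor.map_comp, hh, hp, Functor.map_comp, Functor.map_comp, Category.assoc,
      Category.assoc, quotSp_condition]
  have : Epi l := by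
    have : Epi ((yon S).map p1 ≫ l) := by rw [← hfac]; infer_instance
    exact epi_of_epi ((yon S).map p1) l
  let ψ' : quotSp ((yon S).map s') ((yon S).map t') ⟶ openSubspace _ O := quotSpDesc l (by
    rw [← cancel_mono j, Category.assoc, Category.assoc, hl, ← hψ, ← Category.assoc, ← Category.assoc,
      quotSp_condition])
  have hψ' : ψ' ≫ j = ψ := by
    rw [← cancel_epi (quotSpπ ((yon S).map s') ((yon S).map t')), ← Category.assoc, quotSpπ_desc, hl, hψ]
  have : Mono ψ' := by
    have : Mono (ψ' ≫ j) := by rw [hψ']; infer_instance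
    exact mono_of_mono ψ' j
  have : Epi ψ' := by
    have : Epi (quotSpπ ((yon S).map s') ((yon S).map t') ≫ ψ') := by rw [quotSpπ_desc]; infer_instance
    exact epi_of_epi (quotSpπ ((yon S).map s') ((yon S).map t')) ψ'
  have : IsIso ψ' := isIso_of_mono_of_epi ψ'
  rw [← hψ']
  exact RepWith.comp (repWith_of_isIso _ ψ') (repWith_openSubspaceι _ hopen)

end Groth.Agent.Stk19b.RestrictOpen
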