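import Groth.Agent.AlgSpLib.RelDimLocus
import Groth.Agent.EGA43.Cons.Unramified

/-!
The unramified locus of a morphism of algebraic spaces, pointwise.
-/

set_option autoImplicit false
set_option backward.isDefEq.respectTransparency.types false

universe u

open CategoryTheory CategoryTheory.Limits AlgebraicGeometry
open AlgSp Groth.Agent.AlgSpLib Groth.Agent.EGA43.Cons

noncomputable section

namespace Groth.Agent.Stk19b.UnramPt

section Schemes

variable {U V W : Scheme.{u}}

theorem unramLocus_comp_etale_right (h : U ⟶ V) (e : V ⟶ W) [Etale e] :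
    unramLocus (h ≫ e) = unramLocus h := by
  ext x
  refine exists_congr fun O => and_congr_right fun _ => ⟨fun H => ?_, fun H => ?_⟩
  · have : FormallyUnramified ((O.ι ≫ h) ≫ e) := by rwa [Category.assoc]
    exact FormallyUnramified.of_comp (O.ι ≫ h) e
  · rw [← Category.assoc]
    exact MorphismProperty.comp_mem _ (O.ι ≫ h) e H inferInstance

theorem unramLocus_comp_etale_left (e : U ⟶ V) (h : V ⟶ W) [Etale e] :
    unramLocus (e ≫ h) = e ⁻¹' unramLocus h := by
  ext x
  constructor
  · rintro ⟨O, hx, hO⟩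
    let O' : V.Opens := ⟨e '' O, e.isOpenMap _ O.2⟩
    refine ⟨O', ⟨x, hx, rfl⟩, ?_⟩
    have hr : Set.range (O.ι ≫ e) ⊆ Set.range O'.ι := by
      rw [Scheme.Opens.range_ι]
      rintro _ ⟨y, rfl⟩
      exact ⟨O.ι y, by rw [← Scheme.Opens.range_ι O]; exact ⟨y, rfl⟩, rfl⟩
    let g := IsOpenImmersion.lift O'.ι (O.ι ≫ e) hr
    have hfac : g ≫ O'.ι = O.ι ≫ e := IsOpenImmersion.lift_fac _ _ _
    have : Etale (g ≫ O'.ι) := hfac ▸ inferInstance
    have : Etale g := MorphismProperty.HasOfPostcompProperty.of_postcomp (W := @Etale) g O'.ι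
      (inferInstance : IsOpenImmersion O'.ι) this
    have : Surjective g := ⟨fun ⟨v, y, hy, hyv⟩ => ⟨⟨y, hy⟩, O'.ι.isOpenEmbedding.injective
      ((congr($hfac ⟨y, hy⟩)).trans hyv)⟩⟩
    refine descend_formallyUnramified g (O'.ι ≫ h) inferInstance inferInstance ?_
    rw [← Category.assoc, hfac, Category.assoc]
    exact hO
  · rintro ⟨O, hx, hO⟩
    refine ⟨e ⁻¹ᵁ O, hx, ?_⟩
    rw [← morphismRestrict_ι_assoc]
    exact MorphismProperty.comp_mem _ (e ∣_ O) (O.ι ≫ h) inferInstance hO

end Schemes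

variable {S : Scheme.{u}} {X Y : Sp S}

/-- Being unramified at a point. -/
abbrev IsUnramAt (f : X ⟶ Y) (x : Points X) : Prop :=
  HasAtMor (fun _ _ h u => u ∈ unramLocus h) f x

theorem isUnramAt_iff (hX : IsAlgSpace X) (hY : IsAlgSpace Y) (f : X ⟶ Y) {U V : Over S}
    (a : (yon S).obj U ⟶ X) (b : (yon S).obj V ⟶ Y) (h : U ⟶ V) (ha : RepWith @Etale a)
    (hb : RepWith @Etale b) (w : a ≫ f = (yon S).map h ≫ b) (u : ↥U.left) :
    IsUnramAt f (Points.ofPt a u) ↔ u ∈ unramLocus h.left := by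
  refine ⟨fun H => ?_, fun H => ⟨U, V, a, b, h, u, ha, hb, w, rfl, H⟩⟩
  obtain ⟨U', V', a', b', h', u', ha', hb', w', e, H⟩ := H
  have hra := hX.representable_from_yon a
  have hrb := hY.representable_from_yon b
  have sqP := hra.isPullback' a'
  have sqQ := hrb.isPullback' b'
  obtain ⟨p, hp1, hp2⟩ := (ofPt_eq_ofPt_iff sqP u u').1 e.symm
  let k : hra.pullback a' ⟶ hrb.pullback b' := hrb.lift' (hra.fst' a' ≫ h) (hra.snd a' ≫ h') (by
    rw [Functor.map_comp, Functor.map_comp, Category.assoc, Category.assoc, ← w, ← w', ← Category.assoc,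
      sqP.w, Category.assoc])
  have k1 : k ≫ hrb.fst' b' = hra.fst' a' ≫ h := Functor.relativelyRepresentable.lift'_fst _ _ _ _
  have k2 : k ≫ hrb.snd b' = hra.snd a' ≫ h' := Functor.relativelyRepresentable.lift'_snd _ _ _ _
  have : Etale (hra.fst' a').left := ha'.property _ _ _ sqP.flip
  have : Etale (hra.snd a').left := ha.property_snd a'
  have : Etale (hrb.fst' b').left := hb'.property _ _ _ sqQ.flip
  have : Etale (hrb.snd b').left := hb.property_snd b'
  have s1 : unramLocus k.left = (hra.fst' a').left ⁻¹' unramLocus h.left := by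
    rw [← unramLocus_comp_etale_left (hra.fst' a').left h.left,
      ← unramLocus_comp_etale_right k.left (hrb.fst' b').left]
    exact congrArg unramLocus (congrArg (fun t => t.left) k1)
  have s2 : unramLocus k.left = (hra.snd a').left ⁻¹' unramLocus h'.left := by
    rw [← unramLocus_comp_etale_left (hra.snd a').left h'.left,
      ← unramLocus_comp_etale_right k.left (hrb.snd b').left]
    exact congrArg unramLocus (congrArg (fun t => t.left) k2)
  have hp : p ∈ (hra.fst' a').left ⁻¹' unramLocus h.left := by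
    rw [← s1, s2, Set.mem_preimage, hp2]
    exact H
  rwa [Set.mem_preimage, hp1] at hp

theorem locP_unram_iff (hX : IsAlgSpace X) (hY : IsAlgSpace Y) {f : X ⟶ Y}
    (hf : LocP @LocallyOfFiniteType f) :
    LocP (@LocallyOfFiniteType ⊓ @FormallyUnramified) f ↔ ∀ x, IsUnramAt f x := by
  refine ⟨fun H x => ?_, fun H U V a b h ha hb w => ⟨hf a b h ha hb w, ?_⟩⟩
  · obtain ⟨U, V, a, b, h, u, ha, hb, w, rfl⟩ := exists_chart_at hX hY f x
    exact ⟨U, V, a, b, h, u, ha, hb, w, rfl,
      (formallyUnramified_iff_unramLocus h.left).1 (H a b h ha hb w).2 u⟩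
  · refine (formallyUnramified_iff_unramLocus h.left).2 (fun u => ?_)
    exact (isUnramAt_iff hX hY f a b h ha hb w u).1 (H _)

theorem isOpen_unram (hX : IsAlgSpace X) (hY : IsAlgSpace Y) (f : X ⟶ Y) :
    IsOpen {x : Points X | IsUnramAt f x} := by
  obtain ⟨V, b, hbe, hbs⟩ := hY.atlas
  obtain ⟨U, a, h, hae, has, w⟩ := exists_chart_over hX hY f b hbe hbs
  refine (isOpenQuotientMap_ofPt a hae has).isQuotientMap.isOpen_preimage.1 ?_
  convert isOpen_unramLocus h.left using 1
  ext u
  exact isUnramAt_iff hX hY f a b h hae hbe w u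

theorem isUnramAt_baseChange {Y' X' : Sp S} (hX : IsAlgSpace X) (hY : IsAlgSpace Y)
    (hY' : IsAlgSpace Y') (hX' : IsAlgSpace X') {f : X ⟶ Y} {g : Y' ⟶ Y} {g' : X' ⟶ X}
    {f' : X' ⟶ Y'} (sq : IsPullback g' f' f g) (hf : LocP @LocallyOfFiniteType f) (x' : Points X') :
    IsUnramAt f' x' ↔ IsUnramAt f (Points.map g' x') := by
  obtain ⟨U, V, U', V', a, b, h, a', b', h', p, q, u', ha, hb, ha', hb', w, w', wp, sqS, rfl⟩ :=
    exists_chart_baseChange hX hY hY' hX' sq x'
  have : LocallyOfFiniteType h.left := hf a b h ha hb w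
  rw [Points.map_ofPt, wp, ofPt_map, isUnramAt_iff hX' hY' f' a' b' h' ha' hb' w' u',
    isUnramAt_iff hX hY f a b h ha hb w (p.left u'),
    unramLocus_isPullback (f := h.left) (g := q.left) (fst := p.left) (snd := h'.left)
      (sqS.map (Over.forget S))]
  rfl

end Groth.Agent.Stk19b.UnramPt
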