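import Mathlib.FieldTheory.IsAlgClosed.Classification
import Mathlib.RingTheory.Localization.FractionRing
import Mathlib.FieldTheory.IsAlgClosed.AlgebraicClosure

/-!
# Embeddings into a large algebraically closed field differ by an automorphism
-/

set_option autoImplicit false

universe u

open Cardinal

namespace Groth.Agent.Stk19b.BigClosed

theorem exists_ringEquiv_comp {k L M : Type u} [Field k] [Field L] [Field M] [IsAlgClosed L] [IsAlgClosed M]
    (i : k →+* L) (j : k →+* M) (h0 : ℵ₀ < #L) (hk : #k < #L) (hLM : #L = #M) :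
    ∃ e : L ≃+* M, e.toRingHom.comp i = j := by
  letI := i.toAlgebra
  letI := j.toAlgebra
  obtain ⟨s, hs⟩ := exists_isTranscendenceBasis k L
  obtain ⟨t, ht⟩ := exists_isTranscendenceBasis k M
  have key : ∀ {N : Type u} [Field N] [Algebra k N] [IsAlgClosed N] (w : Set N),
      IsTranscendenceBasis k (Subtype.val : w → N) → #L = #N → #w = #L := fun {N} _ _ _ w hw hN => by
    have h := IsAlgClosed.cardinal_le_max_transcendence_basis' (fun x : w => (x : N)) hw
    rw [← hN] at h
    refine le_antisymm (hN ▸ Cardinal.mk_set_le w) ?_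
    rcases le_max_iff.1 h with h | h
    · rcases le_max_iff.1 h with h | h
      · exact absurd h (not_le.2 hk)
      · exact h
    · exact absurd h (not_le.2 h0)
  obtain ⟨e⟩ := Cardinal.eq.1 ((key s hs rfl).trans (key t ht hLM).symm)
  have := IsAlgClosed.isAlgClosure_of_transcendence_basis _ hs
  have := IsAlgClosed.isAlgClosure_of_transcendence_basis _ ht
  let r : Algebra.adjoin k (Set.range (Subtype.val : s → L)) ≃ₐ[k]
      Algebra.adjoin k (Set.range (Subtype.val : t → M)) :=
    (hs.1.aevalEquiv.symm.trans (MvPolynomial.renameEquiv k e)).trans ht.1.aevalEquiv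
  refine ⟨IsAlgClosure.equivOfEquiv L M r.toRingEquiv, RingHom.ext fun x => ?_⟩
  show IsAlgClosure.equivOfEquiv L M r.toRingEquiv (algebraMap k L x) = algebraMap k M x
  rw [IsScalarTower.algebraMap_apply k (Algebra.adjoin k (Set.range (Subtype.val : s → L))) L,
    IsAlgClosure.equivOfEquiv_algebraMap]
  show algebraMap _ M (r (algebraMap k _ x)) = _
  rw [AlgEquiv.commutes, ← IsScalarTower.algebraMap_apply]

theorem exists_big_algClosed (K : Type u) [Field K] (κ : Type u) :
    ∃ (Ω : Type u) (_ : Field Ω) (_ : IsAlgClosed Ω) (_ : K →+* Ω), ℵ₀ < #Ω ∧ #κ < #Ω := by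
  let I := Set (κ ⊕ ULift.{u} ℕ)
  let P := MvPolynomial I K
  let Ω := AlgebraicClosure (FractionRing P)
  let f : P →+* Ω := (algebraMap (FractionRing P) Ω).comp (algebraMap P (FractionRing P))
  have hf : Function.Injective f := (algebraMap (FractionRing P) Ω).injective.comp (IsFractionRing.injective P _)
  have hX : #I ≤ #Ω := mk_le_of_injective (hf.comp (MvPolynomial.X_injective))
  refine ⟨Ω, inferInstance, inferInstance, f.comp MvPolynomial.C, ?_, ?_⟩
  · refine lt_of_lt_of_le ?_ hX
    rw [mk_set]
    refine lt_of_le_of_lt ?_ (cantor _)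
    simp
  · refine lt_of_lt_of_le ?_ hX
    rw [mk_set]
    refine lt_of_le_of_lt ?_ (cantor _)
    exact mk_le_of_injective Sum.inl_injective

end Groth.Agent.Stk19b.BigClosed
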