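import Groth.Agent.Stk19b.StalkPoint
import Groth.Agent.AlgSpLib.RepLocal
import Groth.Agent.AlgSpLib.PointsTop
import Groth.Prelude.Def_ModSite

/-!
Supports of sheaves on the small etale site of an algebraic space, subterminal sheaves, local ringedness.
-/

set_option autoImplicit false
set_option backward.isDefEq.respectTransparency false
set_option backward.isDefEq.respectTransparency.types false

universe u

open CategoryTheory CategoryTheory.Limits AlgebraicGeometry Opposite
open AlgSp Groth.Agent.Stk19b.StalkPoint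

noncomputable section

namespace Groth.Agent.Stk19b.StalkSupport

variable {S : Scheme.{u}} {X : Sp S} (hX : IsAlgSpace X)

include hX

theorem exists_geometric_over (x : Points X) : ∃ p : FieldPt X, p.IsGeometric ∧ Points.mk p = x := by
  obtain ⟨U, a, hae, has⟩ := hX.atlas
  obtain ⟨u, rfl⟩ := AlgSpLib.surjective_ofPt a has x
  obtain ⟨p, -, hp, -, -, h⟩ := exists_geometric_through a u
  exact ⟨p, hp, h⟩

theorem not_isZero_stalk_iff (F : AbEt X) (x : Points X) :
    (∃ p : FieldPt X, p.IsGeometric ∧ Points.mk p = x ∧ ¬ IsZero (stalkEt p F)) ↔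
      ∃ (U : EtOver X) (σ : ↥(F.obj.obj (op U))) (u : ↥U.obj.left.left),
        Points.ofPt U.obj.hom u = x ∧
          ∀ (V : EtOver X) (φ : V ⟶ U), (F.obj.map φ.op).hom σ = 0 →
            u ∉ Set.range (fun v => φ.hom.left.left v) := by
  constructor
  · rintro ⟨p, hp, rfl, hz⟩
    let Φ := EtNbhd.point hX p hp
    have hne : ∃ z : ToType (Φ.presheafFiber.obj F.obj), z ≠ 0 := by
      by_contra h
      simp only [not_exists, not_not] at h
      exact hz (@AddCommGrpCat.isZero_of_subsingleton _ ⟨fun a b => (h a).trans (h b).symm⟩)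
    obtain ⟨z, hne⟩ := hne
    obtain ⟨U, y, σ, rfl⟩ := Φ.toPresheafFiber_jointly_surjective z
    refine ⟨U, σ, y.1.left (IsLocalRing.closedPoint p.K), ?_, fun V φ hσ => ?_⟩
    · rw [← AlgSpLib.ofPt_map, y.2, EtNbhd.ofPt_toHom]
    · rintro ⟨v, hv⟩
      have : IsAlgClosed p.K := hp
      obtain ⟨l, hl, -⟩ := EtNbhd.exists_lift_over φ.hom.left (EtOver.etale_left φ) y.1 v hv
      let w : (FieldPt.liftsTo p).obj V :=
        ⟨l, by rw [← EtOver.w φ, ← Category.assoc, ← Functor.map_comp, hl]; exact y.2⟩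
      apply hne
      rw [← map_zero (Φ.toPresheafFiber U y F.obj).hom]
      exact (Φ.toPresheafFiber_eq_iff' U y σ 0).2
        ⟨V, φ, w, Subtype.ext hl, hσ.trans (map_zero _).symm⟩
  · rintro ⟨U, σ, u, rfl, h⟩
    obtain ⟨p, y, hp, hy, hx⟩ := exists_point_through U u
    refine ⟨p, hp, hx, fun hz => ?_⟩
    let Φ := EtNbhd.point hX p hp
    have h1 : Φ.toPresheafFiber U y F.obj σ = Φ.toPresheafFiber U y F.obj 0 :=
      @Subsingleton.elim _ (AddCommGrpCat.subsingleton_of_isZero hz) _ _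
    obtain ⟨V, φ, w, hw, e⟩ := (Φ.toPresheafFiber_eq_iff' U y σ 0).1 h1
    exact h V φ (e.trans (map_zero _)) (hy ▸ range_of_map φ hw)

theorem transfer_epi {F G : AbEt X} (a : F ⟶ G) [Epi a] (p : FieldPt X) (hp : p.IsGeometric)
    (h : ¬ IsZero (stalkEt p G)) : ¬ IsZero (stalkEt p F) := fun hz =>
  h (hz.of_epi ((EtNbhd.point hX p hp).sheafFiber.map a))

theorem transfer_mono {F G : AbEt X} (a : F ⟶ G) [Mono a] (p : FieldPt X) (hp : p.IsGeometric)
    (h : ¬ IsZero (stalkEt p F)) : ¬ IsZero (stalkEt p G) := fun hz =>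
  h (hz.of_mono ((EtNbhd.point hX p hp).sheafFiber.map a))

theorem isClosed_nontrivial (O' : EtSh X CommRingCat.{u + 1}) :
    IsClosed {x : Points X |
      ∃ p : FieldPt X, p.IsGeometric ∧ Points.mk p = x ∧ Nontrivial ↥(stalkEt p O')} := by
  rw [← isOpen_compl_iff, isOpen_iff_forall_mem_open]
  intro x hx
  obtain ⟨p, hp, rfl⟩ := exists_geometric_over hX x
  let Φ := EtNbhd.point hX p hp
  have hn : Subsingleton (ToType (Φ.presheafFiber.obj O'.obj)) := by
    rw [← not_nontrivial_iff_subsingleton]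
    exact fun h => hx ⟨p, hp, rfl, h⟩
  obtain ⟨E, e⟩ := EtNbhd.exists_nbhd hX p hp
  have h1 : Φ.toPresheafFiber E e O'.obj 1 = Φ.toPresheafFiber E e O'.obj 0 := Subsingleton.elim _ _
  obtain ⟨V, f, v, -, hf⟩ := (Φ.toPresheafFiber_eq_iff' E e 1 0).1 h1
  rw [map_one, map_zero] at hf
  refine ⟨Set.range (Points.ofPt V.obj.hom), fun y hy => ?_,
    (AlgSpLib.isOpenMap_ofPt _ V.property).isOpen_range, v.1.left (IsLocalRing.closedPoint p.K), ?_⟩
  · rintro ⟨q, hq, rfl, hnt⟩
    obtain ⟨t, ht⟩ := hy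
    obtain ⟨l, hl, -⟩ := EtNbhd.exists_lift q hq V.obj.hom V.property t ht
    let Ψ := EtNbhd.point hX q hq
    have h01 := congrArg (Ψ.toPresheafFiber V ⟨l, hl⟩ O'.obj).hom hf
    rw [map_one, map_zero] at h01
    have hs : Subsingleton (ToType (Ψ.presheafFiber.obj O'.obj)) := subsingleton_of_zero_eq_one h01.symm
    exact not_nontrivial_iff_subsingleton.2 hs hnt
  · rw [← AlgSpLib.ofPt_map, v.2, EtNbhd.ofPt_toHom]

/-- Subsheaves of the final object are opens. -/
theorem existsUnique_open (F : EtSh X (Type (u + 1)))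
    (hF : ∀ E : EtOver X, Subsingleton (F.obj.obj (op E))) :
    ∃! W : Set (Points X), IsOpen W ∧
      ∀ E : EtOver X, Nonempty (F.obj.obj (op E)) ↔ Set.range (Points.ofPt E.obj.hom) ⊆ W := by
  let W : Set (Points X) :=
    ⋃ (E : EtOver X) (_ : Nonempty (F.obj.obj (op E))), Set.range (Points.ofPt E.obj.hom)
  have hW : IsOpen W := isOpen_iUnion fun E => isOpen_iUnion fun _ =>
    (AlgSpLib.isOpenMap_ofPt _ E.property).isOpen_range
  have hmem : ∀ (E : EtOver X) (e : ↥E.obj.left.left), Points.ofPt E.obj.hom e ∈ W →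
      ∃ (Y : EtOver X) (f : Y ⟶ E), Nonempty (F.obj.obj (op Y)) ∧ e ∈ Set.range f.hom.left.left := by
    intro E e he
    simp only [W, Set.mem_iUnion] at he
    obtain ⟨E', ⟨s⟩, e', he'⟩ := he
    obtain ⟨p, x, hp, hx, hpx⟩ := exists_point_through E e
    obtain ⟨l, hl, -⟩ := EtNbhd.exists_lift p hp E'.obj.hom E'.property e' (he'.trans hpx.symm)
    obtain ⟨w, hw1, -⟩ := EtNbhd.exists_prod_lift (p := p) ⟨E, x⟩ ⟨E', ⟨l, hl⟩⟩
    refine ⟨EtOver.prodObj E E', EtOver.prodFst E E', ⟨F.obj.map (EtOver.prodSnd E E').op s⟩, ?_⟩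
    have hw : (FieldPt.liftsTo p).map (EtOver.prodFst E E') w = x := hw1
    have he : x.1.left (IsLocalRing.closedPoint p.K) ∈ Set.range (EtOver.prodFst E E').hom.left.left :=
      range_of_map (p := p) (Y := EtOver.prodObj E E') (E := E) (y := w) (x := x) _ hw
    exact hx ▸ he
  refine ⟨W, ⟨hW, fun E => ⟨fun h => ?_, fun h => ?_⟩⟩, ?_⟩
  · exact fun y hy => Set.mem_iUnion₂.2 ⟨E, h, hy⟩
  · let R : Sieve E :=
      { arrows := fun Y _ => Nonempty (F.obj.obj (op Y))
        downward_closed := fun {Y Z _} hf g => hf.map (F.obj.map g.op) }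
    have hR : R ∈ etTop X E := mem_etTop_of_forall R fun e => by
      obtain ⟨Y, f, h1, h2⟩ := hmem E e (h ⟨e, rfl⟩)
      exact ⟨Y, f, h1, h2⟩
    have hS : Presieve.IsSheafFor F.obj R.arrows :=
      ((isSheaf_iff_isSheaf_of_type (etTop X) F.obj).1 F.2) R hR
    let x : Presieve.FamilyOfElements F.obj R.arrows := fun Y f hf => Nonempty.some hf
    have hx : x.Compatible := fun _ _ Z _ _ _ _ _ _ _ => @Subsingleton.elim _ (hF Z) _ _
    exact ⟨hS.amalgamate x hx⟩
  · rintro W' ⟨hW', hW''⟩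
    apply Set.Subset.antisymm
    · intro y hy
      obtain ⟨U, a, hae, has⟩ := hX.atlas
      obtain ⟨u, rfl⟩ := AlgSpLib.surjective_ofPt a has y
      let O : U.left.Opens := ⟨Points.ofPt a ⁻¹' W', hW'.preimage (Points.continuous_ofPt a)⟩
      have he : RepWith @Etale ((yon S).map (AlgSpLib.restrictOverι U O) ≫ a) :=
        (repWith_isMultiplicative (S := S) @Etale).comp_mem _ _ ((repWith_yon_map_iff _ _).2 (inferInstance : Etale O.ι)) hae
      let E : EtOver X := EtOver.mk _ he
      have hE : Nonempty (F.obj.obj (op E)) := (hW'' E).2 fun z ⟨t, ht⟩ => by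
        rw [← ht]
        show Points.ofPt ((yon S).map (AlgSpLib.restrictOverι U O) ≫ a) t ∈ W'
        rw [AlgSpLib.ofPt_map]
        exact t.2
      exact Set.mem_iUnion₂.2 ⟨E, hE, ⟨u, hy⟩, AlgSpLib.ofPt_map _ _ _⟩
    · intro y hy
      obtain ⟨E, hE, hy⟩ := Set.mem_iUnion₂.1 hy
      exact (hW'' E).1 hE hy

omit hX in
theorem isUnit_appTop {U V : Scheme.{u}} (j : V ⟶ U) (f : Γ(U, ⊤))
    (h : Set.range j ⊆ (U.basicOpen f : Set U)) : IsUnit (j.appTop.hom f) := by
  have hb : V.basicOpen (j.appTop.hom f) = ⊤ := by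
    rw [← Scheme.preimage_basicOpen_top]
    exact top_le_iff.1 fun x _ => h ⟨x, rfl⟩
  refine RingedSpace.isUnit_of_isUnit_germ V.toRingedSpace ⊤ _ fun x hx => ?_
  exact (Scheme.mem_basicOpen _ _ x hx).1 (hb.ge hx)

omit hX in
theorem isLocallyRinged (X : Sp S) : ModSite.IsLocallyRinged (etTop X) (OEt X) := by
  constructor
  · intro E f
    let R : Sieve E :=
      { arrows := fun Y g => IsUnit (((OEt X).obj.map g.op).hom f) ∨
          IsUnit (((OEt X).obj.map g.op).hom (1 - f))
        downward_closed := fun {Y Z g} hg k => by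
          rw [op_comp, Functor.map_comp, CommRingCat.hom_comp, RingHom.comp_apply, RingHom.comp_apply]
          exact hg.imp (fun h => h.map _) (fun h => h.map _) }
    refine ⟨R, mem_etTop_of_forall R fun e => ?_, fun V g hg => hg⟩
    have key : ∀ s : ↥((OEt X).obj.obj (op E)), e ∈ E.obj.left.left.basicOpen s.down →
        ∃ (Y : EtOver X) (g : Y ⟶ E), IsUnit (((OEt X).obj.map g.op).hom s) ∧
          e ∈ Set.range g.hom.left.left := by
      intro s he
      let O := E.obj.left.left.basicOpen s.down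
      let E' : EtOver X := EtOver.mk ((yon S).map (AlgSpLib.restrictOverι E.obj.left O) ≫ E.obj.hom)
        ((repWith_isMultiplicative (S := S) @Etale).comp_mem _ _ ((repWith_yon_map_iff _ _).2 (inferInstance : Etale O.ι)) E.property)
      let g : E' ⟶ E := EtOver.homMk (AlgSpLib.restrictOverι E.obj.left O) rfl
      refine ⟨E', g, ?_, ⟨e, he⟩, rfl⟩
      rw [OEt_map]
      exact (isUnit_appTop O.ι s.down (by rw [Scheme.Opens.range_ι])).map ULift.ringEquiv.symm
    have hcov : e ∈ E.obj.left.left.basicOpen f.down ∨ e ∈ E.obj.left.left.basicOpen (1 - f.down) := by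
      rw [Scheme.mem_basicOpen_top, Scheme.mem_basicOpen_top, map_sub, map_one]
      exact IsLocalRing.isUnit_or_isUnit_one_sub_self _
    rcases hcov with h | h
    · obtain ⟨Y, g, h1, h2⟩ := key f h
      exact ⟨Y, g, Or.inl h1, h2⟩
    · obtain ⟨Y, g, h1, h2⟩ := key (1 - f) h
      exact ⟨Y, g, Or.inr h1, h2⟩
  · intro E h
    refine mem_etTop_of_forall _ fun e => ?_
    exfalso
    have h' := congrArg (fun s => (E.obj.left.left.presheaf.germ ⊤ e trivial).hom s.down) h
    simp only [ULift.zero_down, ULift.one_down, map_zero, map_one] at h'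
    exact zero_ne_one h'

end Groth.Agent.Stk19b.StalkSupport
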