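import Groth.Agent.AlgGrpLib.FppfGeomQuot
import Groth.Agent.GrpdLib.FppfQuot

/-!
# Quotient maps in fppf sheaves are surjective
-/

set_option autoImplicit false
set_option backward.isDefEq.respectTransparency.types false

universe u

open CategoryTheory Limits AlgebraicGeometry
open Groth.Agent.AlgSpLib AlgSp

namespace Groth.Agent.Stk19b.QuotSurj

variable {S : Scheme.{u}} {R U M : Over S} (s t : R ⟶ U) (q : U ⟶ M)

theorem quot_props (hq : QuotSh.IsQuotient Scheme.fppfPrecoverage s t q) :
    ∃ w : (yon S).map s ≫ (yon S).map q = (yon S).map t ≫ (yon S).map q,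
      IsIso (quotSpDesc ((yon S).map q) w) := by
  obtain ⟨w0, hiso⟩ := hq
  have w : (yon S).map s ≫ (yon S).map q = (yon S).map t ≫ (yon S).map q := by
    rw [← Functor.map_comp, ← Functor.map_comp, w0]
  refine ⟨w, ?_⟩
  obtain ⟨e, he⟩ := exists_iso_quot s t
  let eM := QuotSh.repIsoUliftYoneda Scheme.fppfPrecoverage M
  have key : e.hom ≫ QuotSh.quotDesc Scheme.fppfPrecoverage q w0 ≫ eM.hom =
      quotSpDesc ((yon S).map q) w := by
    rw [← cancel_epi (quotSpπ ((yon S).map s) ((yon S).map t)), ← Category.assoc, he, quotSpπ_desc,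
      Category.assoc]
    have h1 : QuotSh.quotπ Scheme.fppfPrecoverage s t ≫ QuotSh.quotDesc Scheme.fppfPrecoverage q w0 =
        QuotSh.repMap Scheme.fppfPrecoverage q := coequalizer.π_desc _ _
    rw [reassoc_of% h1, repMap_comp_repIso, Iso.inv_hom_id_assoc]
  rw [← key]
  infer_instance

theorem surjective_of_isQuotient (hq : QuotSh.IsQuotient Scheme.fppfPrecoverage s t q) :
    Surjective q.left := by
  obtain ⟨w, hiso⟩ := quot_props s t q hq
  haveI : Epi ((yon S).map q) := by
    rw [← quotSpπ_desc ((yon S).map s) ((yon S).map t) ((yon S).map q) w]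
    infer_instance
  obtain ⟨C, hC, h⟩ := exists_covering_lift ((yon S).map q) (𝟙 ((yon S).obj M))
  obtain ⟨κ, W, f, hf, c, hc, -, -, h3⟩ := AlgGrpLib.FppfGeomQuot.exists_family_of_covering hC
  have hl : ∀ i, ∃ m : W i ⟶ U, m ≫ q = f i := fun i => by
    obtain ⟨m, hm⟩ := h (f i) (hf i)
    obtain ⟨m, rfl⟩ := (yon S).map_surjective m
    rw [Category.comp_id, ← Functor.map_comp] at hm
    exact ⟨m, (yon S).map_injective hm⟩
  choose m hm using hl
  obtain ⟨σ, hσ⟩ := AlgGrpLib.FppfGeomQuot.exists_desc_sigmaOver m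
  have : σ ≫ q = c := AlgGrpLib.FppfGeomQuot.hom_ext_sigmaOver fun i => by rw [reassoc_of% hσ, hm, hc]
  have : Surjective (σ.left ≫ q.left) := by
    rw [← Over.comp_left, this]; exact h3
  exact Surjective.of_comp σ.left q.left

end Groth.Agent.Stk19b.QuotSurj
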