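import Groth.Agent.Stk19b.QPullEtale

/-!
Quasi-coherence is local for the etale topology: descent along a surjective etale morphism.
-/

set_option autoImplicit false
set_option backward.isDefEq.respectTransparency false

universe u

open CategoryTheory CategoryTheory.Limits AlgebraicGeometry Opposite
open AlgSp Groth.Agent.Stk19b.StalkPoint Groth.Agent.Stk19b.QPullEtale

noncomputable section

namespace Groth.Agent.Stk19b.QDescEt

variable {S : Scheme.{u}} {X Y : Sp S} {f : X ⟶ Y} (hfe : IsEtaleMor f)

instance postcomp_isCocontinuous : (EtOver.postcomp f hfe).IsCocontinuous (etTop X) (etTop Y) where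
  cover_lift {E} R hR := mem_etTop_of_forall _ fun e ↦ by
    obtain ⟨R', hR', hle⟩ := (Precoverage.mem_toGrothendieck_iff_of_isStableUnderComposition).1 hR
    obtain ⟨ι, W, g, rfl⟩ := R'.exists_eq_ofArrows
    obtain ⟨j, w, hw⟩ := (ofArrows_mem_etPre_iff W g).1 hR' e
    let Z : EtOver X := EtOver.mk ((yon S).map (g j).hom.left ≫ E.obj.hom)
      ((repWith_isMultiplicative (S := S) @Etale).comp_mem _ _
        ((repWith_yon_map_iff _ _).2 (EtOver.etale_left (g j))) E.property)
    let z : Z ⟶ E := EtOver.homMk (g j).hom.left rfl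
    refine ⟨Z, z, ?_, w, hw⟩
    let k : (EtOver.postcomp f hfe).obj Z ⟶ W j := EtOver.homMk (𝟙 _) (by
      change (yon S).map (𝟙 (W j).obj.left) ≫ (W j).obj.hom = ((yon S).map (g j).hom.left ≫ E.obj.hom) ≫ f
      rw [CategoryTheory.Functor.map_id, Category.id_comp, Category.assoc]
      exact (EtOver.w (g j)).symm)
    have : R ((EtOver.postcomp f hfe).map z) := by
      rw [show (EtOver.postcomp f hfe).map z = k ≫ g j from EtOver.hom_ext _ _ (Category.id_comp _).symm]
      exact R.downward_closed (hle _ _ (Presieve.ofArrows.mk j)) k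
    exact this

theorem coverPreserving_postcomp : CoverPreserving (etTop X) (etTop Y) (EtOver.postcomp f hfe) where
  cover_preserve {E R} hR := by
    obtain ⟨R', hR', hle⟩ := (Precoverage.mem_toGrothendieck_iff_of_isStableUnderComposition).1 hR
    obtain ⟨ι, W, g, rfl⟩ := R'.exists_eq_ofArrows
    refine mem_etTop_of_forall _ fun e ↦ ?_
    obtain ⟨j, hj⟩ := (ofArrows_mem_etPre_iff W g).1 hR' e
    exact ⟨_, (EtOver.postcomp f hfe).map (g j),
      Sieve.image_mem_functorPushforward _ R (hle _ _ (Presieve.ofArrows.mk j)), hj⟩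

section Slice

variable (c : EtOver X)

/-- The object of the small etale site of `X` attached to an object over the image of `c`. -/
abbrev sliceObj (W : Over ((EtOver.postcomp f hfe).obj c)) : EtOver X :=
  EtOver.mk ((yon S).map W.hom.hom.left ≫ c.obj.hom)
    ((repWith_isMultiplicative (S := S) @Etale).comp_mem _ _
      ((repWith_yon_map_iff _ _).2 (EtOver.etale_left W.hom)) c.property)

/-- The inverse of `Over.post (EtOver.postcomp f hfe)`. -/
def slice : Over ((EtOver.postcomp f hfe).obj c) ⥤ Over c where
  obj W := Over.mk (Y := sliceObj hfe c W) (EtOver.homMk W.hom.hom.left rfl)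
  map {W W'} g := Over.homMk (EtOver.homMk g.left.hom.left (by
      change (yon S).map _ ≫ (yon S).map _ ≫ c.obj.hom = (yon S).map _ ≫ c.obj.hom
      rw [← Category.assoc, ← Functor.map_comp]
      exact congrArg (fun k ↦ (yon S).map k ≫ c.obj.hom)
        (congrArg (fun k ↦ k.hom.left) (Over.w g))))
    (EtOver.hom_ext _ _ (congrArg (fun k ↦ k.hom.left) (Over.w g)))
  map_id W := Over.OverMorphism.ext (EtOver.hom_ext _ _ rfl)
  map_comp g h := Over.OverMorphism.ext (EtOver.hom_ext _ _ rfl)

theorem slice_w (W : Over ((EtOver.postcomp f hfe).obj c)) :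
    W.left.obj.hom = ((yon S).map W.hom.hom.left ≫ c.obj.hom) ≫ f :=
  (EtOver.w W.hom).symm.trans (Category.assoc _ _ _).symm

/-- Going to `c` and back. -/
def slicePostIso : slice hfe c ⋙ Over.forget c ⋙ EtOver.postcomp f hfe ≅
    Over.forget ((EtOver.postcomp f hfe).obj c) :=
  NatIso.ofComponents (fun W ↦
    { hom := EtOver.homMk (𝟙 W.left.obj.left) (by
        change (yon S).map (𝟙 W.left.obj.left) ≫ W.left.obj.hom = ((yon S).map _ ≫ c.obj.hom) ≫ f
        rw [CategoryTheory.Functor.map_id, Category.id_comp, slice_w hfe c W])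
      inv := EtOver.homMk (𝟙 W.left.obj.left) (by
        change (yon S).map (𝟙 W.left.obj.left) ≫ ((yon S).map _ ≫ c.obj.hom) ≫ f = W.left.obj.hom
        rw [CategoryTheory.Functor.map_id, Category.id_comp, slice_w hfe c W])
      hom_inv_id := EtOver.hom_ext _ _ (Category.id_comp _)
      inv_hom_id := EtOver.hom_ext _ _ (Category.id_comp _) })
    (fun g ↦ EtOver.hom_ext _ _ ((Category.comp_id _).trans (Category.id_comp _).symm))

/-- `slice` is left adjoint to `Over.post`. -/
def sliceAdj : slice hfe c ⊣ Over.post (EtOver.postcomp f hfe) :=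
  Adjunction.mkOfHomEquiv
    { homEquiv := fun W V ↦
        { toFun := fun g ↦ Over.homMk (EtOver.homMk g.left.hom.left (by
              change (yon S).map g.left.hom.left ≫ V.left.obj.hom ≫ f = W.left.obj.hom
              rw [slice_w hfe c W, ← Category.assoc]
              exact congrArg (· ≫ f) (EtOver.w g.left)))
            (EtOver.hom_ext _ _ (congrArg (fun k ↦ k.hom.left) (Over.w g) :))
          invFun := fun g ↦ Over.homMk (EtOver.homMk g.left.hom.left (by
              change (yon S).map g.left.hom.left ≫ V.left.obj.hom = (yon S).map _ ≫ c.obj.hom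
              have h : g.left.hom.left ≫ V.hom.hom.left = W.hom.hom.left :=
                congrArg (fun k ↦ k.hom.left) (Over.w g)
              rw [← h, Functor.map_comp, Category.assoc, EtOver.w V.hom]))
            (EtOver.hom_ext _ _ (congrArg (fun k ↦ k.hom.left) (Over.w g) :))
          left_inv := fun g ↦ Over.OverMorphism.ext (EtOver.hom_ext _ _ rfl)
          right_inv := fun g ↦ Over.OverMorphism.ext (EtOver.hom_ext _ _ rfl) }
      homEquiv_naturality_left_symm := fun _ _ ↦ Over.OverMorphism.ext (EtOver.hom_ext _ _ rfl)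
      homEquiv_naturality_right := fun _ _ ↦ Over.OverMorphism.ext (EtOver.hom_ext _ _ rfl) }

instance slice_isLeftAdjoint : (slice hfe c).IsLeftAdjoint := (sliceAdj hfe c).isLeftAdjoint

instance slice_isCocontinuous :
    (slice hfe c).IsCocontinuous ((etTop Y).over _) ((etTop X).over c) :=
  ((sliceAdj hfe c).isCocontinuous_iff_coverPreserving _ _).2 ((coverPreserving_postcomp hfe).overPost c)

/-- `Over.post` is also left adjoint to `slice`. -/
def postSliceAdj : Over.post (EtOver.postcomp f hfe) ⊣ slice hfe c :=
  Adjunction.mkOfHomEquiv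
    { homEquiv := fun V W ↦
        { toFun := fun g ↦ Over.homMk (EtOver.homMk g.left.hom.left (by
              change (yon S).map g.left.hom.left ≫ (yon S).map _ ≫ c.obj.hom = V.left.obj.hom
              have h : g.left.hom.left ≫ W.hom.hom.left = V.hom.hom.left :=
                congrArg (fun k ↦ k.hom.left) (Over.w g)
              rw [← Category.assoc, ← Functor.map_comp, h, EtOver.w V.hom]))
            (EtOver.hom_ext _ _ (congrArg (fun k ↦ k.hom.left) (Over.w g) :))
          invFun := fun g ↦ Over.homMk (EtOver.homMk g.left.hom.left (by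
              change (yon S).map g.left.hom.left ≫ W.left.obj.hom = V.left.obj.hom ≫ f
              rw [slice_w hfe c W, ← Category.assoc]
              exact congrArg (· ≫ f) (EtOver.w g.left)))
            (EtOver.hom_ext _ _ (congrArg (fun k ↦ k.hom.left) (Over.w g) :))
          left_inv := fun g ↦ Over.OverMorphism.ext (EtOver.hom_ext _ _ rfl)
          right_inv := fun g ↦ Over.OverMorphism.ext (EtOver.hom_ext _ _ rfl) }
      homEquiv_naturality_left_symm := fun _ _ ↦ Over.OverMorphism.ext (EtOver.hom_ext _ _ rfl)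
      homEquiv_naturality_right := fun _ _ ↦ Over.OverMorphism.ext (EtOver.hom_ext _ _ rfl) }

instance slice_isContinuous :
    (slice hfe c).IsContinuous ((etTop Y).over _) ((etTop X).over c) :=
  (postSliceAdj hfe c).isContinuous_of_isCocontinuous _ _

/-- The structure sheaves over the two slices agree. -/
def sliceRingHom : (OEtRing Y).over ((EtOver.postcomp f hfe).obj c) ⟶
    ((slice hfe c).sheafPushforwardContinuous RingCat.{u + 1} _ ((etTop X).over c)).obj
      ((OEtRing X).over c) :=
  ObjectProperty.homMk
    { app := fun W ↦ 𝟙 _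
      naturality := fun W W' g ↦ (Category.comp_id _).trans (Category.id_comp _).symm }

instance isIso_sliceRingHom : IsIso (sliceRingHom hfe c) := by
  have : ∀ W, IsIso ((sliceRingHom hfe c).hom.app W) := fun W ↦ inferInstanceAs (IsIso (𝟙 _))
  have : IsIso (sliceRingHom hfe c).hom := NatIso.isIso_of_isIso_app _
  exact (ObjectProperty.isIso_hom_iff _).1 this

/-- Restricting to the slice at the image of `c` is restricting along `slice`. -/
def overSliceIso :
    SheafOfModules.pushforward.{u + 1} (postcompRingHom hfe) ⋙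
      SheafOfModules.overFunctor.{u + 1} (OEtRing X) c ⋙
      SheafOfModules.pushforward.{u + 1} (sliceRingHom hfe c) ≅
    SheafOfModules.overFunctor.{u + 1} (OEtRing Y) ((EtOver.postcomp f hfe).obj c) :=
  haveI := Functor.isContinuous_comp (Over.forget c) (EtOver.postcomp f hfe) ((etTop X).over c)
    (etTop X) (etTop Y)
  haveI := Functor.isContinuous_comp (slice hfe c) (Over.forget c ⋙ EtOver.postcomp f hfe)
    ((etTop Y).over ((EtOver.postcomp f hfe).obj c)) ((etTop X).over c) (etTop Y)
  (Functor.associator _ _ _).symm ≪≫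
    Functor.isoWhiskerRight (SheafOfModules.pushforwardComp _ _) _ ≪≫
    SheafOfModules.pushforwardComp _ _ ≪≫
    SheafOfModules.pushforwardCongr₂ _ (slicePostIso hfe c).symm (by
      ext W : 3
      change (𝟙 _ ≫ 𝟙 _ ≫ 𝟙 _) ≫ (BigSite.ORing Scheme.etalePrecoverage S).obj.map (𝟙 W.unop.left.obj.left).op = 𝟙 _
      rw [op_id, CategoryTheory.Functor.map_id]
      simp)

theorem unit_slice : Nonempty (SheafOfModules.unit ((OEtRing Y).over ((EtOver.postcomp f hfe).obj c)) ≅
    (SheafOfModules.pushforward.{u + 1} (sliceRingHom hfe c)).obj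
      (SheafOfModules.unit ((OEtRing X).over c))) :=
  ⟨Iso.refl _⟩

/-- A presentation upstairs gives a presentation downstairs. -/
def slicePresentation (F : ModEt Y)
    (P : (((SheafOfModules.pushforward.{u + 1} (postcompRingHom hfe)).obj F).over c).Presentation) :
    (F.over ((EtOver.postcomp f hfe).obj c)).Presentation :=
  (P.map (SheafOfModules.pushforward.{u + 1} (sliceRingHom hfe c)) (unit_slice hfe c).some).ofIsIso
    ((overSliceIso hfe c).hom.app F)

end Slice

theorem coversTop_postcomp (hf : Representable f) (hs : RepWith @Surjective f) {I : Type*}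
    (Z : I → EtOver X) (hZ : (etTop X).CoversTop Z) :
    (etTop Y).CoversTop (fun i ↦ (EtOver.postcomp f hfe).obj (Z i)) := by
  intro V
  let π : (EtOver.postcomp f hfe).obj ((EtOver.bc hf).obj V) ⟶ V :=
    (postcompBcAdj hf hfe).counit.app V
  obtain ⟨R', hR', hle⟩ := (Precoverage.mem_toGrothendieck_iff_of_isStableUnderComposition).1
    (hZ ((EtOver.bc hf).obj V))
  obtain ⟨ι, W, g, rfl⟩ := R'.exists_eq_ofArrows
  refine mem_etTop_of_forall _ fun v ↦ ?_
  have : Surjective (hf.snd V.obj.hom).left :=
    hs.2 V.obj.hom _ _ (hf.isPullback V.obj.hom)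
  obtain ⟨x, hx⟩ := (hf.snd V.obj.hom).left.surjective v
  obtain ⟨j, w, hw⟩ := (ofArrows_mem_etPre_iff W g).1 hR' x
  obtain ⟨i, ⟨s⟩⟩ := (Sieve.mem_ofObjects_iff ..).1 (hle _ _ (Presieve.ofArrows.mk j))
  refine ⟨_, (EtOver.postcomp f hfe).map (g j) ≫ π,
    (Sieve.mem_ofObjects_iff ..).2 ⟨i, ⟨(EtOver.postcomp f hfe).map s⟩⟩, w, ?_⟩
  change ((g j).hom.left ≫ π.hom.left).left w = v
  have hπ : π.hom.left = hf.snd V.obj.hom := Category.id_comp _
  rw [hπ, Over.comp_left, Scheme.Hom.comp_apply]
  exact (congrArg _ hw).trans hx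

/-- Quasi-coherence descends along surjective etale morphisms. -/
theorem isQuasicoherent_of_restrict (hf : Representable f) (hs : RepWith @Surjective f) (F : ModEt Y)
    (hF : ((SheafOfModules.pushforward.{u + 1} (postcompRingHom hfe)).obj F).IsQuasicoherent) :
    F.IsQuasicoherent := by
  obtain ⟨q⟩ := hF.nonempty_quasicoherentData
  exact SheafOfModules.QuasicoherentData.isQuasicoherent (M := F)
    { I := q.I
      X := fun i ↦ (EtOver.postcomp f hfe).obj (q.X i)
      coversTop := coversTop_postcomp hfe hf hs q.X q.coversTop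
      presentation := fun i ↦ slicePresentation hfe (q.X i) F (q.presentation i) }

end Groth.Agent.Stk19b.QDescEt
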