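import Groth.Agent.Stk19.AlgSt.PshRep
import Groth.Agent.Stk19.AlgSt.FlatCover
import Groth.Agent.Stk19.AlgSt.AlgMisc
import Groth.Agent.Stk19.AlgSt.LocQ
import Groth.Agent.AlgSpLib.Bootstrap

/-! Representability of charts of a prestack is etale local. -/

set_option autoImplicit false
set_option linter.style.haveILetI false
set_option backward.isDefEq.respectTransparency false
set_option backward.isDefEq.respectTransparency.types false

universe u

open CategoryTheory CategoryTheory.Limits AlgebraicGeometry Opposite FibCat Groth.Agent.Stk19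

namespace Groth.Agent.Stk19b

variable {S : Scheme.{u}} {𝒳 : AlgSt.Cat S}

theorem faithful_overCat {U : Over S} (x : overCat U ⥤ᵇ 𝒳) : x.toFunctor.Faithful where
  map_injective {a b} φ ψ h := by
    refine Over.OverMorphism.ext ?_
    show (overCat U).p.map φ = (overCat U).p.map ψ
    rw [based_map_back x φ, based_map_back x ψ, h]

theorem respSrc_surj_etale :
    RespSrc (AlgSp.IsSurjectiveMor ⊓ AlgSp.LocP @Etale : MorphismProperty (AlgSp.Sp S)) :=
  respSrc_of_baseChange (pbStable_surjective.inf (pbStable_locP AlgSpLib.etLocal_etale))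

/-- A chart of a prestack is representable if it is so after an etale surjection. -/
theorem repByAlgSp1_of_etale (h𝒳 : Stk.IsPrestack (AlgSp.J S) 𝒳) {U U' : Over S} (c : U' ⟶ U) [Etale c.left]
    [Surjective c.left] (x : overCat U ⥤ᵇ 𝒳)
    (h : AlgSt.RepByAlgSp1 (BasedFunctor.comp (AlgSt.overMap c) x)) : AlgSt.RepByAlgSp1 x := by
  intro V y
  haveI := faithful_overCat x
  have hs : IsFibSetoid (fp y x).p := setoid_fp _ _ (setoid_of_repByAlgSp (repByAlgSp_overCat V))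
    (isFibGrpd_overCat U) h𝒳.1
  obtain ⟨P, E, hE⟩ := exists_psh_of_setoid hs
  have hN : Stk.IsStack (AlgSp.J S) (fp y x) := isStack_fp _ _ _ (isStack_overCat V) (isStack_overCat U) h𝒳
  have hP : Presheaf.IsSheaf (AlgSp.J S) P := (isSheaf_iff_isSheaf_of_type _ _).2
    ((isStack_ofPsh_iff _).1 ((isStack_iff_of_equiv _ hE).1 hN))
  let F : AlgSp.Sp S := ⟨P, hP⟩
  let j : fp (fpSnd y x) (AlgSt.overMap c) ⥤ᵇ fp y x := fpFst _ _
  obtain ⟨T, eT, heT⟩ := repByAlgSp_of_equiv' (isEquivOver_fpCompFactor y (AlgSt.overMap c) x) (h V y)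
  have hc : AlgSt.RepByAlgSpWith (AlgSp.IsSurjectiveMor ⊓ AlgSp.LocP @Etale) (AlgSt.overMap c) :=
    repByAlgSpWith_and (respSrc_of_baseChange (pbStable_locP AlgSpLib.etLocal_etale))
      ((repByAlgSpWith_iff_of_square (f' := AlgSt.overMap c) (f := AlgSt.ofSpMap ((AlgSp.yon S).map c))
        (a := AlgSt.ofOverCat U') (b := AlgSt.ofOverCat U) (isEquivOver_ofOverCat U') (isEquivOver_ofOverCat U)
        (eqToIso (ofOver_overMap c))).2
        (repByAlgSpWith_ofSpMap pbStable_surjective (V := ⟨_, AlgSp.IsAlgSpace.yon_obj U'⟩)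
          (Z := ⟨_, AlgSp.IsAlgSpace.yon_obj U⟩) _ (surjective_yon ‹Surjective c.left›.surj)))
      (with_overMap AlgSpLib.etLocal_etale c inferInstance)
  let Φ : AlgSt.ofSp T.obj ⥤ᵇ AlgSt.ofSp F := BasedFunctor.comp (BasedFunctor.comp eT j) E
  have hΦ : AlgSt.RepByAlgSpWith (AlgSp.IsSurjectiveMor ⊓ AlgSp.LocP @Etale) (AlgSt.ofSpMap (spHom Φ)) :=
    repByAlgSpWith_of_iso (spHom_iso Φ).some
      (with_comp_equiv hE (with_equiv_comp heT (repByAlgSpWith_fpFst _ hc)))
  have hp : AlgSp.RepBySpWith (AlgSp.IsSurjectiveMor ⊓ AlgSp.IsEtaleMor) (spHom Φ).hom := by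
    intro W ξ F' fst snd sq
    obtain ⟨hF', hA⟩ := repBySp_of_repByAlgSp1 (spHom Φ).hom (repByAlgSp1_of_with hΦ) ξ fst snd sq
    obtain ⟨e, he, k⟩ := exists_psh_chart sq hF' (Iso.refl _)
    obtain ⟨T', e', he', hq⟩ := hΦ W _
    have := k ▸ repWith_any respSrc_surj_etale he' hq (F' := ⟨⟨F', hF'⟩, hA⟩) e he
    exact ⟨hF', hA, this.1,
      (AlgSpLib.isEtaleMor_iff_locP AlgSpLib.etLocal_etale hA (AlgSp.IsAlgSpace.yon_obj W) _).2 this.2⟩
  exact repByAlgSp_of_equiv' (E := E) hE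
    (repByAlgSp_ofSp ⟨F, AlgSpLib.isAlgSpace_of_repBySp_etale_surjective T.property (spHom Φ) hp⟩)

/-- The diagonal of a prestack whose charts are etale locally representable. -/
theorem repByAlgSp1_diag_of_etale (h𝒳 : Stk.IsPrestack (AlgSp.J S) 𝒳)
    (h : ∀ (U : Over S) (x : overCat U ⥤ᵇ 𝒳), ∃ (U' : Over S) (c : U' ⟶ U), Etale c.left ∧ Surjective c.left ∧
      AlgSt.RepByAlgSp1 (BasedFunctor.comp (AlgSt.overMap c) x)) :
    AlgSt.RepByAlgSp1 (FibCat.diag (toSelf 𝒳)) :=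
  (repByAlgSp1_diag_iff h𝒳.1).2 fun U x => by
    obtain ⟨U', c, _, _, hc⟩ := h U x
    exact repByAlgSp1_of_etale h𝒳 c x hc

end Groth.Agent.Stk19b
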