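import Groth.Agent.Stk19b.OpenSub.Range
import Groth.Agent.Stk19.AlgSt.SepDiag
import Mathlib.AlgebraicGeometry.Morphisms.FlatDescent

/-!
Closed substacks: membership is cut out by closed subschemes on charts.
-/

set_option autoImplicit false
set_option backward.isDefEq.respectTransparency false
set_option backward.isDefEq.respectTransparency.types false

universe u

open CategoryTheory CategoryTheory.Limits AlgebraicGeometry Opposite FibCat Groth.Agent.Stk19

namespace Groth.Agent.Stk19b.ClosedSub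

variable {S : Scheme.{u}} {𝒳 𝒴 : AlgSt.Cat S} {Q : 𝒳.obj → Prop}

/-- A closed immersion through which a flat lfp surjection factors is an isomorphism. -/
theorem isIso_of_factor {X Y W : Scheme.{u}} (c : X ⟶ Y) (w : W ⟶ Y) (v : X ⟶ W) (h : v ≫ w = c)
    [Flat c] [LocallyOfFinitePresentation c] [Surjective c] [IsClosedImmersion w] : IsIso w := by
  have : IsSplitEpi (pullback.snd w c) :=
    ⟨⟨{ section_ := pullback.lift v (𝟙 X) (by rw [h, Category.id_comp])
        id := pullback.lift_snd _ _ _ }⟩⟩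
  have : IsIso (pullback.snd w c) := isIso_of_mono_of_isSplitEpi _
  exact MorphismProperty.of_isPullback_of_descendsAlong (P := MorphismProperty.isomorphisms Scheme.{u})
    (Q := @Surjective ⊓ @Flat ⊓ @LocallyOfFinitePresentation) (IsPullback.of_hasPullback w c).flip
    ⟨⟨‹_›, ‹_›⟩, ‹_›⟩ this

variable (h𝒳 : AlgSt.IsAlgStack Scheme.fppfPrecoverage 𝒳) (hQ : AlgSt.IsClosedSubstack 𝒳 Q Scheme.fppfPrecoverage)

include h𝒳 hQ

theorem of_hom {b a : 𝒳.obj} (φ : b ⟶ a) (ha : Q a) : Q b :=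
  openSub_of_hom hQ.1 hQ.2.1.isStack.1 h𝒳.isStack.1 φ ha

/-- The trace of a closed substack on a chart. -/
theorem exists_model {U : Over S} (y : overCat U ⥤ᵇ 𝒳) :
    ∃ (W : Over S) (w : W ⟶ U), IsClosedImmersion w.left ∧
      (∀ (T : Over S) (a : T ⟶ U), Q (y.obj (Over.mk a)) ↔ ∃ v : T ⟶ W, v ≫ w = a) ∧
      ∀ t, AlgSt.Points.ofChart y t ∈ Set.range (AlgSt.Points.map (AlgSt.subIncl 𝒳 Q)) ↔ t ∈ Set.range w.left := by
  obtain ⟨F, e, he, ha⟩ := hQ.2.2 U y
  obtain ⟨W₀, ⟨σ⟩⟩ := scheme_of_repWith _ ha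
  obtain ⟨u, hu⟩ := (AlgSp.yon S).map_surjective
    (σ.hom ≫ AlgSt.spMapOfOver (BasedFunctor.comp e (fpFst y (AlgSt.subIncl 𝒳 Q))))
  have hoi : IsClosedImmersion u.left := by
    refine (AlgSp.repWith_yon_map_iff @IsClosedImmersion u).1 ?_
    rw [hu]
    exact (MorphismProperty.cancel_left_of_respectsIso _ σ.hom _).2 ha
  let e' : overCat W₀ ⥤ᵇ fp y (AlgSt.subIncl 𝒳 Q) :=
    BasedFunctor.comp (AlgSt.ofOverCat W₀) (BasedFunctor.comp (AlgSt.ofSpMap σ.hom) e)
  have he' : IsEquivOver e' :=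
    isEquivOver_comp (isEquivOver_ofOverCat W₀) (isEquivOver_comp (isEquivOver_ofSpMap σ.hom) he)
  obtain ⟨i₀⟩ := spMapOfOver_iso (BasedFunctor.comp e (fpFst y (AlgSt.subIncl 𝒳 Q)))
  have i : BasedFunctor.comp e' (fpFst y (AlgSt.subIncl 𝒳 Q)) ≅ AlgSt.overMap u :=
    (Stk.restr (BasedFunctor.comp (AlgSt.ofOverCat W₀) (AlgSt.ofSpMap σ.hom)) _).mapIso i₀ ≪≫ eqToIso (by
      rw [show AlgSt.overMap u =
        BasedFunctor.comp (BasedFunctor.comp (AlgSt.ofOverCat W₀) (AlgSt.ofSpMap ((AlgSp.yon S).map u)))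
          (AlgSt.toOverCat U) from rfl, hu]
      rfl)
  have k : BasedFunctor.comp (AlgSt.overMap u) y ≅
      BasedFunctor.comp (BasedFunctor.comp e' (fpSnd y (AlgSt.subIncl 𝒳 Q))) (AlgSt.subIncl 𝒳 Q) :=
    (postB _ y).mapIso i.symm ≪≫ (Stk.restr e' _).mapIso (fpIso y (AlgSt.subIncl 𝒳 Q))
  have hfib : IsFibGrpd (AlgSt.fullSub 𝒳 Q).p := hQ.2.1.isStack.1
  refine ⟨W₀, u, hoi, fun T a => ⟨fun hT => ?_, ?_⟩, fun t => ⟨fun ⟨z, hz⟩ => ?_, ?_⟩⟩
  · let η : (fp y (AlgSt.subIncl 𝒳 Q)).obj :=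
      ⟨{ fst := (Over.mk a : (overCat U).obj)
         snd := (⟨y.obj (Over.mk a), hT⟩ : ObjectProperty.FullSubcategory Q)
         iso := Iso.refl _ },
       (vert_iff 𝒳.p _).2 ⟨y.w_obj _, rfl, 𝒳.p.map_id _⟩⟩
    obtain ⟨E', -, -, ⟨c⟩⟩ := exists_inverse he'
    let j : (AlgSt.overMap u).obj (E'.obj η) ≅ (Over.mk a : Over U) :=
      (appIso i (E'.obj η)).symm ≪≫ (fpFst y (AlgSt.subIncl 𝒳 Q)).toFunctor.mapIso (appIso c η)
    refine ⟨j.inv.left ≫ (E'.obj η).hom, ?_⟩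
    rw [Category.assoc]
    exact Over.w j.inv
  · rintro ⟨v, rfl⟩
    exact hQ.1.of_iso (appIso k (Over.mk v)).symm
      ((BasedFunctor.comp e' (fpSnd y (AlgSt.subIncl 𝒳 Q))).obj (Over.mk v)).property
  · obtain ⟨v, hv, -⟩ := exists_points_fp hfib h𝒳.isStack.1 (isFibGrpd_overCat U) (AlgSt.subIncl 𝒳 Q) y
      (AlgSt.Points.ofChart (BasedFunctor.id _) t) z (by rw [← ofChart_eq_map]; exact hz.symm)
    obtain ⟨v', rfl⟩ := (points_bijective_of_equiv he').2 v
    obtain ⟨w, rfl⟩ := (ofChart_id_bijective W₀).2 v'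
    refine ⟨w, (ofChart_id_bijective U).1 ?_⟩
    rw [← hv, ← ofChart_overMap, show BasedFunctor.comp (AlgSt.overMap u) (BasedFunctor.id _) = AlgSt.overMap u from rfl,
      ofChart_congr i.symm, ← points_map_comp]
    rfl
  · rintro ⟨w, rfl⟩
    refine ⟨AlgSt.Points.ofChart (BasedFunctor.comp e' (fpSnd y (AlgSt.subIncl 𝒳 Q))) w, ?_⟩
    rw [map_ofChart, ← ofChart_congr k, ofChart_overMap]

/-- A chart from a reduced scheme with all points in a closed substack lies in it. -/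
theorem of_reduced {U : Over S} [IsReduced U.left] (y : overCat U ⥤ᵇ 𝒳)
    (h : ∀ t, AlgSt.Points.ofChart y t ∈ Set.range (AlgSt.Points.map (AlgSt.subIncl 𝒳 Q))) (a : (overCat U).obj) :
    Q (y.obj a) := by
  obtain ⟨W, w, hw, hfac, hpt⟩ := exists_model h𝒳 hQ y
  have : Surjective w.left := ⟨fun t => (hpt t).1 (h t)⟩
  have : IsIso w.left := isIso_of_isClosedImmersion_of_surjective w.left
  have : IsIso ((Over.forget S).map w) := this
  have : IsIso w := isIso_of_reflects_iso w (Over.forget S)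
  exact (hfac a.left a.hom).2 ⟨a.hom ≫ inv w, by simp⟩

/-- Membership in a closed substack is local for flat covers. -/
theorem of_cover {T' T : Over S} (y : overCat T ⥤ᵇ 𝒳) (c : T' ⟶ T) [Flat c.left]
    [LocallyOfFinitePresentation c.left] [Surjective c.left] (h : Q (y.obj (Over.mk c))) :
    Q (y.obj (Over.mk (𝟙 T))) := by
  obtain ⟨W, w, hw, hfac, -⟩ := exists_model h𝒳 hQ y
  obtain ⟨v, hv⟩ := (hfac T' c).1 h
  have : IsIso w.left := isIso_of_factor c.left w.left v.left (congrArg (fun k => k.left) hv)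
  have : IsIso ((Over.forget S).map w) := this
  have : IsIso w := isIso_of_reflects_iso w (Over.forget S)
  exact (hfac T (𝟙 T)).2 ⟨inv w, by simp⟩

/-- A functor from a reduced algebraic stack whose points land in a closed substack factors through it. -/
theorem forall_mem_of_range_subset (h𝒴 : AlgSt.IsAlgStack Scheme.fppfPrecoverage 𝒴)
    (hred : AlgSt.SmoothLocally (fun X => IsReduced X) 𝒴) (f : 𝒴 ⥤ᵇ 𝒳)
    (h : Set.range (AlgSt.Points.map f) ⊆ Set.range (AlgSt.Points.map (AlgSt.subIncl 𝒳 Q))) (y : 𝒴.obj) :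
    Q (f.obj y) := by
  obtain ⟨U, u, hu, hus⟩ := h𝒴.atlas
  have : IsReduced U.left := hred U u hu
  have hU : ∀ a, Q ((BasedFunctor.comp u f).obj a) := of_reduced h𝒳 hQ _ fun t => h ⟨_, map_ofChart u f t⟩
  obtain ⟨x, i, -⟩ := exists_classifying h𝒴.isStack.1 y rfl
  obtain ⟨W, c, hc, hcs, l, -, ⟨j⟩, -⟩ := exists_cover_lift hu hus x x
  have hW : Q ((BasedFunctor.comp x f).obj (Over.mk c)) := by
    refine hQ.1.of_iso (f.toFunctor.mapIso (appIso j (Over.mk (𝟙 W)) ≪≫ x.toFunctor.mapIso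
      (Over.isoMk (f := (AlgSt.overMap c).obj (Over.mk (𝟙 W))) (g := Over.mk c) (Iso.refl _) (by exact (Category.id_comp _).trans (Category.id_comp c).symm)))) ?_
    exact hU _
  exact hQ.1.of_iso (f.toFunctor.mapIso i) (of_cover h𝒳 hQ _ c hW)

end Groth.Agent.Stk19b.ClosedSub
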