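import Groth.Agent.Stk19b.SubModel
import Groth.Agent.Misc15.ClosedDescent
import Groth.Agent.AbSchLib.SmoothReduced
import Groth.Agent.Props12.KerReduced
import Groth.Agent.AlgSpLib.EtaleAscend

/-!
The reduced closed substack on a closed set of points of an algebraic stack.
-/

set_option autoImplicit false
set_option backward.isDefEq.respectTransparency false
set_option backward.isDefEq.respectTransparency.types false

universe u

open CategoryTheory CategoryTheory.Limits AlgebraicGeometry Opposite FibCat Groth.Agent.Stk19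
open Groth.Agent.Stk19b.SubModel

namespace Groth.Agent.Stk19b.RedClosedSub

variable {S : Scheme.{u}} {𝒳 : AlgSt.Cat S}

/-- The map of bases under a morphism from a value of a chart. -/
noncomputable def baseOf {U : Over S} {u : overCat U ⥤ᵇ 𝒳} {W : Over S} {l : W ⟶ U} {y : 𝒳.obj}
    (φ : u.obj (Over.mk l) ⟶ y) : W ⟶ 𝒳.p.obj y :=
  eqToHom (u.w_obj (Over.mk l)).symm ≫ 𝒳.p.map φ

/-- Restriction of a morphism from a value of a chart. -/
noncomputable def restrictHom {U : Over S} {u : overCat U ⥤ᵇ 𝒳} {W W' : Over S} {l : W ⟶ U} {y : 𝒳.obj}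
    (φ : u.obj (Over.mk l) ⟶ y) (g : W' ⟶ W) : u.obj (Over.mk (g ≫ l)) ⟶ y :=
  u.map (Over.homMk g rfl : (Over.mk (g ≫ l) : (overCat U).obj) ⟶ Over.mk l) ≫ φ

theorem baseOf_restrictHom {U : Over S} {u : overCat U ⥤ᵇ 𝒳} {W W' : Over S} {l : W ⟶ U} {y : 𝒳.obj}
    (φ : u.obj (Over.mk l) ⟶ y) (g : W' ⟶ W) : baseOf (restrictHom φ g) = g ≫ baseOf φ := by
  rw [baseOf, baseOf, restrictHom, Functor.map_comp, based_map u]
  simp

theorem exists_iso_of_baseOf (h : IsFibGrpd 𝒳.p) {U : Over S} {u : overCat U ⥤ᵇ 𝒳} {W : Over S} {l l' : W ⟶ U}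
    {y : 𝒳.obj} (φ : u.obj (Over.mk l) ⟶ y) (φ' : u.obj (Over.mk l') ⟶ y) (hb : baseOf φ = baseOf φ') :
    Nonempty (BasedFunctor.comp (AlgSt.overMap l) u ≅ BasedFunctor.comp (AlgSt.overMap l') u) := by
  let g : 𝒳.p.obj (u.obj (Over.mk l)) ⟶ 𝒳.p.obj (u.obj (Over.mk l')) :=
    eqToHom ((u.w_obj (Over.mk l)).trans (u.w_obj (Over.mk l')).symm)
  obtain ⟨χ, ⟨hχ, -⟩, -⟩ := fibGrpd_fac h φ' φ g (by
    rw [baseOf, baseOf] at hb
    rw [← cancel_epi (eqToHom (u.w_obj (Over.mk l)).symm), hb]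
    simp [g])
  have hχv : 𝒳.p.IsHomLift (𝟙 W) χ := (vert_iff 𝒳.p χ).2 ⟨u.w_obj _, _, hχ⟩
  have := fibGrpd_isIso_vert h (R := W) χ
  have e : ∀ (l : W ⟶ U), (AlgSt.overMap l).obj (Over.mk (𝟙 W)) = Over.mk l := fun l =>
    congrArg Over.mk (Category.id_comp l)
  let t : (BasedFunctor.comp (AlgSt.overMap l) u).obj (Over.mk (𝟙 W)) ≅
      (BasedFunctor.comp (AlgSt.overMap l') u).obj (Over.mk (𝟙 W)) :=
    eqToIso (congrArg u.obj (e l)) ≪≫ asIso χ ≪≫ eqToIso (congrArg u.obj (e l').symm)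
  have ht : 𝒳.p.IsHomLift (𝟙 W) t.hom := by
    refine (vert_iff 𝒳.p _).2 ⟨u.w_obj _, ((BasedFunctor.comp (AlgSt.overMap l) u).w_obj _).trans
      ((BasedFunctor.comp (AlgSt.overMap l') u).w_obj _).symm, ?_⟩
    simp [t, hχ, g, eqToHom_map]
  obtain ⟨i, -⟩ := yoneda_iso h (BasedFunctor.comp (AlgSt.overMap l) u) (BasedFunctor.comp (AlgSt.overMap l') u) t ht
  exact ⟨i⟩

/-- Two isomorphic lifts to the atlas lift, on a flat cover, to a scheme smooth over the atlas. -/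
theorem exists_cover_rel {U : Over S} {u : overCat U ⥤ᵇ 𝒳} (hu : AlgSt.RepByAlgSpWith (AlgSp.LocP @Smooth) u)
    (h : IsFibGrpd 𝒳.p) :
    ∃ (R : Over S) (s t : R ⟶ U), Smooth s.left ∧
      (∀ r, AlgSt.Points.ofChart u (s.left r) = AlgSt.Points.ofChart u (t.left r)) ∧
      ∀ (W : Over S) (l l' : W ⟶ U),
        Nonempty (BasedFunctor.comp (AlgSt.overMap l) u ≅ BasedFunctor.comp (AlgSt.overMap l') u) →
        ∃ (W' : Over S) (c : W' ⟶ W) (r : W' ⟶ R), Etale c.left ∧ Surjective c.left ∧ r ≫ s = c ≫ l ∧ r ≫ t = c ≫ l' := by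
  obtain ⟨F, e, he, ha⟩ := hu U u
  obtain ⟨R, w, hwe, hws⟩ := F.property.atlas
  let d₁ := BasedFunctor.comp e (fpFst u u)
  let d₂ := BasedFunctor.comp e (fpSnd u u)
  obtain ⟨s, hs⟩ := (AlgSp.yon S).map_surjective (w ≫ AlgSt.spMapOfOver d₁)
  obtain ⟨t, ht⟩ := (AlgSp.yon S).map_surjective (w ≫ AlgSt.spMapOfOver d₂)
  refine ⟨R, s, t, ?_, fun r => ?_, fun W l l' ⟨i⟩ => ?_⟩
  · refine AlgSp.locP_yon_map ?_
    rw [hs]
    exact AlgSpLib.locP_comp AlgSpLib.etLocal_smooth (AlgSp.IsAlgSpace.yon_obj R) F.property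
      (AlgSp.IsAlgSpace.yon_obj U) (locP_atlas AlgSpLib.etLocal_smooth hwe) ha
  · let π := BasedFunctor.comp (BasedFunctor.comp (AlgSt.ofOverCat R) (AlgSt.ofSpMap w)) e
    have key : ∀ (d : AlgSt.ofSp F.obj ⥤ᵇ overCat U) (r : R ⟶ U),
        (AlgSp.yon S).map r = w ≫ AlgSt.spMapOfOver d →
        Nonempty (BasedFunctor.comp (BasedFunctor.comp (AlgSt.ofOverCat R) (AlgSt.ofSpMap w)) d ≅
          AlgSt.overMap r) := fun d r hr => by
      obtain ⟨i⟩ := spMapOfOver_iso d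
      refine ⟨(Stk.restr (BasedFunctor.comp (AlgSt.ofOverCat R) (AlgSt.ofSpMap w)) _).mapIso i ≪≫ eqToIso ?_⟩
      show BasedFunctor.comp (BasedFunctor.comp (AlgSt.ofOverCat R) (AlgSt.ofSpMap w))
        (BasedFunctor.comp (AlgSt.ofSpMap (AlgSt.spMapOfOver d)) (AlgSt.toOverCat U)) = _
      rw [show AlgSt.overMap r =
        BasedFunctor.comp (BasedFunctor.comp (AlgSt.ofOverCat R) (AlgSt.ofSpMap ((AlgSp.yon S).map r)))
          (AlgSt.toOverCat U) from rfl, hr]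
      rfl
    obtain ⟨i₁⟩ := key d₁ s hs
    obtain ⟨i₂⟩ := key d₂ t ht
    have k : BasedFunctor.comp (AlgSt.overMap s) u ≅ BasedFunctor.comp (AlgSt.overMap t) u :=
      (postB _ u).mapIso i₁.symm ≪≫ (Stk.restr π _).mapIso (fpIso u u) ≪≫ (postB _ u).mapIso i₂
    rw [← ofChart_overMap, ofChart_congr k, ofChart_overMap]
  · obtain ⟨E, -, -, ⟨cE⟩⟩ := exists_inverse he
    let G : overCat W ⥤ᵇ fp u u := fpLift (F := u) (G := u) (AlgSt.overMap l) (AlgSt.overMap l') i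
    let Φ := BasedFunctor.comp (BasedFunctor.comp (AlgSt.toOverCat W) G) E
    obtain ⟨j⟩ := spHom_iso Φ
    have j' : BasedFunctor.comp (AlgSt.ofSpMap (spHom Φ)) e ≅ BasedFunctor.comp (AlgSt.toOverCat W) G :=
      (postB _ e).mapIso j.symm ≪≫ (Stk.restr (BasedFunctor.comp (AlgSt.toOverCat W) G) _).mapIso cE
    have hm : ∀ (p : fp u u ⥤ᵇ overCat U) (q : W ⟶ U) (_ : BasedFunctor.comp G p = AlgSt.overMap q),
        spHom Φ ≫ AlgSt.spMapOfOver (BasedFunctor.comp e p) = (AlgSp.yon S).map q := fun p q hp => by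
      have h1 := spMapOfOver_comp (AlgSt.ofSpMap (spHom Φ)) (BasedFunctor.comp e p)
      rw [spHom_ofSpMap] at h1
      rw [← h1, spMapOfOver_congr (Φ := BasedFunctor.comp (AlgSt.ofSpMap (spHom Φ)) (BasedFunctor.comp e p))
        (Ψ := BasedFunctor.comp (AlgSt.toOverCat W) (BasedFunctor.comp G p)) ((postB _ p).map j'.hom), hp,
        spMapOfOver_overMap, spMapOfOver_toOverCat, Category.id_comp]
    have sq := hwe.1.isPullback (spHom Φ)
    obtain ⟨r, hr⟩ := (AlgSp.yon S).map_surjective (hwe.1.fst (spHom Φ))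
    refine ⟨_, hwe.1.snd (spHom Φ), r, hwe.property_snd _, hws.property_snd _, ?_, ?_⟩
    · apply (AlgSp.yon S).map_injective
      rw [Functor.map_comp, Functor.map_comp, hr, hs, ← Category.assoc, sq.w, Category.assoc, hm _ l rfl]
    · apply (AlgSp.yon S).map_injective
      rw [Functor.map_comp, Functor.map_comp, hr, ht, ← Category.assoc, sq.w, Category.assoc, hm _ l' rfl]

/-- The map to `T` under a morphism from a value of the atlas to a value of a chart. -/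
noncomputable def baseY {U U₀ : Over S} {u : overCat U ⥤ᵇ 𝒳} {y : overCat U₀ ⥤ᵇ 𝒳} {W T : Over S} {l : W ⟶ U}
    {a : T ⟶ U₀} (φ : u.obj (Over.mk l) ⟶ y.obj (Over.mk a)) : W ⟶ T :=
  baseOf φ ≫ eqToHom (y.w_obj (Over.mk a))

theorem baseY_restrictHom {U U₀ : Over S} {u : overCat U ⥤ᵇ 𝒳} {y : overCat U₀ ⥤ᵇ 𝒳} {W W' T : Over S} {l : W ⟶ U}
    {a : T ⟶ U₀} (φ : u.obj (Over.mk l) ⟶ y.obj (Over.mk a)) (g : W' ⟶ W) :
    baseY (restrictHom φ g) = g ≫ baseY φ := by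
  rw [baseY, baseY, baseOf_restrictHom]
  exact Category.assoc _ _ _

theorem exists_hom_over (h : IsFibGrpd 𝒳.p) {U U₀ : Over S} {u : overCat U ⥤ᵇ 𝒳} {y : overCat U₀ ⥤ᵇ 𝒳}
    {W T T' : Over S} {l : W ⟶ U} {a : T ⟶ U₀} {a' : T' ⟶ U₀} (t : T' ⟶ T) (ht : t ≫ a = a')
    (φ : u.obj (Over.mk l) ⟶ y.obj (Over.mk a)) (q : W ⟶ T') (hq : q ≫ t = baseY φ) :
    Nonempty (u.obj (Over.mk l) ⟶ y.obj (Over.mk a')) := by
  let τ : (Over.mk a' : (overCat U₀).obj) ⟶ Over.mk a := Over.homMk t ht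
  have hτ : (overCat U₀).p.map τ = t := rfl
  obtain ⟨χ, -, -⟩ := fibGrpd_fac h (y.map τ) φ
    (eqToHom (u.w_obj (Over.mk l)) ≫ q ≫ eqToHom (y.w_obj (Over.mk a')).symm) (by
      have e : baseY φ = eqToHom (u.w_obj (Over.mk l)).symm ≫ 𝒳.p.map φ ≫ eqToHom (y.w_obj (Over.mk a)) := by
        simp [baseY, baseOf]
      rw [based_map y τ, hτ]
      simp only [Category.assoc, eqToHom_trans_assoc, eqToHom_refl, Category.id_comp]
      erw [reassoc_of% hq]
      rw [e]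
      simp)
  exact ⟨χ⟩

variable (h𝒳 : AlgSt.IsAlgStack Scheme.fppfPrecoverage 𝒳) {U : Over S} {u : overCat U ⥤ᵇ 𝒳}
  (hu : AlgSt.RepByAlgSpWith (AlgSp.LocP @Smooth) u) (hus : AlgSt.RepByAlgSpWith AlgSp.IsSurjectiveMor u)
  {T : Set (AlgSt.Points 𝒳)} {Z : Scheme.{u}} (i : Z ⟶ U.left) [IsClosedImmersion i] [IsReduced Z]
  (hi : Set.range i = AlgSt.Points.ofChart u ⁻¹' T)

/-- The objects all of whose lifts to the atlas factor through `i`. -/
def inRed (u : overCat U ⥤ᵇ 𝒳) (y : 𝒳.obj) : Prop :=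
  ∀ (W : Over S) (l : W ⟶ U) (_ : u.obj (Over.mk l) ⟶ y), Fac i l.left

omit [IsClosedImmersion i] [IsReduced Z] in
theorem inRed_of_hom ⦃a b : 𝒳.obj⦄ (φ : a ⟶ b) (hb : inRed i u b) : inRed i u a :=
  fun W l ψ => hb W l (ψ ≫ φ)

include h𝒳 hu hi

theorem fac_transfer {W : Over S} {l l' : W ⟶ U}
    (hiso : Nonempty (BasedFunctor.comp (AlgSt.overMap l) u ≅ BasedFunctor.comp (AlgSt.overMap l') u))
    (h : Fac i l.left) : Fac i l'.left := by
  obtain ⟨R, s, t, hs, hst, hlift⟩ := exists_cover_rel hu h𝒳.isStack.1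
  obtain ⟨W', c, r, _, _, hr₁, hr₂⟩ := hlift W l l' hiso
  have := AbSchLib.isReduced_of_smooth (pullback.snd s.left i)
  have hR : Fac i (pullback.fst s.left i ≫ t.left) := by
    refine fac_of_range i ?_
    rintro _ ⟨p, rfl⟩
    rw [hi]
    show AlgSt.Points.ofChart u (t.left (pullback.fst s.left i p)) ∈ T
    rw [← hst]
    show s.left (pullback.fst s.left i p) ∈ AlgSt.Points.ofChart u ⁻¹' T
    rw [← hi, ← Scheme.Hom.comp_apply, pullback.condition]
    exact ⟨_, rfl⟩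
  obtain ⟨v, hv⟩ := h.comp c.left
  refine fac_descend i c.left ?_
  have e₁ : r.left ≫ s.left = v ≫ i := (congrArg (fun k => k.left) hr₁).trans hv.symm
  have e₂ : c.left ≫ l'.left = r.left ≫ t.left := (congrArg (fun k => k.left) hr₂).symm
  have := hR.comp (pullback.lift r.left v e₁)
  rwa [pullback.lift_fst_assoc, ← e₂] at this

/-- Membership is tested on a single flat cover. -/
theorem inRed_of_cover {y : 𝒳.obj} {W : Over S} {l : W ⟶ U} (φ : u.obj (Over.mk l) ⟶ y)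
    [Flat (baseOf φ).left] [LocallyOfFinitePresentation (baseOf φ).left] [Surjective (baseOf φ).left]
    (hl : Fac i l.left) : inRed i u y := fun W' l' φ' => by
  let P : Over S := Over.mk (pullback.fst (baseOf φ').left (baseOf φ).left ≫ W'.hom)
  let p₁ : P ⟶ W' := Over.homMk (pullback.fst _ _)
  let p₂ : P ⟶ W := Over.homMk (pullback.snd (baseOf φ').left (baseOf φ).left) (by
    show _ ≫ W.hom = pullback.fst _ _ ≫ W'.hom
    rw [← Over.w (baseOf φ), ← Over.w (baseOf φ'), pullback.condition_assoc])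
  have hb : baseOf (restrictHom φ p₂) = baseOf (restrictHom φ' p₁) := by
    rw [baseOf_restrictHom, baseOf_restrictHom]
    exact Over.OverMorphism.ext pullback.condition.symm
  have := fac_transfer h𝒳 hu i hi (exists_iso_of_baseOf h𝒳.isStack.1 _ _ hb) (hl.comp p₂.left)
  exact fac_descend i (pullback.fst (baseOf φ').left (baseOf φ).left) this

include hus in
omit [IsClosedImmersion i] [IsReduced Z] hi in
theorem exists_cover (y : 𝒳.obj) :
    ∃ (W : Over S) (l : W ⟶ U) (φ : u.obj (Over.mk l) ⟶ y), Smooth (baseOf φ).left ∧ Surjective (baseOf φ).left := by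
  obtain ⟨x, j, hj⟩ := exists_classifying h𝒳.isStack.1 y rfl
  obtain ⟨W, c, hc, hcs, L, -, ⟨k⟩, -⟩ := exists_cover_lift hu hus x x
  let b := L.obj (Over.mk (𝟙 W))
  have hb : b.left = W := L.w_obj (Over.mk (𝟙 W))
  let l : W ⟶ U := eqToHom hb.symm ≫ b.hom
  let β : (Over.mk l : (overCat U).obj) ⟶ b := Over.homMk (eqToHom hb.symm) rfl
  let γ : (AlgSt.overMap c).obj (Over.mk (𝟙 W)) ⟶ (Over.mk (𝟙 (𝒳.p.obj y)) : (overCat (𝒳.p.obj y)).obj) :=
    Over.homMk c (by show c ≫ 𝟙 _ = 𝟙 W ≫ c; simp)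
  let φ : u.obj (Over.mk l) ⟶ y := u.map β ≫ k.hom.toNatTrans.app _ ≫ x.map γ ≫ j.hom
  have hφ : baseOf φ = c := by
    have h1 : 𝒳.p.map (k.hom.toNatTrans.app (Over.mk (𝟙 W))) = eqToHom ((u.w_obj b).trans (hb.trans
        (x.w_obj ((AlgSt.overMap c).obj (Over.mk (𝟙 W)))).symm)) := by
      have : 𝒳.p.IsHomLift (𝟙 W) (k.hom.toNatTrans.app (Over.mk (𝟙 W))) := k.hom.isHomLift' (Over.mk (𝟙 W))
      exact map_eq_of_vert 𝒳.p (R := W) _
    have h2 : 𝒳.p.map j.hom = eqToHom (x.w_obj _) := map_eq_of_vert 𝒳.p (R := 𝒳.p.obj y) j.hom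
    simp only [baseOf, φ, Functor.map_comp, based_map, h1, h2]
    simp [β, γ]
  exact ⟨W, l, φ, hφ ▸ hc, hφ ▸ hcs⟩

include hus in
/-- Membership is cut out on charts by closed subschemes. -/
theorem exists_model {U₀ : Over S} (y : overCat U₀ ⥤ᵇ 𝒳) :
    ∃ (V : Over S) (w : V ⟶ U₀), IsClosedImmersion w.left ∧
      ∀ (T : Over S) (a : T ⟶ U₀), inRed i u (y.obj (Over.mk a)) ↔ ∃ v : T ⟶ V, v ≫ w = a := by
  have h := h𝒳.isStack.1
  obtain ⟨W, l, φ, hc, hcs⟩ := exists_cover h𝒳 hu hus (y.obj (Over.mk (𝟙 U₀)))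
  let c : W ⟶ U₀ := baseOf φ ≫ eqToHom (y.w_obj (Over.mk (𝟙 U₀)))
  have : Smooth c.left := inferInstanceAs (Smooth ((baseOf φ).left ≫ (eqToHom (y.w_obj (Over.mk (𝟙 U₀)))).left))
  have : Surjective c.left := inferInstanceAs (Surjective ((baseOf φ).left ≫ (eqToHom (y.w_obj (Over.mk (𝟙 U₀)))).left))
  let P : ∀ T : Scheme.{u}, (T ⟶ U₀.left) → Prop := fun T x =>
    inRed i u (y.obj (Over.mk (Over.homMk x rfl : Over.mk (x ≫ U₀.hom) ⟶ U₀)))
  have hP : ∀ (T : Over S) (a : T ⟶ U₀), inRed i u (y.obj (Over.mk a)) ↔ P T.left a.left := fun T a => by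
    let e : (Over.mk a : (overCat U₀).obj) ≅ Over.mk (Over.homMk a.left rfl : Over.mk (a.left ≫ U₀.hom) ⟶ U₀) :=
      Over.isoMk (Over.isoMk (Iso.refl _) (by simp)) (Over.OverMorphism.ext (by simp))
    exact ⟨inRed_of_hom i (y.map e.inv), inRed_of_hom i (y.map e.hom)⟩
  have hpre : ∀ (T T' : Over S) (t : T' ⟶ T) (a : T ⟶ U₀), inRed i u (y.obj (Over.mk a)) →
      inRed i u (y.obj (Over.mk (t ≫ a))) := fun T T' t a => inRed_of_hom i (y.map (Over.homMk t rfl))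
  have hdesc : ∀ {T T' : Scheme.{u}} (t : T' ⟶ T) [Flat t] [Surjective t]
      (_ : ∀ {W₁ W₂ : Scheme.{u}} (p : W₂ ⟶ W₁) (q : W₂ ⟶ T') (g : W₁ ⟶ T), IsPullback p q g t →
        ∀ {l : W₁ ⟶ U.left}, Fac i (p ≫ l) → Fac i l) (x : T ⟶ U₀.left), P T' (t ≫ x) → P T x := by
    intro T T' t _ _ hd x hx W₁ l₁ φ₁
    let g : W₁ ⟶ Over.mk (x ≫ U₀.hom) := baseY φ₁
    let W₂ : Over S := Over.mk (pullback.fst g.left t ≫ W₁.hom)
    let p : W₂ ⟶ W₁ := Over.homMk (pullback.fst g.left t)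
    let q : W₂ ⟶ Over.mk ((t ≫ x) ≫ U₀.hom) := Over.homMk (pullback.snd g.left t) (by
      show pullback.snd g.left t ≫ (t ≫ x) ≫ U₀.hom = pullback.fst g.left t ≫ W₁.hom
      rw [Category.assoc, ← pullback.condition_assoc]
      exact congrArg (pullback.fst g.left t ≫ ·) (Over.w g))
    obtain ⟨χ⟩ := exists_hom_over (a' := Over.homMk (t ≫ x) rfl) h (Over.homMk t (Category.assoc _ _ _).symm)
      (Over.OverMorphism.ext rfl) (restrictHom φ₁ p) q (by
        rw [baseY_restrictHom]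
        exact Over.OverMorphism.ext pullback.condition.symm)
    exact hd (pullback.fst g.left t) (pullback.snd g.left t) g.left (IsPullback.of_hasPullback _ _)
      (hx W₂ (p ≫ l₁) χ)
  have hff : ∀ (T T' : Scheme.{u}) (t : T' ⟶ T) [Flat t] [Surjective t] [QuasiCompact t] (x : T ⟶ U₀.left),
      P T' (t ≫ x) → P T x := fun T T' t _ _ _ x => hdesc t (fun p q g sq _ hl => by
        have := MorphismProperty.of_isPullback (P := @Flat) sq.flip inferInstance
        have := MorphismProperty.of_isPullback (P := @Surjective) sq.flip inferInstance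
        have := MorphismProperty.of_isPullback (P := @QuasiCompact) sq.flip inferInstance
        exact fac_descend_qc i p hl) x
  have hloc : ∀ (T : Scheme.{u}) (x : T ⟶ U₀.left) (𝒱 : Scheme.OpenCover.{u} T),
      (∀ k, P _ (𝒱.f k ≫ x)) → P T x := by
    intro T x 𝒱 hk W₁ l₁ φ₁
    let g : W₁ ⟶ Over.mk (x ≫ U₀.hom) := baseY φ₁
    let 𝒲 := 𝒱.pullback₁ g.left
    have hfac : ∀ k, Fac i (𝒲.f k ≫ l₁.left) := fun k => by
      let W₂ : Over S := Over.mk (pullback.fst g.left (𝒱.f k) ≫ W₁.hom)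
      let p : W₂ ⟶ W₁ := Over.homMk (pullback.fst g.left (𝒱.f k))
      let q : W₂ ⟶ Over.mk ((𝒱.f k ≫ x) ≫ U₀.hom) := Over.homMk (pullback.snd g.left (𝒱.f k)) (by
        show pullback.snd g.left (𝒱.f k) ≫ (𝒱.f k ≫ x) ≫ U₀.hom = pullback.fst g.left (𝒱.f k) ≫ W₁.hom
        rw [Category.assoc, ← pullback.condition_assoc]
        exact congrArg (pullback.fst g.left (𝒱.f k) ≫ ·) (Over.w g))
      obtain ⟨χ⟩ := exists_hom_over (a' := Over.homMk (𝒱.f k ≫ x) rfl) h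
        (Over.homMk (𝒱.f k) (Category.assoc _ _ _).symm) (Over.OverMorphism.ext rfl) (restrictHom φ₁ p) q (by
          rw [baseY_restrictHom]
          exact Over.OverMorphism.ext pullback.condition.symm)
      exact hk k W₂ (p ≫ l₁) χ
    choose v hv using hfac
    refine ⟨Scheme.Cover.glueMorphisms 𝒲 v fun a b => ?_, Scheme.Cover.hom_ext 𝒲 _ _ fun a => by
      rw [← Category.assoc, Scheme.Cover.ι_glueMorphisms, hv]⟩
    rw [← cancel_mono i, Category.assoc, Category.assoc, hv, hv, pullback.condition_assoc]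
  have hZ₁ : ∀ (T : Scheme.{u}) (z : T ⟶ W.left),
      P T (z ≫ c.left) ↔ ∃ v, v ≫ pullback.snd i l.left = z := fun T z => by
    let z' : Over.mk (z ≫ W.hom) ⟶ W := Over.homMk z rfl
    refine (hP _ (z' ≫ c)).symm.trans ?_
    let τ : (Over.mk (z' ≫ c) : (overCat U₀).obj) ⟶ Over.mk (𝟙 U₀) :=
      Over.homMk (z' ≫ c) (Category.comp_id _)
    obtain ⟨χ, ⟨hχ, -⟩, -⟩ := fibGrpd_fac h (y.map τ) (restrictHom φ z')
      (eqToHom ((u.w_obj _).trans (y.w_obj (Over.mk (z' ≫ c))).symm)) (by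
        have e := baseOf_restrictHom φ z'
        rw [baseOf] at e
        rw [← cancel_epi (eqToHom (u.w_obj (Over.mk (z' ≫ l))).symm), e, based_map y τ]
        simp [τ, c])
    have hχb : baseOf χ = eqToHom (y.w_obj (Over.mk (z' ≫ c))).symm := by
      rw [baseOf, hχ, eqToHom_trans]
    constructor
    · intro hy
      obtain ⟨v, hv⟩ := hy _ _ χ
      exact ⟨pullback.lift v z hv, pullback.lift_snd _ _ _⟩
    · rintro ⟨v, hv⟩
      have : IsIso (baseOf χ).left := by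
        rw [hχb]
        exact inferInstanceAs (IsIso ((Over.forget S).map (eqToHom _)))
      refine inRed_of_cover h𝒳 hu i hi χ ⟨v ≫ pullback.fst i l.left, ?_⟩
      rw [Category.assoc, pullback.condition, reassoc_of% hv]
      rfl
  obtain ⟨V, j, hj, hV⟩ := Misc15.ClosedDescent.exists_closedImmersion c.left P
    (fun T T' t x hx => (hP (Over.mk ((t ≫ x) ≫ U₀.hom)) (Over.homMk (t ≫ x) rfl)).1
      (by
        have := hpre _ _ (Over.homMk t (Category.assoc _ _ _).symm :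
          Over.mk ((t ≫ x) ≫ U₀.hom) ⟶ Over.mk (x ≫ U₀.hom)) _ hx
        convert this using 3
        exact Over.OverMorphism.ext rfl))
    hloc hff (pullback.snd i l.left) hZ₁
  refine ⟨Over.mk (j ≫ U₀.hom), Over.homMk j rfl, hj, fun T a => (hP T a).trans ((hV _ _).trans ⟨?_, ?_⟩)⟩
  · rintro ⟨v, hv⟩
    exact ⟨Over.homMk v (by
      show v ≫ j ≫ U₀.hom = T.hom
      rw [reassoc_of% hv, Over.w a]), Over.OverMorphism.ext hv⟩
  · rintro ⟨v, rfl⟩
    exact ⟨v.left, rfl⟩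

end Groth.Agent.Stk19b.RedClosedSub
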