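import Groth.Agent.Stk19b.Gerbe.Flat
import Groth.Agent.Stk19.AlgSt.Qc
import Groth.Agent.S10292
import Groth.Agent.AlgSpLib.ValuationPoint
import Groth.Agent.H8Top.SchemeBasic

/-!
# Valuation rings and morphisms of algebraic stacks
-/

set_option autoImplicit false
set_option backward.isDefEq.respectTransparency false
set_option backward.isDefEq.respectTransparency.types false

universe u

open CategoryTheory CategoryTheory.Limits AlgebraicGeometry Opposite FibCat Groth.Agent.Desc19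

namespace Groth.Agent.Stk19b.ValLift

open Groth.Agent.Stk19

variable {S : Scheme.{u}} {𝒳 𝒴 : AlgSt.Cat S}

local notation "AS" => AlgSt.IsAlgStack Scheme.fppfPrecoverage

/-- Lifting of valuation rings along flat morphisms of algebraic stacks. -/
theorem exists_lift_of_flat (h𝒳 : AS 𝒳) (h𝒴 : AS 𝒴) (f : 𝒳 ⥤ᵇ 𝒴)
    (hf : AlgSt.LocQ (AlgSp.LocP @Flat) f) {A : Type u} [CommRing A] [IsDomain A] [ValuationRing A]
    (sA : Spec (CommRingCat.of A) ⟶ S) (a : overCat (Over.mk sA) ⥤ᵇ 𝒴)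
    (ha : AlgSt.Points.ofChart a (IsLocalRing.closedPoint A) ∈ Set.range (AlgSt.Points.map f)) :
    ∃ (A' : Type u) (_ : CommRing A') (_ : IsDomain A') (_ : ValuationRing A') (φ : A →+* A'),
      Function.Injective φ ∧ IsLocalHom φ ∧
      ∃ x : overCat (Over.mk (Spec.map (CommRingCat.ofHom φ) ≫ sA)) ⥤ᵇ 𝒳,
        Nonempty (BasedFunctor.comp x f ≅
          BasedFunctor.comp (AlgSt.overMap (Over.homMk (Spec.map (CommRingCat.ofHom φ)) rfl :
            Over.mk (Spec.map (CommRingCat.ofHom φ) ≫ sA) ⟶ Over.mk sA)) a) := by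
  obtain ⟨U, x, -, hxs, hxf⟩ :=
    exists_chart_of_locQ AlgSpLib.etLocal_flat (fun _ _ g (hg : Smooth g) => inferInstance) hf
  obtain ⟨p, hp⟩ := ha
  obtain ⟨t, rfl⟩ := ofChart_surjective h𝒳.isStack.1 hxs p
  let g := BasedFunctor.comp x f
  let c : ↥(Over.mk sA).left := IsLocalRing.closedPoint A
  have hN := isAlgStack_fp h𝒴.isStack h𝒴.diag (isAlgStack_overCat (Over.mk sA)) (isAlgStack_overCat U) a g
  obtain ⟨W, e, he, hes⟩ := hN.atlas
  obtain ⟨k, ⟨ik⟩⟩ := exists_overMap_iso (BasedFunctor.comp e (fpFst a g))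
  have : Flat k.left := Gerbe.prop_of_with_overMap AlgSpLib.etLocal_flat (repByAlgSpWith_of_iso ik
    (with_comp_locP AlgSpLib.etLocal_flat hN.isStack.1 (with_flat_of_smooth he).1 (repByAlgSpWith_fpFst a hxf)))
  obtain ⟨w, hw, -⟩ := exists_points_fp (isFibGrpd_overCat U) h𝒴.isStack.1 (isFibGrpd_overCat _) g a
    (AlgSt.Points.ofChart (BasedFunctor.id _) c) (AlgSt.Points.ofChart (BasedFunctor.id _) t) (by
      rw [← ofChart_eq_map, ← ofChart_eq_map, ← map_ofChart]
      exact hp.symm)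
  obtain ⟨r, rfl⟩ := ofChart_surjective hN.isStack.1 hes w
  rw [map_ofChart, ofChart_congr ik] at hw
  have hkr : k.left r = c := (ofChart_id_bijective (Over.mk sA)).1
    ((ofChart_overMap k (BasedFunctor.id _) r).symm.trans hw)
  obtain ⟨A', _, _, _, φ, hinj, hloc, m, hm⟩ := Groth.Agent.S10292.aux k.left r hkr
  let k' : Over.mk (Spec.map (CommRingCat.ofHom φ) ≫ sA) ⟶ W :=
    Over.homMk m (by rw [← Over.w k, ← Category.assoc, hm]; rfl)
  refine ⟨A', inferInstance, inferInstance, inferInstance, φ, hinj, hloc,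
    BasedFunctor.comp (AlgSt.overMap k') (BasedFunctor.comp e (BasedFunctor.comp (fpSnd a g) x)), ?_⟩
  have hk : k' ≫ k = (Over.homMk (Spec.map (CommRingCat.ofHom φ)) rfl :
      Over.mk (Spec.map (CommRingCat.ofHom φ) ≫ sA) ⟶ Over.mk sA) := Over.OverMorphism.ext hm
  obtain ⟨j⟩ := overMap_comp k' k
  rw [← hk]
  exact ⟨(Stk.restr (BasedFunctor.comp (AlgSt.overMap k') e) _).mapIso (fpIso a g).symm ≪≫
    (Stk.restr (AlgSt.overMap k') _).mapIso ((postB _ a).mapIso ik) ≪≫ (postB _ a).mapIso j⟩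

/-- Points in the closure of the image of a quasi-compact morphism are witnessed by valuation rings. -/
theorem exists_witness_of_mem_closure (h𝒳 : AS 𝒳) (h𝒴 : AS 𝒴) (f : 𝒳 ⥤ᵇ 𝒴)
    (hf : AlgSt.IsQuasiCompactMor Scheme.fppfPrecoverage f)
    (y : AlgSt.Points 𝒴) (hy : y ∈ closure (Set.range (AlgSt.Points.map f))) :
    ∃ (A : Type u) (_ : CommRing A) (_ : IsDomain A) (_ : ValuationRing A) (sA : Spec (CommRingCat.of A) ⟶ S)
      (a : FibCat.overCat (Over.mk sA) ⥤ᵇ 𝒴)
      (x : FibCat.overCat (Over.mk (Spec.map (CommRingCat.ofHom (algebraMap A (FractionRing A))) ≫ sA)) ⥤ᵇ 𝒳),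
      Nonempty (BasedFunctor.comp x f ≅
        BasedFunctor.comp (AlgSt.overMap (Over.homMk (Spec.map (CommRingCat.ofHom (algebraMap A (FractionRing A)))) rfl :
          Over.mk (Spec.map (CommRingCat.ofHom (algebraMap A (FractionRing A))) ≫ sA) ⟶ Over.mk sA)) a) ∧
      AlgSt.Points.ofChart a (IsLocalRing.closedPoint A) = y := by
  obtain ⟨V, y₀, hy₀, hy₀s⟩ := h𝒴.atlas
  obtain ⟨v, rfl⟩ := ofChart_surjective h𝒴.isStack.1 hy₀s y
  obtain ⟨_, ⟨O, hO, rfl⟩, hvO, -⟩ :=
    V.left.isBasis_affineOpens.exists_subset_of_mem_open (Set.mem_univ v) isOpen_univ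
  let O' : Over S := Over.mk ((Scheme.Opens.ι O) ≫ V.hom)
  let ι : O' ⟶ V := Over.homMk (Scheme.Opens.ι O) rfl
  let o := BasedFunctor.comp (AlgSt.overMap ι) y₀
  let v₀ : ↥O'.left := ⟨v, hvO⟩
  have : IsAffine O'.left := hO
  have : CompactSpace ↥O'.left := inferInstance
  have : IsOpenImmersion ι.left := inferInstanceAs (IsOpenImmersion (Scheme.Opens.ι O))
  have ho : AlgSt.RepByAlgSpWith (AlgSp.LocP @Smooth) o :=
    with_comp_chart AlgSpLib.etLocal_smooth ι inferInstance hy₀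
  obtain ⟨W, w, hW, -, hws⟩ := hf _ (isAlgStack_overCat O') (isQuasiCompact_overCat O') o
  obtain ⟨k, ⟨ik⟩⟩ := exists_overMap_iso (BasedFunctor.comp w (fpFst o f))
  have : QuasiCompact k.left := inferInstance
  have hcl : v₀ ∈ closure (Set.range k.left) := mem_closure_iff.2 fun B hB hvB => by
    obtain ⟨_, ⟨b, hb, rfl⟩, p, hp⟩ := mem_closure_iff.1 hy (AlgSt.Points.ofChart o '' B)
      (isOpenMap_ofChart_smooth h𝒴.isStack.1 ho B hB) ⟨v₀, hvB, ofChart_overMap ι y₀ v₀⟩
    obtain ⟨q, hq, -⟩ := exists_points_fp h𝒳.isStack.1 h𝒴.isStack.1 (isFibGrpd_overCat O') f o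
      (AlgSt.Points.ofChart (BasedFunctor.id _) b) p (by rw [← ofChart_eq_map]; exact hp.symm)
    obtain ⟨r, rfl⟩ := ofChart_surjective (fibGrpd_fp (isFibGrpd_overCat O') h𝒳.isStack.1 h𝒴.isStack.1 o f) hws q
    rw [map_ofChart, ofChart_congr ik] at hq
    exact ⟨b, hb, r, (ofChart_id_bijective O').1 ((ofChart_overMap k (BasedFunctor.id _) r).symm.trans hq)⟩
  obtain ⟨r, hr⟩ := H8Top.exists_specializes_of_mem_closure_range k.left hcl
  obtain ⟨A', m, hm, hmc⟩ := AlgSpLib.exists_valuationSubring_of_specializes (Ω := W.left.residueField r)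
    (W.left.fromSpecResidueField r ≫ k.left) (w := v₀) (by
      show k.left (W.left.fromSpecResidueField r _) ⤳ v₀
      rw [Scheme.fromSpecResidueField_apply]
      exact hr)
  let sA : Spec (CommRingCat.of A') ⟶ S := m ≫ O'.hom
  let e : FractionRing A' ≃ₐ[A'] W.left.residueField r := FractionRing.algEquiv A' _
  let ψ : Spec (CommRingCat.of (FractionRing A')) ⟶ W.left :=
    Spec.map (CommRingCat.ofHom (e.symm : W.left.residueField r →+* FractionRing A')) ≫
      W.left.fromSpecResidueField r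
  have hψ : ψ ≫ k.left = Spec.map (CommRingCat.ofHom (algebraMap A' (FractionRing A'))) ≫ m := by
    rw [Category.assoc, ← hm, ← Category.assoc, ← Spec.map_comp]
    congr 2
    ext z
    exact e.symm.commutes z
  let j : Over.mk (Spec.map (CommRingCat.ofHom (algebraMap A' (FractionRing A'))) ≫ sA) ⟶ Over.mk sA :=
    Over.homMk (Spec.map (CommRingCat.ofHom (algebraMap A' (FractionRing A')))) rfl
  let mO : Over.mk sA ⟶ O' := Over.homMk m rfl
  let k' : Over.mk (Spec.map (CommRingCat.ofHom (algebraMap A' (FractionRing A'))) ≫ sA) ⟶ W :=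
    Over.homMk ψ (by rw [← Over.w k, reassoc_of% hψ]; rfl)
  have hk : k' ≫ k = j ≫ mO := Over.OverMorphism.ext hψ
  refine ⟨A', inferInstance, inferInstance, inferInstance, sA, BasedFunctor.comp (AlgSt.overMap mO) o,
    BasedFunctor.comp (AlgSt.overMap k') (BasedFunctor.comp w (fpSnd o f)), ?_, ?_⟩
  · obtain ⟨j₁⟩ := overMap_comp k' k
    obtain ⟨j₂⟩ := overMap_comp j mO
    exact ⟨(Stk.restr (BasedFunctor.comp (AlgSt.overMap k') w) _).mapIso (fpIso o f).symm ≪≫
      (Stk.restr (AlgSt.overMap k') _).mapIso ((postB _ o).mapIso ik) ≪≫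
      (postB _ o).mapIso (j₁ ≪≫ eqToIso (congrArg AlgSt.overMap hk) ≪≫ j₂.symm)⟩
  · rw [ofChart_overMap, ofChart_overMap]
    show AlgSt.Points.ofChart y₀ (ι.left (m (IsLocalRing.closedPoint A'))) = _
    rw [hmc]
    rfl

end Groth.Agent.Stk19b.ValLift
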