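import Groth.Agent.Stk19b.QuotTriv
import Groth.Prelude.Def_StkCnt
import Groth.Agent.LangLib.Lang

/-! Points of torsors over fields: geometric points, and rational points over finite fields (Lang). -/

set_option autoImplicit false
set_option linter.style.haveILetI false
set_option backward.isDefEq.respectTransparency false
set_option backward.isDefEq.respectTransparency.types false

universe u

open CategoryTheory CategoryTheory.Limits AlgebraicGeometry MonoidalCategory CartesianMonoidalCategory MonObj GrpObj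

namespace Groth.Agent.Stk19b.TorsorPoints

open QuotTriv

/-- Over an algebraically closed point, some member of a covering family has a point. -/
theorem exists_point_of_cover {P : MorphismProperty Scheme.{u}} (hP : P ≤ @LocallyOfFiniteType) {B : Scheme.{u}}
    (R : Presieve B) (hR : R ∈ Scheme.precoverage P B) (Ω : Type u) [Field Ω] [IsAlgClosed Ω]
    (σ : Spec (CommRingCat.of Ω) ⟶ B) :
    ∃ (T' : Scheme.{u}) (f : T' ⟶ B) (q : Spec (CommRingCat.of Ω) ⟶ T'), R f ∧ q ≫ f = σ := by
  obtain ⟨J', Y, f, rfl⟩ := R.exists_eq_ofArrows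
  obtain ⟨hs, hf⟩ := (Scheme.presieve₀_mem_precoverage_iff (PreZeroHypercover.mk J' Y f)).1 hR
  obtain ⟨i, y, hy⟩ := hs (σ (IsLocalRing.closedPoint Ω))
  haveI : LocallyOfFiniteType (f i) := hP _ (hf i)
  obtain ⟨z, -, -⟩ := Scheme.Pullback.exists_preimage_pullback (f := f i) (g := σ) y (IsLocalRing.closedPoint Ω) hy
  haveI : JacobsonSpace ↥(pullback (f i) σ) := LocallyOfFiniteType.jacobsonSpace (pullback.snd (f i) σ)
  obtain ⟨c, -, hc⟩ := nonempty_inter_closedPoints (Z := (Set.univ : Set ↥(pullback (f i) σ))) ⟨z, trivial⟩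
    isOpen_univ.isLocallyClosed
  refine ⟨Y i, f i, pointOfClosedPoint (pullback.snd (f i) σ) c hc ≫ pullback.fst (f i) σ, ⟨i⟩, ?_⟩
  rw [Category.assoc, pullback.condition, pointOfClosedPoint_comp_assoc]

variable {S : Scheme.{u}} {G X : Over S} [GrpObj G] {aX : AlgGrp.Action G X}

/-- The torsor of an object has geometric points over every geometric point of the base. -/
theorem exists_geomPoint {P : MorphismProperty Scheme.{u}} (hP : P ≤ @LocallyOfFiniteType)
    (A : AlgSt.QuotObj (Scheme.precoverage P) G aX) (Ω : Type u) [Field Ω] [IsAlgClosed Ω]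
    {T : Over S} (e : Spec (CommRingCat.of Ω) ≅ T.left) (σ : T ⟶ A.base) :
    ∃ t : T ⟶ A.P, t ≫ A.π = σ := by
  obtain ⟨R, hR, hsec⟩ := A.loc
  obtain ⟨T', f, q, hf, hq⟩ := exists_point_of_cover hP R hR Ω (e.hom ≫ σ.left)
  obtain ⟨s, hs⟩ := hsec f hf
  have h1 : (e.inv ≫ q ≫ s) ≫ A.π.left = σ.left := by
    have hs' : s ≫ A.π.left = f := hs
    rw [Category.assoc, Category.assoc, hs', hq, Iso.inv_hom_id_assoc]
  refine ⟨Over.homMk (e.inv ≫ q ≫ s) ?_, Over.OverMorphism.ext h1⟩
  rw [← Over.w A.π, ← Category.assoc, h1, Over.w σ]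

theorem etale_le_lft : (@Etale : MorphismProperty Scheme.{u}) ≤ @LocallyOfFiniteType :=
  fun _ _ f (_ : Etale f) => inferInstance

theorem fppf_le_lft :
    ((@Flat ⊓ @LocallyOfFinitePresentation) : MorphismProperty Scheme.{u}) ≤ @LocallyOfFiniteType :=
  fun _ _ f h => by haveI : LocallyOfFinitePresentation f := h.2; infer_instance

section FinitePoints

variable {k : Type u} [Field k] [Finite k]

theorem finite_sections_affine {U : Scheme.{u}} [IsAffine U] (g : U ⟶ Spec (CommRingCat.of k))
    [LocallyOfFiniteType g] : Finite {q : Spec (CommRingCat.of k) ⟶ U // q ≫ g = 𝟙 _} := by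
  obtain ⟨α, hα⟩ := Spec.map_surjective (U.isoSpec.inv ≫ g)
  letI := α.hom.toAlgebra
  haveI : Algebra.FiniteType k Γ(U, ⊤) := by
    have : LocallyOfFiniteType (Spec.map α) := by rw [hα]; infer_instance
    exact (HasRingHomProperty.Spec_iff (P := @LocallyOfFiniteType)).1 this
  obtain ⟨s, hs⟩ := ‹Algebra.FiniteType k Γ(U, ⊤)›.out
  haveI : Finite ((Γ(U, ⊤) : Type u) →ₐ[k] k) :=
    Finite.of_injective (fun φ : (Γ(U, ⊤) : Type u) →ₐ[k] k => fun x : s => φ x.1) fun φ ψ h =>
      AlgHom.ext_of_adjoin_eq_top hs fun x hx => congrFun h ⟨x, hx⟩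
  have key : ∀ q : {q : Spec (CommRingCat.of k) ⟶ U // q ≫ g = 𝟙 _},
      ∃ φ : (Γ(U, ⊤) : Type u) →ₐ[k] k, Spec.map (CommRingCat.ofHom φ.toRingHom) ≫ U.isoSpec.inv = q.1 := by
    rintro ⟨q, hq⟩
    obtain ⟨β, hβ⟩ := Spec.map_surjective (q ≫ U.isoSpec.hom)
    have hid : α ≫ β = 𝟙 _ := Spec.map_injective (by
      rw [Spec.map_comp, hα, hβ, Spec.map_id]
      simpa using hq)
    refine ⟨{ β.hom with commutes' := fun a => congrArg (fun z => z.hom a) hid }, ?_⟩
    show Spec.map β ≫ U.isoSpec.inv = q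
    rw [hβ, Category.assoc, Iso.hom_inv_id, Category.comp_id]
  choose φ hφ using key
  exact Finite.of_injective φ fun a b h => Subtype.ext (by rw [← hφ a, ← hφ b, h])

theorem finite_points (X : Over (Spec (CommRingCat.of k))) [LocallyOfFiniteType X.hom] [QuasiCompact X.hom] :
    Finite (Over.mk (𝟙 (Spec (CommRingCat.of k))) ⟶ X) := by
  haveI : CompactSpace ↥X.left := QuasiCompact.compactSpace_of_compactSpace X.hom
  let 𝒰 := X.left.affineCover.finiteSubcover
  haveI : ∀ i, IsAffine (𝒰.X i) := fun i => inferInstanceAs (IsAffine (X.left.affineCover.X _))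
  haveI := fun i => finite_sections_affine (𝒰.f i ≫ X.hom)
  have key : ∀ p : Over.mk (𝟙 (Spec (CommRingCat.of k))) ⟶ X,
      ∃ a : Σ i, {q : Spec (CommRingCat.of k) ⟶ 𝒰.X i // q ≫ 𝒰.f i ≫ X.hom = 𝟙 _},
        a.2.1 ≫ 𝒰.f a.1 = p.left := by
    intro p
    obtain ⟨i, y, hy⟩ := 𝒰.exists_eq (p.left (IsLocalRing.closedPoint k))
    haveI : IsOpenImmersion (𝒰.f i) := 𝒰.map_prop i
    have hsub : Set.range p.left ⊆ Set.range (𝒰.f i) := by
      rintro _ ⟨x, rfl⟩
      obtain rfl : x = IsLocalRing.closedPoint k := (inferInstance : Subsingleton (PrimeSpectrum k)).elim x _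
      exact ⟨y, hy⟩
    refine ⟨⟨i, IsOpenImmersion.lift (𝒰.f i) p.left hsub, ?_⟩, IsOpenImmersion.lift_fac _ _ _⟩
    rw [IsOpenImmersion.lift_fac_assoc]
    exact Over.w p
  choose a ha using key
  exact Finite.of_injective a fun p p' h => Over.OverMorphism.ext (by rw [← ha p, ← ha p', h])

end FinitePoints

section Rational

variable {k : Type u} [Field k] [Finite k]

theorem mem_range_of_pow_eq {L : Type u} [Field L] [Algebra k L] (y : L) (h : y ^ Nat.card k = y) :
    y ∈ Set.range (algebraMap k L) := by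
  classical
  haveI := Fintype.ofFinite k
  rw [Nat.card_eq_fintype_card] at h
  by_contra hy
  let f : Polynomial L := Polynomial.X ^ Fintype.card k - Polynomial.X
  have hq : 1 < Fintype.card k := Fintype.one_lt_card
  have hf : f ≠ 0 := FiniteField.X_pow_card_sub_X_ne_zero L hq
  have hsub : insert y (Finset.univ.image (algebraMap k L)) ⊆ f.roots.toFinset := by
    intro z hz
    rw [Multiset.mem_toFinset, Polynomial.mem_roots hf]
    rcases Finset.mem_insert.1 hz with rfl | hz
    · simp [f, h]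
    · obtain ⟨a, -, rfl⟩ := Finset.mem_image.1 hz
      simp [f, ← map_pow, FiniteField.pow_card]
  have h1 := (Finset.card_le_card hsub).trans ((Multiset.toFinset_card_le _).trans (Polynomial.card_roots' f))
  rw [Finset.card_insert_of_notMem (fun hm => hy (by
      obtain ⟨a, -, ha⟩ := Finset.mem_image.1 hm; exact ⟨a, ha⟩)),
    Finset.card_image_of_injective _ (algebraMap k L).injective, Finset.card_univ,
    FiniteField.X_pow_card_sub_X_natDegree_eq L hq] at h1
  omega

variable (k) (L : Type u) [Field L] [Algebra k L]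

/-- The `q`-Frobenius of the spectrum of an extension. -/
noncomputable def frob : SGA7.pt (K := k) L ⟶ SGA7.pt (K := k) L :=
  haveI := Fintype.ofFinite k
  Over.homMk (Spec.map (CommRingCat.ofHom (FiniteField.frobeniusAlgHom k L).toRingHom)) (by
    show _ ≫ Spec.map _ = Spec.map _
    rw [← Spec.map_comp]
    congr 1
    ext a
    exact (FiniteField.frobeniusAlgHom k L).commutes a)

theorem frob_appTop (s : Γ((SGA7.pt (K := k) L).left, ⊤)) :
    (frob k L).left.appTop s = s ^ Nat.card k := by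
  letI := Fintype.ofFinite k
  let e := Scheme.ΓSpecIso (CommRingCat.of L)
  apply e.commRingCatIsoToRingEquiv.injective
  rw [map_pow]
  have h := Scheme.ΓSpecIso_naturality (CommRingCat.ofHom (FiniteField.frobeniusAlgHom k L).toRingHom)
  show e.hom ((frob k L).left.appTop s) = (e.hom s) ^ Nat.card k
  rw [Nat.card_eq_fintype_card]
  exact (congrArg (fun m => m.hom s) h).trans rfl

variable {k L}

/-- A Frobenius-fixed geometric point is rational. -/
theorem exists_rational_of_frob_fixed {P : Over (Spec (CommRingCat.of k))} (p : SGA7.pt (K := k) L ⟶ P)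
    (h : frob k L ≫ p = p) : Nonempty (Over.mk (𝟙 (Spec (CommRingCat.of k))) ⟶ P) := by
  letI := Fintype.ofFinite k
  obtain ⟨⟨x, φ⟩, hx⟩ := (Scheme.SpecToEquivOfField L P.left).symm.surjective p.left
  have hx' : Spec.map φ ≫ P.left.fromSpecResidueField x = p.left := hx
  let ψ := φ ≫ CommRingCat.ofHom (FiniteField.frobeniusAlgHom k L).toRingHom
  have h2 : (Scheme.SpecToEquivOfField L P.left).symm ⟨x, ψ⟩ = (Scheme.SpecToEquivOfField L P.left).symm ⟨x, φ⟩ := by
    show Spec.map ψ ≫ P.left.fromSpecResidueField x = Spec.map φ ≫ P.left.fromSpecResidueField x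
    rw [Spec.map_comp, Category.assoc, hx']
    exact congrArg (fun z : SGA7.pt (K := k) L ⟶ P => z.left) h
  have h3 : ψ = φ := by
    have := (Scheme.SpecToEquivOfField L P.left).symm.injective h2
    exact eq_of_heq (Sigma.mk.inj_iff.1 this).2
  have hr : ∀ z, φ.hom z ∈ (algebraMap k L).range := fun z => by
    obtain ⟨a, ha⟩ := mem_range_of_pow_eq (k := k) (φ.hom z) (by
      rw [Nat.card_eq_fintype_card]
      exact congrArg (fun m => m.hom z) h3)
    exact ⟨a, ha⟩
  let eR : k ≃+* (algebraMap k L).range := RingEquiv.ofBijective (algebraMap k L).rangeRestrict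
    ⟨fun a b hab => (algebraMap k L).injective (congrArg Subtype.val hab), RingHom.rangeRestrict_surjective _⟩
  let ρ : P.left.residueField x →+* k := eR.symm.toRingHom.comp (φ.hom.codRestrict _ hr)
  have hρ : CommRingCat.ofHom ρ ≫ CommRingCat.ofHom (algebraMap k L) = φ := by
    ext z
    exact congrArg Subtype.val (eR.apply_symm_apply (φ.hom.codRestrict _ hr z))
  let p0 := Spec.map (CommRingCat.ofHom ρ) ≫ P.left.fromSpecResidueField x
  obtain ⟨χ, hχ⟩ := Spec.map_surjective (p0 ≫ P.hom)
  have hid : χ = 𝟙 _ := by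
    have h4 : Spec.map (CommRingCat.ofHom (algebraMap k L)) ≫ Spec.map χ =
        Spec.map (CommRingCat.ofHom (algebraMap k L)) := by
      rw [hχ, ← Category.assoc, ← Category.assoc, ← Spec.map_comp, hρ, hx']
      exact Over.w p
    rw [← Spec.map_comp] at h4
    have h5 := Spec.map_injective h4
    ext a
    exact (algebraMap k L).injective (congrArg (fun m => m.hom a) h5)
  exact ⟨Over.homMk p0 (hχ.symm.trans (by rw [hid, Spec.map_id]; rfl))⟩

/-- Torsors under smooth connected affine groups over finite fields have rational points. -/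
theorem exists_rational_point {G X : Over (Spec (CommRingCat.of k))} [GrpObj G] {aX : AlgGrp.Action G X}
    [IsAffineHom G.hom] [Smooth G.hom] [ConnectedSpace ↥G.left]
    {Q : MorphismProperty Scheme.{u}} (hQ : Q ≤ @LocallyOfFiniteType)
    (A : AlgSt.QuotObj (Scheme.precoverage Q) G aX) [IsIso A.base.hom] :
    Nonempty (Over.mk (𝟙 (Spec (CommRingCat.of k))) ⟶ A.P) := by
  haveI : IsAffine G.left := isAffine_of_isAffineHom G.hom
  obtain ⟨F, hF⟩ := LangLib.exists_frobenius G
  let Ω : Type u := AlgebraicClosure k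
  let T := SGA7.pt (K := k) Ω
  let σ : T ⟶ A.base := Over.homMk (T.hom ≫ inv A.base.hom)
  obtain ⟨p, hp⟩ := exists_geomPoint hQ A Ω (T := T) (Iso.refl _) σ
  have huniq : ∀ m m' : T ⟶ A.base, m = m' := fun m m' => Over.OverMorphism.ext (by
    rw [← cancel_mono A.base.hom, Over.w, Over.w])
  obtain ⟨a, ha, -⟩ := existsUnique_smul A p (frob k Ω ≫ p) (huniq _ _)
  obtain ⟨g, hg⟩ := LangLib.exists_mul_inv_frobenius_eq hF Ω T.hom (a⁻¹ : T ⟶ G)
  haveI : IsAffine T.left := inferInstanceAs (IsAffine (Spec _))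
  refine exists_rational_of_frob_fixed (L := Ω) (smulPt A.act g⁻¹ p) ?_
  rw [comp_smulPt, ← LangLib.comp_frobenius F hF (frob k Ω) (frob_appTop k Ω), ← ha, ← smulPt_mul,
    LangLib.inv_comp_frobenius F hF]
  congr 1
  have e : a = (g * (g ≫ F)⁻¹)⁻¹ := (inv_inv a).symm.trans (congrArg (·⁻¹) hg.symm)
  rw [e]
  group

end Rational

end Groth.Agent.Stk19b.TorsorPoints
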