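import Groth.Agent.Stk19.AlgSt.FpAlg
import Groth.Agent.Stk19.AlgSt.AlgMisc
import Groth.Agent.Stk19.AlgSt.With
import Groth.Agent.Stk19.AlgSt.LocQ

/-!
# A stack over an algebraic stack with algebraic fibres is algebraic
-/

set_option autoImplicit false
set_option linter.style.haveILetI false
set_option backward.isDefEq.respectTransparency false
set_option backward.isDefEq.respectTransparency.types false

universe u

open CategoryTheory CategoryTheory.Limits AlgebraicGeometry Opposite FibCat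
open Groth.Agent.Stk19 Groth.Agent.Desc19

namespace Groth.Agent.Stk19b

variable {S : Scheme.{u}} {P : MorphismProperty (AlgSp.Sp S)} {𝒳 𝒴 : AlgSt.Cat S}

theorem with_fpSnd {𝒲 : AlgSt.Cat S} {u : 𝒲 ⥤ᵇ 𝒴} (f : 𝒳 ⥤ᵇ 𝒴) (h : AlgSt.RepByAlgSpWith P u) :
    AlgSt.RepByAlgSpWith P (fpSnd u f) :=
  with_equiv_comp (isEquivOver_fpSwap u f) (repByAlgSpWith_fpFst f h)

/-- diagonal of a prestack with algebraic fibres over a stack with representable diagonal -/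
theorem diag_rep_of_fp (h𝒳 : IsFibGrpd 𝒳.p) (h𝒴 : IsFibGrpd 𝒴.p)
    (hΔ : AlgSt.RepByAlgSp1 (FibCat.diag (toSelf 𝒴))) (f : 𝒳 ⥤ᵇ 𝒴)
    (hf : ∀ (U : Over S) (g : overCat U ⥤ᵇ 𝒴), IsFibGrpd (fp g f).p ∧ AlgSt.RepByAlgSp1 (FibCat.diag (toSelf (fp g f)))) :
    AlgSt.RepByAlgSp1 (FibCat.diag (toSelf 𝒳)) := by
  refine (repByAlgSp1_diag_iff h𝒳).2 fun U x => ?_
  let y := BasedFunctor.comp x f
  let σ : overCat U ⥤ᵇ fp y f := fpLift (BasedFunctor.id _) x (Iso.refl _)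
  obtain ⟨hg, hd⟩ := hf U y
  have hσ : AlgSt.RepByAlgSp1 σ := (repByAlgSp1_diag_iff hg).1 hd U σ
  have hy : AlgSt.RepByAlgSp1 y := (repByAlgSp1_diag_iff h𝒴).1 hΔ U y
  have hs : AlgSt.RepByAlgSp1 (fpSnd y f) :=
    repByAlgSp1_of_with (P := ⊤) (with_fpSnd f (repByAlgSp1_iff_with_top.1 hy))
  exact repByAlgSp1_comp (isFibGrpd_overCat U) hg hσ hs

/-- atlas from an atlas downstairs and one of the fibre -/
theorem hasAtlas_of_fp {Q : MorphismProperty Scheme.{u}} (hQ : AlgSpLib.EtLocal Q)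
    (f : 𝒳 ⥤ᵇ 𝒴) (h𝒴 : AlgSt.HasAtlas (AlgSp.LocP Q) 𝒴)
    (hf : ∀ (U : Over S) (g : overCat U ⥤ᵇ 𝒴), IsFibGrpd (fp g f).p ∧ AlgSt.HasAtlas (AlgSp.LocP Q) (fp g f)) :
    AlgSt.HasAtlas (AlgSp.LocP Q) 𝒳 := by
  obtain ⟨U, u, hu, hus⟩ := h𝒴
  obtain ⟨hg, V, v, hv, hvs⟩ := hf U u
  exact ⟨V, BasedFunctor.comp v (fpSnd u f),
    repByAlgSpWith_comp_desc (respSrc_locP hQ) (atlasDescent_locP hQ) (compStable_locP hQ)
      (isFibGrpd_overCat V) hg hv (with_fpSnd f hu),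
    repByAlgSpWith_comp_desc respSrc_surjective atlasDescent_surjective compStable_surjective
      (isFibGrpd_overCat V) hg hvs (with_fpSnd f hus)⟩

end Groth.Agent.Stk19b
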