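import Groth.Agent.AlgSpLib.MorQC
import Groth.Agent.AlgSpLib.EtLocalInst
import Groth.Agent.AlgSpLib.PointsCompact
import Groth.Agent.Stk19.AlgSt.SepSp
import Groth.Agent.Stk19.AlgSt.PointsTop

/-! Quasi-compactness and points of monomorphisms locally of finite presentation to a scheme. -/

set_option autoImplicit false
set_option linter.style.haveILetI false
set_option backward.isDefEq.respectTransparency false
set_option backward.isDefEq.respectTransparency.types false

universe u

open CategoryTheory CategoryTheory.Limits AlgebraicGeometry Opposite AlgSp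
open Groth.Agent.AlgSpLib

namespace Groth.Agent.Stk19b

variable {S : Scheme.{u}} {F : Sp S} {U : Over S}

/-- The point of the base under a point. -/
noncomputable def basePt (a : F ⟶ (yon S).obj U) (z : Points F) : ↥U.left :=
  Points.toScheme U (Points.map a z)

theorem basePt_ofPt (a : F ⟶ (yon S).obj U) {T : Over S} (v : (yon S).obj T ⟶ F) {φ : T ⟶ U}
    (h : v ≫ a = (yon S).map φ) (t : ↥T.left) : basePt a (Points.ofPt v t) = φ.left t := by
  rw [basePt, Points.map_ofPt, h, Points.toScheme_ofPt]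

theorem basePt_injective (a : F ⟶ (yon S).obj U) [Mono a] : Function.Injective (basePt a) :=
  (Points.schemeEquiv U).symm.injective.comp (injective_map_of_mono a)

theorem continuous_basePt (a : F ⟶ (yon S).obj U) : Continuous (basePt a) :=
  (Points.schemeHomeo U).symm.continuous.comp (Points.continuous_map a)

/-- A monomorphism locally of finite presentation has sections over the residue fields of its image. -/
theorem exists_section_residue (hF : IsAlgSpace F) (a : F ⟶ (yon S).obj U) [Mono a]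
    (hl : LocP @LocallyOfFinitePresentation a) (z : Points F) {k : Type u} [Field k]
    {str : Spec (CommRingCat.of k) ⟶ S} (i : Over.mk str ⟶ U)
    (hi : i.left (IsLocalRing.closedPoint k) = basePt a z) :
    ∃ s : (yon S).obj (Over.mk str) ⟶ F, s ≫ a = (yon S).map i := by
  obtain ⟨W, p, hpe, hps⟩ := hF.atlas
  obtain ⟨h, hh⟩ : ∃ h : W ⟶ U, (yon S).map h = p ≫ a := ⟨_, (yon S).map_preimage (p ≫ a)⟩
  have : LocallyOfFinitePresentation h.left :=
    hl p (𝟙 _) h hpe (repWith_id _ _) (by rw [Category.comp_id, hh])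
  obtain ⟨w, rfl⟩ := surjective_ofPt p hps z
  have hw : h.left w = i.left (IsLocalRing.closedPoint k) := by rw [hi, basePt_ofPt a p hh.symm]
  obtain ⟨t, -, -⟩ := Scheme.Pullback.exists_preimage_pullback (f := h.left) (g := i.left) w
    (IsLocalRing.closedPoint k) hw
  let T : Over S := Over.mk str
  let P := pullback h.left i.left
  let q : P ⟶ T.left := pullback.snd h.left i.left
  haveI : Subsingleton ↥T.left := inferInstanceAs (Subsingleton ↥(Spec (CommRingCat.of k)))
  haveI : IsIntegral T.left := inferInstanceAs (IsIntegral (Spec (CommRingCat.of k)))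
  haveI : Surjective q := ⟨fun x => ⟨t, Subsingleton.elim _ _⟩⟩
  let W₀ : Over S := Over.mk (q ≫ str)
  let c : W₀ ⟶ T := Over.homMk q rfl
  let l : W₀ ⟶ W := Over.homMk (pullback.fst h.left i.left) (by
    show pullback.fst h.left i.left ≫ W.hom = q ≫ str
    rw [← Over.w h, pullback.condition_assoc, Over.w i]; rfl)
  have hcl : c ≫ i = l ≫ h := Over.OverMorphism.ext pullback.condition.symm
  have hc : Sieve.generate (Presieve.singleton c) ∈ J S T := by
    rw [GrothendieckTopology.mem_over_iff]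
    refine Scheme.fppfPrecoverage.toGrothendieck.superset_covering ?_
      (Precoverage.generate_mem_toGrothendieck
        ((Scheme.singleton_mem_precoverage_iff _ q).2 ⟨q.surjective, ⟨inferInstance, inferInstance⟩⟩))
    rw [Sieve.generate_le_iff]
    rintro S' g ⟨⟩
    exact (Sieve.overEquiv_iff _ _).2 ⟨_, 𝟙 _, c, ⟨⟩, Category.id_comp _⟩
  have hsep : ∀ (N : Sp S), Presieve.IsSheafFor N.obj (Presieve.singleton c) := fun N =>
    (Presieve.isSheafFor_iff_generate _).2 ((isSheaf_iff_isSheaf_of_type _ _).1 N.property _ hc)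
  let x : F.obj.obj (op W₀) := p.hom.app (op W₀) ⟨l⟩
  have hpa : ∀ {Z : Over S} (r : Z ⟶ W), a.hom.app (op Z) (p.hom.app (op Z) ⟨r⟩) = (⟨r ≫ h⟩ : ULift (Z ⟶ U)) :=
    fun {Z} r => (congrArg (fun g : (yon S).obj W ⟶ (yon S).obj U => g.hom.app (op Z) ⟨r⟩) hh).symm
  obtain ⟨y, hy, -⟩ := Presieve.isSheafFor_singleton.1 (hsep F) x fun {Z} p₁ p₂ e => by
    apply (J S).uliftYonedaEquiv.{u + 1}.symm.injective
    rw [← cancel_mono a, GrothendieckTopology.uliftYonedaEquiv_symm_naturality_right.{u + 1},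
      GrothendieckTopology.uliftYonedaEquiv_symm_naturality_right.{u + 1}]
    congr 1
    simp only [x, ← NatTrans.naturality_apply]
    refine (hpa (p₁ ≫ l)).trans (Eq.trans ?_ (hpa (p₂ ≫ l)).symm)
    rw [Category.assoc, Category.assoc, ← hcl, reassoc_of% e]
  refine ⟨(J S).uliftYonedaEquiv.{u + 1}.symm y, ?_⟩
  rw [GrothendieckTopology.uliftYonedaEquiv_symm_naturality_right.{u + 1}, Equiv.symm_apply_eq,
    GrothendieckTopology.uliftYonedaEquiv_uliftYoneda_map]
  obtain ⟨y₀, hy₀, hu⟩ := Presieve.isSheafFor_singleton.1 (hsep ((yon S).obj U)) (⟨c ≫ i⟩ : ULift (W₀ ⟶ U))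
    fun {Z} p₁ p₂ e => congrArg ULift.up (show p₁ ≫ c ≫ i = p₂ ≫ c ≫ i by rw [reassoc_of% e])
  refine (hu _ ?_).trans (hu (⟨i⟩ : ULift (T ⟶ U)) rfl).symm
  show ((yon S).obj U).obj.map c.op (a.hom.app (op T) y) = _
  rw [← NatTrans.naturality_apply, hy]
  exact (hpa l).trans (congrArg ULift.up hcl.symm)

/-- A map to a quasi-separated scheme is quasi-compact when inverse images of affine opens are compact. -/
theorem isQuasiCompactMor_of_preimages (hF : IsAlgSpace F) (a : F ⟶ (yon S).obj U)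
    [QuasiSeparatedSpace ↥U.left]
    (h : ∀ O : U.left.affineOpens, IsCompact (basePt a ⁻¹' (O.1 : Set ↥U.left))) :
    IsQuasiCompactMor a := by
  refine isQuasiCompactMor_of_affine hF (IsAlgSpace.yon_obj U) fun Z hZ g P fst snd sq => ?_
  obtain ⟨W, p, hpe, hps⟩ := hF.atlas
  have := hZ
  let γ : Z ⟶ U := (yon S).preimage g
  have hγ : (yon S).map γ = g := (yon S).map_preimage g
  obtain ⟨σ, hσ⟩ := (isCompact_range γ.left.continuous).elim_finite_subcover
    (fun O : U.left.affineOpens => (O.1 : Set ↥U.left)) (fun O => O.1.2) (fun x _ => by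
      obtain ⟨_, ⟨V, hV, rfl⟩, hx, -⟩ :=
        U.left.isBasis_affineOpens.exists_subset_of_mem_open (Set.mem_univ x) isOpen_univ
      exact Set.mem_iUnion.2 ⟨⟨V, hV⟩, hx⟩)
  obtain ⟨τ, hτ⟩ := (σ.finite_toSet.isCompact_biUnion fun O _ => h O).elim_finite_subcover
    (fun V : W.left.affineOpens => Points.ofPt p '' (V.1 : Set ↥W.left))
    (fun V => isOpenMap_ofPt p hpe _ V.1.2) (fun z _ => by
      obtain ⟨w, rfl⟩ := surjective_ofPt p hps z
      obtain ⟨_, ⟨V, hV, rfl⟩, hx, -⟩ :=
        W.left.isBasis_affineOpens.exists_subset_of_mem_open (Set.mem_univ w) isOpen_univ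
      exact Set.mem_iUnion.2 ⟨⟨V, hV⟩, w, hx, rfl⟩)
  let V : W.left.Opens := ⨆ O : τ, O.1.1
  have hV : IsCompact (V : Set ↥W.left) := by
    simpa [V] using isCompact_iUnion fun O : τ => O.1.2.isCompact
  let W' : Over S := Over.mk (V.ι ≫ W.hom)
  let j : W' ⟶ W := Over.homMk V.ι
  haveI : CompactSpace ↥W'.left := isCompact_iff_compactSpace.1 hV
  let k : W' ⟶ U := (yon S).preimage ((yon S).map j ≫ p ≫ a)
  have hk : (yon S).map k = ((yon S).map j ≫ p) ≫ a := by rw [Functor.map_preimage, Category.assoc]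
  haveI : QuasiCompact k.left := quasiCompact_of_compactSpace k.left
  have hqc : IsQuasiCompactMor ((yon S).map k) :=
    Stk19.isQuasiCompactMor_of_repWith ((repWith_yon_map_iff @QuasiCompact k).2 this)
  have sq' := IsPullback.of_hasPullback ((yon S).map j ≫ p) fst
  haveI : CompactSpace ↥Z.left := inferInstance
  have := compactSpace_of_isQuasiCompactMor hqc (hk.symm ▸ sq'.paste_vert sq)
  refine ⟨?_⟩
  have hs : Function.Surjective (Points.map (pullback.snd ((yon S).map j ≫ p) fst)) := fun z => by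
    have hb : basePt a (Points.map fst z) ∈ Set.range γ.left := by
      refine ⟨Points.toScheme Z (Points.map snd z), ?_⟩
      rw [basePt, ← Points.map_comp, sq.w, Points.map_comp, ← hγ]
      generalize Points.map snd z = q
      rw [← Points.ofScheme_toScheme Z q, map_yon_map_ofScheme, Points.toScheme_ofScheme,
        Points.toScheme_ofScheme]
    obtain ⟨O, hO, hxO⟩ := Set.mem_iUnion₂.1 (hσ hb)
    obtain ⟨O', hO', w, hw, hwz⟩ := Set.mem_iUnion₂.1 (hτ (Set.mem_biUnion hO hxO))
    let w' : ↥W'.left := ⟨w, (le_iSup (fun O : τ => O.1.1) ⟨O', hO'⟩) hw⟩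
    have hw' : Points.map ((yon S).map j ≫ p) (Points.ofScheme W' w') = Points.map fst z := by
      rw [← Points.ofPt_eq_map_ofScheme, ofPt_map, ← hwz]
      rfl
    obtain ⟨q, -, hq⟩ := exists_point_of_isPullback sq' hw'
    exact ⟨q, hq⟩
  exact hs.range_eq ▸ isCompact_range (Points.continuous_map _)

/-- Noetherian induction: compactness of preimages for a monomorphism with liftable dense loci. -/
theorem isCompact_preimage_of_mono (a : F ⟶ (yon S).obj U) [Mono a] [IsLocallyNoetherian U.left]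
    (hlift : ∀ (A : Type u) [CommRing A] [IsDomain A] (sA : Spec (CommRingCat.of A) ⟶ S)
      (c : Over.mk sA ⟶ U), Dense (c.left ⁻¹' Set.range (basePt a)) →
        ∃ (V : (Spec (CommRingCat.of A)).Opens), (V : Set ↥(Spec (CommRingCat.of A))).Nonempty ∧
          ∃ v : (yon S).obj (Over.mk (V.ι ≫ sA)) ⟶ F,
            v ≫ a = (yon S).map ((Over.homMk V.ι rfl : Over.mk (V.ι ≫ sA) ⟶ Over.mk sA) ≫ c))
    (O : U.left.affineOpens) : IsCompact (basePt a ⁻¹' (O.1 : Set ↥U.left)) := by
  let R := Γ(U.left, O.1)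
  haveI : IsNoetherianRing R := IsLocallyNoetherian.component_noetherian O
  let ι : Spec R ⟶ U.left := O.2.fromSpec
  have hrange : Set.range ι = (O.1 : Set ↥U.left) := O.2.range_fromSpec
  let T : Ideal R → Set (Points F) := fun I => basePt a ⁻¹' (ι '' PrimeSpectrum.zeroLocus (I : Set R))
  suffices ∀ I, IsCompact (T I) by
    have h0 := this ⊥
    simp only [T] at h0
    rw [Submodule.bot_coe, PrimeSpectrum.zeroLocus_singleton_zero, Set.image_univ, hrange] at h0
    exact h0
  intro I
  induction I using WellFoundedGT.induction with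
  | ind I IH =>
  by_cases hI : I = ⊤
  · simp [T, hI, PrimeSpectrum.zeroLocus_univ]
  by_cases hp : I.IsPrime
  swap
  · obtain ⟨x, y, hxy, hx, hy⟩ : ∃ x y : R, x * y ∈ I ∧ x ∉ I ∧ y ∉ I := by
      simpa [Ideal.isPrime_iff, hI, not_or] using hp
    have hlt : ∀ x ∉ I, I < I ⊔ Ideal.span {x} := fun x hx =>
      lt_of_le_of_ne le_sup_left fun e => hx (e ▸ Ideal.mem_sup_right (Ideal.mem_span_singleton_self x))
    have e : T I = T (I ⊔ Ideal.span {x}) ∪ T (I ⊔ Ideal.span {y}) := by
      simp only [T, ← Set.preimage_union, ← Set.image_union]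
      congr 2
      ext P
      simp only [PrimeSpectrum.mem_zeroLocus, Set.mem_union, SetLike.coe_subset_coe, sup_le_iff,
        Ideal.span_singleton_le_iff_mem]
      exact ⟨fun h => (P.isPrime.mem_or_mem (h hxy)).imp (fun k => ⟨h, k⟩) fun k => ⟨h, k⟩,
        fun h => h.elim And.left And.left⟩
    rw [e]
    exact (IH _ (hlt x hx)).union (IH _ (hlt y hy))
  have := hp
  let A : Type u := R ⧸ I
  let π : Spec (CommRingCat.of A) ⟶ Spec R := Spec.map (CommRingCat.ofHom (Ideal.Quotient.mk I))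
  let sA : Spec (CommRingCat.of A) ⟶ S := π ≫ ι ≫ U.hom
  let c : Over.mk sA ⟶ U := Over.homMk (π ≫ ι) (Category.assoc _ _ _)
  have hπ : Set.range π = PrimeSpectrum.zeroLocus (I : Set R) := by
    show Set.range (PrimeSpectrum.comap (Ideal.Quotient.mk I)) = _
    rw [range_comap_of_surjective _ _ Ideal.Quotient.mk_surjective, Ideal.mk_ker]
  have key : ∀ f : R, f ∉ I → ∀ z, z ∈ T I → z ∉ T (I ⊔ Ideal.span {f}) →
      ∃ P : ↥(Spec (CommRingCat.of A)), c.left P = basePt a z ∧
        Ideal.Quotient.mk I f ∉ (P : PrimeSpectrum A).asIdeal := by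
    rintro f - z ⟨Q, hQ, hQz⟩ hn
    obtain ⟨P, rfl⟩ := hπ.ge hQ
    refine ⟨P, hQz, fun hf => hn ⟨_, ?_, hQz⟩⟩
    rw [PrimeSpectrum.mem_zeroLocus, SetLike.coe_subset_coe, sup_le_iff, Ideal.span_singleton_le_iff_mem]
    exact ⟨hQ, hf⟩
  have hlt : ∀ f ∉ I, I < I ⊔ Ideal.span {f} := fun x hx =>
    lt_of_le_of_ne le_sup_left fun e => hx (e ▸ Ideal.mem_sup_right (Ideal.mem_span_singleton_self x))
  have mono : ∀ f : R, T (I ⊔ Ideal.span {f}) ⊆ T I := fun f =>
    Set.preimage_mono (Set.image_mono (PrimeSpectrum.zeroLocus_anti_mono (SetLike.coe_subset_coe.2 le_sup_left)))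
  have basic : ∀ V : Set ↥(Spec (CommRingCat.of A)), IsOpen V → V.Nonempty →
      ∃ f : R, f ∉ I ∧ (PrimeSpectrum.basicOpen (Ideal.Quotient.mk I f) : Set (PrimeSpectrum A)) ⊆ V := by
    rintro V hV ⟨P, hP⟩
    obtain ⟨_, ⟨g, rfl⟩, hg, hgV⟩ :=
      PrimeSpectrum.isTopologicalBasis_basic_opens.exists_subset_of_mem_open hP hV
    obtain ⟨f, rfl⟩ := Ideal.Quotient.mk_surjective g
    refine ⟨f, fun hf => hg ?_, hgV⟩
    rw [Ideal.Quotient.eq_zero_iff_mem.2 hf]
    exact Submodule.zero_mem _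
  by_cases hD : Dense (c.left ⁻¹' Set.range (basePt a))
  · obtain ⟨V, hV, v, hv⟩ := hlift A sA c hD
    obtain ⟨f, hf, hfV⟩ := basic V V.2 hV
    let B : Set ↥(V : Scheme.{u}) := V.ι ⁻¹' (PrimeSpectrum.basicOpen (Ideal.Quotient.mk I f) : Set (PrimeSpectrum A))
    have hB : IsCompact B := V.ι.isOpenEmbedding.isInducing.isCompact_preimage'
      (PrimeSpectrum.isCompact_basicOpen _) (fun P hP => ⟨⟨P, hfV hP⟩, rfl⟩)
    have hR := hB.image (Points.continuous_ofPt v)
    have e : T I = T (I ⊔ Ideal.span {f}) ∪ Points.ofPt v '' B := by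
      refine Set.Subset.antisymm (fun z hz => ?_) (Set.union_subset (mono f) ?_)
      · by_cases hz' : z ∈ T (I ⊔ Ideal.span {f})
        · exact Or.inl hz'
        obtain ⟨P, hP, hPf⟩ := key f hf z hz hz'
        exact Or.inr ⟨⟨P, hfV hPf⟩, hPf, basePt_injective a ((basePt_ofPt a v hv _).trans hP)⟩
      · rintro _ ⟨P, -, rfl⟩
        exact ⟨π P.1, hπ.le ⟨P.1, rfl⟩, (basePt_ofPt a v hv P).symm⟩
    rw [e]
    exact (IH _ (hlt f hf)).union hR
  · obtain ⟨f, hf, hfD⟩ := basic _ isClosed_closure.isOpen_compl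
      (Set.nonempty_compl.2 fun e => hD (dense_iff_closure_eq.2 e))
    have e : T I = T (I ⊔ Ideal.span {f}) := by
      refine Set.Subset.antisymm (fun z hz => ?_) (mono f)
      by_contra hz'
      obtain ⟨P, hP, hPf⟩ := key f hf z hz hz'
      exact hfD hPf (subset_closure ⟨z, hP.symm⟩)
    exact e ▸ IH _ (hlt f hf)

end Groth.Agent.Stk19b
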