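import Groth.Agent.Stk19b.MonoPoints

/-! Noetherian induction: compactness of inverse images of affine opens from generic compactness. -/

set_option autoImplicit false
set_option linter.style.haveILetI false
set_option backward.isDefEq.respectTransparency false
set_option backward.isDefEq.respectTransparency.types false

universe u

open CategoryTheory CategoryTheory.Limits AlgebraicGeometry Opposite AlgSp
open Groth.Agent.AlgSpLib

namespace Groth.Agent.Stk19b

variable {S : Scheme.{u}} {F : Sp S} {U : Over S}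

/-- Noetherian induction: the inverse image of an affine open is compact when, over every integral closed
subscheme in whose image the points are dense, it is compact over a basic open. -/
theorem isCompact_preimage_of_dense (a : F ⟶ (yon S).obj U) [IsLocallyNoetherian U.left]
    (hlift : ∀ (A : Type u) [CommRing A] [IsDomain A] (sA : Spec (CommRingCat.of A) ⟶ S)
      (c : Over.mk sA ⟶ U), Dense (c.left ⁻¹' Set.range (basePt a)) →
        ∃ f : A, f ≠ 0 ∧ IsCompact (basePt a ⁻¹' (c.left ''
          (PrimeSpectrum.basicOpen f : Set (PrimeSpectrum A)))))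
    (O : U.left.affineOpens) : IsCompact (basePt a ⁻¹' (O.1 : Set ↥U.left)) := by
  let R := Γ(U.left, O.1)
  haveI : IsNoetherianRing R := IsLocallyNoetherian.component_noetherian O
  let ι : Spec R ⟶ U.left := O.2.fromSpec
  have hrange : Set.range ι = (O.1 : Set ↥U.left) := O.2.range_fromSpec
  let T : Ideal R → Set (Points F) := fun I => basePt a ⁻¹' (ι '' PrimeSpectrum.zeroLocus (I : Set R))
  suffices ∀ I, IsCompact (T I) by
    have h0 := this ⊥
    simp only [T] at h0
    rw [Submodule.bot_coe, PrimeSpectrum.zeroLocus_singleton_zero, Set.image_univ, hrange] at h0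
    exact h0
  intro I
  induction I using WellFoundedGT.induction with
  | ind I IH =>
  by_cases hI : I = ⊤
  · simp [T, hI, PrimeSpectrum.zeroLocus_univ]
  by_cases hp : I.IsPrime
  swap
  · obtain ⟨x, y, hxy, hx, hy⟩ : ∃ x y : R, x * y ∈ I ∧ x ∉ I ∧ y ∉ I := by
      simpa [Ideal.isPrime_iff, hI, not_or] using hp
    have hlt : ∀ x ∉ I, I < I ⊔ Ideal.span {x} := fun x hx =>
      lt_of_le_of_ne le_sup_left fun e => hx (e ▸ Ideal.mem_sup_right (Ideal.mem_span_singleton_self x))
    have e : T I = T (I ⊔ Ideal.span {x}) ∪ T (I ⊔ Ideal.span {y}) := by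
      simp only [T, ← Set.preimage_union, ← Set.image_union]
      congr 2
      ext P
      simp only [PrimeSpectrum.mem_zeroLocus, Set.mem_union, SetLike.coe_subset_coe, sup_le_iff,
        Ideal.span_singleton_le_iff_mem]
      exact ⟨fun h => (P.isPrime.mem_or_mem (h hxy)).imp (fun k => ⟨h, k⟩) fun k => ⟨h, k⟩,
        fun h => h.elim And.left And.left⟩
    rw [e]
    exact (IH _ (hlt x hx)).union (IH _ (hlt y hy))
  have := hp
  let A : Type u := R ⧸ I
  let π : Spec (CommRingCat.of A) ⟶ Spec R := Spec.map (CommRingCat.ofHom (Ideal.Quotient.mk I))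
  let sA : Spec (CommRingCat.of A) ⟶ S := π ≫ ι ≫ U.hom
  let c : Over.mk sA ⟶ U := Over.homMk (π ≫ ι) (Category.assoc _ _ _)
  have hπ : Set.range π = PrimeSpectrum.zeroLocus (I : Set R) := by
    show Set.range (PrimeSpectrum.comap (Ideal.Quotient.mk I)) = _
    rw [range_comap_of_surjective _ _ Ideal.Quotient.mk_surjective, Ideal.mk_ker]
  have key : ∀ f : R, f ∉ I → ∀ z, z ∈ T I → z ∉ T (I ⊔ Ideal.span {f}) →
      ∃ P : ↥(Spec (CommRingCat.of A)), c.left P = basePt a z ∧
        Ideal.Quotient.mk I f ∉ (P : PrimeSpectrum A).asIdeal := by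
    rintro f - z ⟨Q, hQ, hQz⟩ hn
    obtain ⟨P, rfl⟩ := hπ.ge hQ
    refine ⟨P, hQz, fun hf => hn ⟨_, ?_, hQz⟩⟩
    rw [PrimeSpectrum.mem_zeroLocus, SetLike.coe_subset_coe, sup_le_iff, Ideal.span_singleton_le_iff_mem]
    exact ⟨hQ, hf⟩
  have hlt : ∀ f ∉ I, I < I ⊔ Ideal.span {f} := fun x hx =>
    lt_of_le_of_ne le_sup_left fun e => hx (e ▸ Ideal.mem_sup_right (Ideal.mem_span_singleton_self x))
  have mono : ∀ f : R, T (I ⊔ Ideal.span {f}) ⊆ T I := fun f =>
    Set.preimage_mono (Set.image_mono (PrimeSpectrum.zeroLocus_anti_mono (SetLike.coe_subset_coe.2 le_sup_left)))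
  have basic : ∀ V : Set ↥(Spec (CommRingCat.of A)), IsOpen V → V.Nonempty →
      ∃ f : R, f ∉ I ∧ (PrimeSpectrum.basicOpen (Ideal.Quotient.mk I f) : Set (PrimeSpectrum A)) ⊆ V := by
    rintro V hV ⟨P, hP⟩
    obtain ⟨_, ⟨g, rfl⟩, hg, hgV⟩ :=
      PrimeSpectrum.isTopologicalBasis_basic_opens.exists_subset_of_mem_open hP hV
    obtain ⟨f, rfl⟩ := Ideal.Quotient.mk_surjective g
    refine ⟨f, fun hf => hg ?_, hgV⟩
    rw [Ideal.Quotient.eq_zero_iff_mem.2 hf]
    exact Submodule.zero_mem _
  by_cases hD : Dense (c.left ⁻¹' Set.range (basePt a))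
  · obtain ⟨g, hg, hK⟩ := hlift A sA c hD
    obtain ⟨f, rfl⟩ := Ideal.Quotient.mk_surjective g
    have hf : f ∉ I := fun hf => hg (Ideal.Quotient.eq_zero_iff_mem.2 hf)
    let B := basePt a ⁻¹' (c.left '' (PrimeSpectrum.basicOpen (Ideal.Quotient.mk I f) : Set (PrimeSpectrum A)))
    have e : T I = T (I ⊔ Ideal.span {f}) ∪ B := by
      refine Set.Subset.antisymm (fun z hz => ?_) (Set.union_subset (mono f) ?_)
      · by_cases hz' : z ∈ T (I ⊔ Ideal.span {f})
        · exact Or.inl hz'
        obtain ⟨P, hP, hPf⟩ := key f hf z hz hz'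
        exact Or.inr ⟨P, hPf, hP⟩
      · rintro z ⟨P, -, hP⟩
        exact ⟨π P, hπ.le ⟨P, rfl⟩, hP⟩
    rw [e]
    exact (IH _ (hlt f hf)).union hK
  · obtain ⟨f, hf, hfD⟩ := basic _ isClosed_closure.isOpen_compl
      (Set.nonempty_compl.2 fun e => hD (dense_iff_closure_eq.2 e))
    have e : T I = T (I ⊔ Ideal.span {f}) := by
      refine Set.Subset.antisymm (fun z hz => ?_) (mono f)
      by_contra hz'
      obtain ⟨P, hP, hPf⟩ := key f hf z hz hz'
      exact hfD hPf (subset_closure ⟨z, hP.symm⟩)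
    exact e ▸ IH _ (hlt f hf)

end Groth.Agent.Stk19b
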