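import Groth.Agent.Stk19.AlgSt.FpAlg
import Groth.Agent.Stk19.RepDiag
import Groth.Prelude.Def_AlgSt5

/-! Products over the base of categories of schemes. -/

set_option autoImplicit false
set_option linter.style.haveILetI false
set_option backward.isDefEq.respectTransparency false
set_option backward.isDefEq.respectTransparency.types false

universe v₄ u₄ v₃ u₃ v₂ u₂ v u

open CategoryTheory CategoryTheory.Limits AlgebraicGeometry FibCat MonoidalCategory CartesianMonoidalCategory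
open Groth.Agent.Stk19

namespace Groth.Agent.Stk19b

section

variable {C : Type u} [Category.{v} C] {𝒳 : BasedCategory.{v₂, u₂} C} {𝒴 : BasedCategory.{v₃, u₃} C}
  {𝒯 : BasedCategory.{v₄, u₄} C}

/-- Functors into a product over the base are determined by their projections. -/
theorem nonempty_iso_prod {H K : 𝒯 ⥤ᵇ fp (toSelf 𝒳) (toSelf 𝒴)}
    (i₁ : BasedFunctor.comp H (fpFst _ _) ≅ BasedFunctor.comp K (fpFst _ _))
    (i₂ : BasedFunctor.comp H (fpSnd _ _) ≅ BasedFunctor.comp K (fpSnd _ _)) : Nonempty (H ≅ K) := by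
  refine ⟨isoMk (fun a => prodIso (appIso i₁ a) (appIso i₂ a) ?_) (fun a => ?_) fun φ =>
    fp_hom_ext (i₁.hom.toNatTrans.naturality φ) (i₂.hom.toNatTrans.naturality φ)⟩
  · show 𝒴.p.map (i₂.hom.toNatTrans.app a) = _ ≫ 𝒳.p.map (i₁.hom.toNatTrans.app a) ≫ _
    rw [based_app_map, based_app_map]
    simp
  · exact fpIsoMk_vert _ _ _ (based_app_vert i₁.hom a)

end

variable {S : Scheme.{u}}

theorem exists_prod_equiv (X Y : Over S) :
    ∃ E : AlgSt.ofSch (X ⊗ Y) ⥤ᵇ fp (toSelf (AlgSt.ofSch X)) (toSelf (AlgSt.ofSch Y)), IsEquivOver E ∧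
      BasedFunctor.comp E (fpFst _ _) = AlgSt.ofSpMap ((AlgSp.yon S).map (fst X Y)) ∧
      BasedFunctor.comp E (fpSnd _ _) = AlgSt.ofSpMap ((AlgSp.yon S).map (snd X Y)) := by
  let a := (AlgSp.yon S).map (toUnit X)
  let b := (AlgSp.yon S).map (toUnit Y)
  obtain ⟨E₀, hE₀, h₁, h₂⟩ := exists_fp_equiv ((AlgSt.isPullback_fst_snd X Y).map (AlgSp.yon S))
  let c := toSelf (AlgSt.ofSch (𝟙_ (Over S)))
  have hc : IsEquivOver c := by
    have h := isEquivOver_comp (isEquivOver_toOverCat (𝟙_ (Over S)))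
      (isEquivOver_toSelf_terminal (S := S))
    exact h
  haveI := (EqvData.of_isEquivOver hc).full
  haveI := (EqvData.of_isEquivOver hc).faithful
  let M : fp (AlgSt.ofSpMap a) (AlgSt.ofSpMap b) ⥤ᵇ fp (toSelf (AlgSt.ofSch X)) (toSelf (AlgSt.ofSch Y)) :=
    fpMap (F := AlgSt.ofSpMap a) (G := AlgSt.ofSpMap b) (F' := toSelf (AlgSt.ofSch X)) (G' := toSelf (AlgSt.ofSch Y))
      (BasedFunctor.id _) (BasedFunctor.id _) c (Iso.refl _) (Iso.refl _)
  refine ⟨BasedFunctor.comp E₀ M, isEquivOver_comp hE₀ (isEquivOver_fpMap _ _ _ _ _ (isEquivOver_id _) (isEquivOver_id _)), ?_, ?_⟩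
  · show BasedFunctor.comp E₀ (BasedFunctor.comp M (fpFst _ _)) = _
    rw [fpMap_fst]
    exact h₁
  · show BasedFunctor.comp E₀ (BasedFunctor.comp M (fpSnd _ _)) = _
    rw [fpMap_snd]
    exact h₂

end Groth.Agent.Stk19b
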