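import Groth.Agent.Stk19b.DMFaithful
import Groth.Agent.Stk19.AlgSt.PointsTop
import Groth.Agent.Stk19.AlgSt.Mono

/-! A 2-endomorphism into a stack with separated unramified diagonal which is trivial over a dense set is trivial. -/

set_option autoImplicit false
set_option linter.style.haveILetI false
set_option backward.isDefEq.respectTransparency false
set_option backward.isDefEq.respectTransparency.types false

universe u

open CategoryTheory CategoryTheory.Limits AlgebraicGeometry Opposite FibCat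
open Groth.Agent.Stk19 Groth.Agent.Desc19

namespace Groth.Agent.Stk19b

variable {S : Scheme.{u}}

/-- Sections agree when they do on a dense set and the diagonal is an open and closed immersion. -/
theorem eq_of_clopen_diag {G : AlgSp.Sp S} {T : Over S} {q : G ⟶ (AlgSp.yon S).obj T}
    (hd : AlgSp.RepWith @IsOpenImmersion (pullback.diagonal q))
    (hc : AlgSp.RepWith @IsClosedImmersion (pullback.diagonal q))
    (s e : (AlgSp.yon S).obj T ⟶ G) (hs : s ≫ q = 𝟙 _) (he : e ≫ q = 𝟙 _) {D : Set ↥T.left} (hD : Dense D)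
    (h : ∀ y ∈ D, ∃ (T' : Over S) (t : T' ⟶ T),
      y ∈ Set.range t.left ∧ (AlgSp.yon S).map t ≫ s = (AlgSp.yon S).map t ≫ e) : s = e := by
  let ξ : (AlgSp.yon S).obj T ⟶ pullback.diagonalObj q := pullback.lift s e (hs.trans he.symm)
  have sqE := hd.1.isPullback ξ
  have hcl : IsClosedImmersion (hd.1.snd ξ).left := hc.2 _ _ _ sqE
  have hsub : D ⊆ Set.range (hd.1.snd ξ).left := fun y hy => by
    obtain ⟨T', t, ⟨z, rfl⟩, est⟩ := h y hy
    obtain ⟨l, hl'⟩ := (AlgSp.yon S).map_surjective (sqE.lift ((AlgSp.yon S).map t ≫ s) ((AlgSp.yon S).map t) (by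
      apply pullback.hom_ext
      · simp only [ξ, Category.assoc, pullback.diagonal_fst, Category.comp_id]
        erw [pullback.lift_fst]
      · simp only [ξ, Category.assoc, pullback.diagonal_snd, Category.comp_id]
        erw [pullback.lift_snd]
        exact est))
    refine ⟨l.left z, ?_⟩
    have : l ≫ hd.1.snd ξ = t := (AlgSp.yon S).map_injective (by rw [Functor.map_comp, hl', sqE.lift_snd])
    rw [← Scheme.Hom.comp_apply, ← Over.comp_left, this]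
  have huniv : Set.range (hd.1.snd ξ).left = Set.univ := by
    have := (hD.mono hsub).closure_eq
    rwa [hcl.isClosedEmbedding.isClosed_range.closure_eq] at this
  refine eq_of_open_diag hd s e hs he fun y => ⟨_, hd.1.snd ξ, huniv.symm ▸ Set.mem_univ y, ?_⟩
  have h1 := congrArg (· ≫ pullback.fst q q) sqE.w
  have h2 := congrArg (· ≫ pullback.snd q q) sqE.w
  simp only [Category.assoc, ξ, pullback.lift_fst, pullback.lift_snd, pullback.diagonal_fst,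
    pullback.diagonal_snd, Category.comp_id] at h1 h2
  exact h1.symm.trans h2

variable {𝒳 𝒴 : AlgSt.Cat S} {F : 𝒳 ⥤ᵇ 𝒴}

theorem endTrans_app_of_hom (h𝒴 : IsFibGrpd 𝒴.p) (α : F ⟶ F) {r a : 𝒳.obj} (φ : r ⟶ a)
    (h : α.toNatTrans.app a = 𝟙 _) : α.toNatTrans.app r = 𝟙 _ := by
  refine fibGrpd_ext h𝒴 (F.map φ) ?_ ?_
  · rw [based_app_map α r, 𝒴.p.map_id]
    simp
  · rw [← α.toNatTrans.naturality φ, h, Category.id_comp]
    exact Category.comp_id _

/-- A 2-endomorphism trivial over a dense set of points of the base of an object is trivial at that object. -/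
theorem endTrans_app_eq_id (h𝒴 : IsFibGrpd 𝒴.p) (hu : AlgSt.IsDMOver 𝒴)
    (hs : AlgSt.RepByAlgSpWith AlgSp.IsSeparatedMor (FibCat.diag (toSelf 𝒴))) (α : F ⟶ F) (a : 𝒳.obj)
    (hD : Dense {p : ↥(𝒳.p.obj a).left |
      ∃ (r : 𝒳.obj) (φ : r ⟶ a), α.toNatTrans.app r = 𝟙 _ ∧ p ∈ Set.range (𝒳.p.map φ).left}) :
    α.toNatTrans.app a = 𝟙 _ := by
  let T := 𝒳.p.obj a
  let b := F.obj a
  have hb : 𝒴.p.obj b = T := F.w_obj a
  obtain ⟨y, i, hi⟩ := exists_classifying (U := T) h𝒴 b hb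
  let top : (overCat T).obj := Over.mk (𝟙 T)
  let q := inertiaToBase (toSelf 𝒴)
  have hmap : 𝒴.p.map (α.toNatTrans.app a) = 𝟙 _ := by
    rw [based_app_map α a]
    simp [b]
  haveI : IsIso (α.toNatTrans.app a) := by
    have : IsIso (𝒴.p.map (α.toNatTrans.app a)) := by rw [hmap]; infer_instance
    exact fibGrpd_isIso h𝒴 _
  obtain ⟨G, e, he, hG⟩ := inertia_with_of_diag
    (repByAlgSpWith_and (respSrc_locP AlgSpLib.etLocal_unramified) hs hu) T y
  have hfull := (EqvData.of_isEquivOver he).full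
  let z₁ : (fp y q).obj := fpMk top (⟨b, asIso (α.toNatTrans.app a), hmap⟩ : InertiaObj (toSelf 𝒴)) i hi
  let z₂ : (fp y q).obj := fpMk top (⟨b, Iso.refl b, 𝒴.p.map_id b⟩ : InertiaObj (toSelf 𝒴)) i hi
  obtain ⟨s₁, hs₁, ⟨η₁⟩⟩ := exists_sec e he z₁
  obtain ⟨s₂, hs₂, ⟨η₂⟩⟩ := exists_sec e he z₂
  have hs₁' := hs₁.trans ((AlgSp.yon S).map_id T)
  have hs₂' := hs₂.trans ((AlgSp.yon S).map_id T)
  have hsec : s₁ = s₂ := by
    refine eq_of_clopen_diag (diag_of_locP_unram (V := G) (Z := ⟨_, AlgSp.IsAlgSpace.yon_obj T⟩) _ hG.2) hG.1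
      s₁ s₂ hs₁' hs₂' hD fun p ⟨r, φ, hr, hp⟩ => ?_
    let t : 𝒳.p.obj r ⟶ T := 𝒳.p.map φ
    refine ⟨_, t, hp, ?_⟩
    have hγ : ∀ γ : (AlgSp.yon S).obj T ⟶ G.obj,
        γ ≫ AlgSt.spMapOfOver (BasedFunctor.comp e (fpFst y q)) = 𝟙 _ →
        ((AlgSp.yon S).map t ≫ γ) ≫ AlgSt.spMapOfOver (BasedFunctor.comp e (fpFst y q)) = (AlgSp.yon S).map t :=
      fun γ h => by rw [Category.assoc, h, Category.comp_id]
    have triv : ∀ (γ : (AlgSp.yon S).obj T ⟶ G.obj)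
        (_ : γ ≫ AlgSt.spMapOfOver (BasedFunctor.comp e (fpFst y q)) = 𝟙 _) (ψ : b ≅ b) (hψ : 𝒴.p.map ψ.hom = 𝟙 _)
        (η : e.obj ⟨T, GrothendieckTopology.uliftYonedaEquiv.{u + 1} (AlgSp.J S) γ⟩ ≅
          fpMk top (⟨b, ψ, hψ⟩ : InertiaObj (toSelf 𝒴)) i hi),
        F.map φ ≫ ψ.hom = F.map φ →
        (e.obj ⟨_, GrothendieckTopology.uliftYonedaEquiv.{u + 1} (AlgSp.J S) ((AlgSp.yon S).map t ≫ γ)⟩).obj.snd.aut.hom =
          𝟙 _ := by
      intro γ hγ₀ ψ hψ η hfix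
      let u := e.obj ⟨_, GrothendieckTopology.uliftYonedaEquiv.{u + 1} (AlgSp.J S) ((AlgSp.yon S).map t ≫ γ)⟩
      let M := e.map (yonedaElt t γ) ≫ η.hom
      let w : u.obj.snd.pt ⟶ b := M.hom.snd.hom
      have hc : u.obj.snd.aut.hom ≫ w = w ≫ ψ.hom := M.hom.snd.comm
      have hM : M.hom.fst.left = eqToHom (show u.obj.fst.left = _ from e.w_obj _) ≫ t := by
        have h1 : M.hom.fst.left ≫ 𝟙 T = u.obj.fst.hom := Over.w M.hom.fst
        exact (Category.comp_id _).symm.trans <| h1.trans (sec_fst_hom e _ (hγ γ hγ₀) _)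
      have hw : 𝒴.p.map w = eqToHom ((fp_base_eq u).trans ((e.w_obj _).trans (F.w_obj r).symm)) ≫
          𝒴.p.map (F.map φ) := by
        show (inertia (toSelf 𝒴)).p.map M.hom.snd = _
        rw [fp_map_snd M, show (overCat T).p.map M.hom.fst = M.hom.fst.left from rfl, hM, based_map F]
        simp [t]
      have hsc : 𝒴.p.IsStronglyCartesian (𝒴.p.map (F.map φ)) (F.map φ) := h𝒴.isStronglyCartesian _
      haveI : 𝒴.p.IsHomLift
          (eqToHom ((fp_base_eq u).trans ((e.w_obj _).trans (F.w_obj r).symm)) ≫ 𝒴.p.map (F.map φ)) w :=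
        IsHomLift.of_fac' 𝒴.p _ _ rfl rfl (by simp [hw])
      obtain ⟨χ, ⟨-, hχ⟩, -⟩ := hsc.universal_property'
        (eqToHom ((fp_base_eq u).trans ((e.w_obj _).trans (F.w_obj r).symm))) w
      have hw' : w ≫ ψ.hom = w := by rw [← hχ, Category.assoc, hfix]
      refine fibGrpd_ext h𝒴 w ?_ ?_
      · rw [show 𝒴.p.map u.obj.snd.aut.hom = 𝟙 _ from u.obj.snd.map_aut, 𝒴.p.map_id]
      · rw [Category.id_comp]
        exact hc.trans hw'
    refine sec_eq_of_aut_trivial he t _ _ (hγ _ hs₁') (hγ _ hs₂') ?_ ?_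
    · refine triv s₁ hs₁' (asIso (α.toNatTrans.app a)) hmap η₁ ?_
      rw [asIso_hom, α.toNatTrans.naturality φ, hr, Category.id_comp]
    · exact triv s₂ hs₂' (Iso.refl b) (𝒴.p.map_id b) η₂ (Category.comp_id _)
  let η₂' : e.obj ⟨_, GrothendieckTopology.uliftYonedaEquiv.{u + 1} (AlgSp.J S) s₁⟩ ≅ z₂ :=
    eqToIso (congrArg (fun s => e.obj ⟨_, GrothendieckTopology.uliftYonedaEquiv.{u + 1} (AlgSp.J S) s⟩) hsec) ≪≫ η₂
  let k : z₁.obj.snd ≅ z₂.obj.snd := (fpSnd y q).toFunctor.mapIso (η₁.symm ≪≫ η₂')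
  have hc : α.toNatTrans.app a ≫ k.hom.hom = k.hom.hom ≫ 𝟙 b := k.hom.comm
  have : IsIso k.hom.hom := inferInstanceAs (IsIso (InertiaObj.forget.map k.hom))
  exact (cancel_mono (k.hom.hom : b ⟶ b)).1 (hc.trans ((Category.comp_id _).trans (Category.id_comp _).symm))

/-- A 2-endomorphism which is trivial on a dense open part by an algebraic space is trivial. -/
theorem endTrans_eq_id_of_dense {𝒰 𝒱 : AlgSt.Cat S} {K : Precoverage Scheme.{u}}
    (h𝒳 : AlgSt.IsAlgStack K 𝒳) (h𝒴 : IsFibGrpd 𝒴.p) (hu : AlgSt.IsDMOver 𝒴)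
    (hs : AlgSt.RepByAlgSpWith AlgSp.IsSeparatedMor (FibCat.diag (toSelf 𝒴))) (F : 𝒳 ⥤ᵇ 𝒴)
    (i : 𝒰 ⥤ᵇ 𝒳) (hdense : Dense (Set.range (AlgSt.Points.map i)))
    (j : 𝒱 ⥤ᵇ 𝒴) (hj : AlgSt.IsOpenImm j) (h𝒱 : AlgSt.RepByAlgSp 𝒱)
    (G : 𝒰 ⥤ᵇ 𝒱) (e : BasedFunctor.comp G j ≅ BasedFunctor.comp i F) (α : F ⟶ F) : α = 𝟙 F := by
  have hV := setoid_of_repByAlgSp h𝒱
  have hj' : AlgSt.RepByAlgSpWith (MorphismProperty.monomorphisms (AlgSp.Sp S)) j :=
    repByAlgSpWith_mono (fun _ _ a _ ha => AlgSpLib.mono_of_repWith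
      (fun _ _ g (_ : IsOpenImmersion g) => (inferInstance : Mono g)) ha) hj
  haveI := (fullyFaithful_of_mono hV.1 h𝒴 hj').1
  -- triviality on the open part
  have hU : ∀ w : 𝒰.obj, α.toNatTrans.app (i.obj w) = 𝟙 _ := fun w => by
    let ew : j.obj (G.obj w) ≅ F.obj (i.obj w) := appIso e w
    let β : j.obj (G.obj w) ⟶ j.obj (G.obj w) := ew.hom ≫ α.toNatTrans.app (i.obj w) ≫ ew.inv
    let β₀ := j.toFunctor.preimage β
    have hβ : 𝒱.p.map β₀ = 𝟙 _ := by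
      have h := based_map_back j β₀
      rw [j.toFunctor.map_preimage] at h
      rw [h, 𝒴.p.map_comp, 𝒴.p.map_comp, show 𝒴.p.map ew.hom = eqToHom _ from based_app_map e.hom w, based_app_map α (i.obj w), show 𝒴.p.map ew.inv = eqToHom _ from based_app_map e.inv w]
      simp [ew]
    have h1 : β₀ = 𝟙 _ := congrArg Subtype.val ((hV.2 (𝒱.p.obj (G.obj w)) ⟨_, rfl⟩ ⟨_, rfl⟩).elim
      ⟨β₀, vert_of_map_eq 𝒱.p (h := rfl) (hβ.trans (eqToHom_refl _ _).symm)⟩ ⟨𝟙 _, IsHomLift.id rfl⟩)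
    have h2 : β = 𝟙 _ := by rw [← j.toFunctor.map_preimage β]; exact (congrArg j.map h1).trans (j.toFunctor.map_id _)
    have h3 : ew.inv ≫ β ≫ ew.hom = 𝟙 _ := by rw [h2]; simp
    simpa [β] using h3
  obtain ⟨U, x, hxs, hxsur⟩ := h𝒳.atlas
  -- triviality on the atlas
  have htop : α.toNatTrans.app (x.obj (Over.mk (𝟙 U))) = 𝟙 _ := by
    refine endTrans_app_eq_id h𝒴 hu hs α _ ?_
    let eU : 𝒳.p.obj (x.obj (Over.mk (𝟙 U))) = U := x.w_obj _
    have hd := hdense.preimage (isOpenMap_ofChart_smooth h𝒳.isStack.1 hxs)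
    let ι₀ : (𝒳.p.obj (x.obj (Over.mk (𝟙 U)))).left ≅ U.left := (Over.forget S).mapIso (eqToIso eU)
    refine (hd.preimage (Scheme.Hom.homeomorph ι₀.hom).isOpenMap).mono fun p hp => ?_
    obtain ⟨w, hw⟩ := hp
    obtain ⟨w₀, rfl⟩ := AlgSt.Points.mk_surjective w
    obtain ⟨r, φ₁, φ₂, -⟩ := (points_mk_eq_iff h𝒳.isStack.1).1 hw.symm
    let p' : ↥U.left := ι₀.hom p
    let o : (overCat U).obj := Over.mk (Over.homMk (U.left.fromSpecResidueField p') rfl :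
      Over.mk (U.left.fromSpecResidueField p' ≫ U.hom) ⟶ U)
    let φ₁' : r.obj ⟶ x.obj o := φ₁
    refine ⟨r.obj, φ₁' ≫ x.map (toId o), endTrans_app_of_hom h𝒴 α φ₂ (hU _), ?_⟩
    have : Nonempty ↥(𝒳.p.obj r.obj).left := by
      rw [r.lies]
      exact ⟨IsLocalRing.closedPoint r.K⟩
    refine ⟨Classical.arbitrary _, (Scheme.Hom.homeomorph ι₀.hom).injective ?_⟩
    show ι₀.hom ((𝒳.p.map (φ₁' ≫ x.map (toId o))).left _) = p'
    have key : 𝒳.p.map (φ₁' ≫ x.map (toId o)) ≫ eqToHom eU =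
        (𝒳.p.map φ₁' ≫ eqToHom (x.w_obj o)) ≫ o.hom := by
      rw [𝒳.p.map_comp, based_map x]
      simp
    rw [← Scheme.Hom.comp_apply, show (𝒳.p.map (φ₁' ≫ x.map (toId o))).left ≫ ι₀.hom =
      (𝒳.p.map (φ₁' ≫ x.map (toId o)) ≫ eqToHom eU).left from rfl, key, Over.comp_left, Scheme.Hom.comp_apply]
    exact (Scheme.range_fromSpecResidueField p').subset ⟨_, rfl⟩
  have hx : ∀ o : (overCat U).obj, α.toNatTrans.app (x.obj o) = 𝟙 _ := fun o =>
    endTrans_app_of_hom h𝒴 α (x.map (toId o)) htop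
  ext a
  obtain ⟨y, iy, hiy⟩ := exists_classifying (U := 𝒳.p.obj a) h𝒳.isStack.1 a rfl
  obtain ⟨W, c, _, _, l₁, -, ⟨il⟩, -⟩ := exists_cover_lift hxs hxsur y y
  refine endTrans_app_eq_id h𝒴 hu hs α a (dense_univ.mono fun p _ => ?_)
  let o : (overCat (𝒳.p.obj a)).obj := (AlgSt.overMap c).obj (Over.mk (𝟙 W))
  refine ⟨y.obj o, y.map (toId o) ≫ iy.hom,
    endTrans_app_of_hom h𝒴 α (appIso il (Over.mk (𝟙 W))).inv (hx _), ?_⟩
  obtain ⟨w, rfl⟩ := c.left.surjective p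
  have hm : 𝒳.p.map (y.map (toId o) ≫ iy.hom) = eqToHom (y.w_obj o) ≫ c := by
    have : 𝒳.p.IsHomLift (𝟙 (𝒳.p.obj a)) iy.hom := hiy
    rw [𝒳.p.map_comp, based_map y, map_eq_of_vert 𝒳.p (R := 𝒳.p.obj a) iy.hom]
    simp [o, AlgSt.overMap]
  rw [hm]
  let i₁ : (𝒳.p.obj (y.obj o)).left ≅ W.left := (Over.forget S).mapIso (eqToIso (y.w_obj o))
  refine ⟨i₁.inv w, ?_⟩
  show (i₁.hom ≫ c.left) (i₁.inv w) = c.left w
  rw [← Scheme.Hom.comp_apply, Iso.inv_hom_id_assoc]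

end Groth.Agent.Stk19b
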