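import Groth.Agent.AlgSpLib.EqvQuot
import Groth.Agent.GrpdLib.QuotientScheme
import Groth.Agent.GrpdLib.FppfQuot
import Groth.Agent.S1878
import Groth.Agent.AlgSpLib.FpqcBaseAffine2
import Mathlib.AlgebraicGeometry.Sites.Fpqc

/-!
The groupoid scheme of the kernel pair of a morphism from a scheme to a sheaf, and its use: a sheaf with a
finite locally free surjection from an affine scheme is affine.
-/

set_option autoImplicit false
set_option backward.isDefEq.respectTransparency false
set_option backward.isDefEq.respectTransparency.types false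

universe u

open CategoryTheory CategoryTheory.Limits AlgebraicGeometry AlgSp

noncomputable section

namespace Groth.Agent.Stk19b.KernelGrpd

open AlgSpLib GrpdLib

variable {S : Scheme.{u}} {U R : Over S} {F : Sp S} {a : (yon S).obj U ⟶ F} {t s : R ⟶ U}
  (sq : IsPullback ((yon S).map t) ((yon S).map s) a a)

include sq

theorem arrows_ext {T : Scheme.{u}} {α β : T ⟶ R.left} (ht : α ≫ t.left = β ≫ t.left)
    (hs : α ≫ s.left = β ≫ s.left) : α = β := by
  have hp : β ≫ R.hom = α ≫ R.hom := by
    rw [← Over.w t, ← Category.assoc, ← Category.assoc, ht]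
  let A : Over.mk (α ≫ R.hom) ⟶ R := Over.homMk α
  let B : Over.mk (α ≫ R.hom) ⟶ R := Over.homMk β hp
  have : A = B := (yon S).map_injective <| sq.hom_ext
    (by rw [← Functor.map_comp, ← Functor.map_comp]; exact congrArg _ (Over.OverMorphism.ext ht))
    (by rw [← Functor.map_comp, ← Functor.map_comp]; exact congrArg _ (Over.OverMorphism.ext hs))
  exact congrArg (fun k => k.left) this

theorem exists_arrow {T : Over S} (x y : T ⟶ U) (h : (yon S).map x ≫ a = (yon S).map y ≫ a) :
    ∃ r : T ⟶ R, r ≫ t = x ∧ r ≫ s = y := by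
  obtain ⟨r, hr⟩ := (yon S).map_surjective (sq.lift _ _ h)
  exact ⟨r, (yon S).map_injective (by rw [Functor.map_comp, hr, sq.lift_fst]),
    (yon S).map_injective (by rw [Functor.map_comp, hr, sq.lift_snd])⟩

def arrow {T : Over S} (x y : T ⟶ U) (h : (yon S).map x ≫ a = (yon S).map y ≫ a) : T ⟶ R :=
  (exists_arrow sq x y h).choose

theorem arrow_t {T : Over S} (x y : T ⟶ U) (h : (yon S).map x ≫ a = (yon S).map y ≫ a) :
    (arrow sq x y h).left ≫ t.left = x.left :=
  congrArg (fun k => k.left) (exists_arrow sq x y h).choose_spec.1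

theorem arrow_s {T : Over S} (x y : T ⟶ U) (h : (yon S).map x ≫ a = (yon S).map y ≫ a) :
    (arrow sq x y h).left ≫ s.left = y.left :=
  congrArg (fun k => k.left) (exists_arrow sq x y h).choose_spec.2

omit sq in
abbrev pairs (t s : R ⟶ U) : Over S := Over.mk (pullback.fst s.left t.left ≫ R.hom)

omit sq in
abbrev p₁ (t s : R ⟶ U) : pairs t s ⟶ R := Over.homMk (pullback.fst s.left t.left)

omit sq in
abbrev p₂ (t s : R ⟶ U) : pairs t s ⟶ R := Over.homMk (pullback.snd s.left t.left) (by
  show _ = pullback.fst s.left t.left ≫ R.hom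
  conv_lhs => rw [← Over.w t, ← Category.assoc, ← pullback.condition, Category.assoc, Over.w s])

/-- composition of arrows -/
def comp : pairs t s ⟶ R :=
  arrow sq (p₁ t s ≫ t) (p₂ t s ≫ s) (by
    have h : p₁ t s ≫ s = p₂ t s ≫ t := Over.OverMorphism.ext pullback.condition
    simp only [Functor.map_comp, Category.assoc]
    rw [sq.w, ← Category.assoc, ← Functor.map_comp, h, Functor.map_comp, Category.assoc, sq.w])

theorem comp_left_t : (comp sq).left ≫ t.left = pullback.fst s.left t.left ≫ t.left :=
  arrow_t sq _ _ _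

theorem comp_left_s : (comp sq).left ≫ s.left = pullback.snd s.left t.left ≫ s.left :=
  arrow_s sq _ _ _

/-- the kernel pair groupoid -/
def grpd : Grpd.GroupoidScheme S where
  U := U.left
  R := R.left
  pU := U.hom
  pR := R.hom
  s := s.left
  t := t.left
  e := (arrow sq (𝟙 U) (𝟙 U) rfl).left
  i := (arrow sq s t sq.w.symm).left
  c := (comp sq).left
  s_over := Over.w s
  t_over := Over.w t
  comp_s α β h := by rw [Category.assoc, comp_left_s, pullback.lift_snd_assoc]
  comp_t α β h := by rw [Category.assoc, comp_left_t, pullback.lift_fst_assoc]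
  assoc α β γ h₁ h₂ := by
    apply arrows_ext sq <;>
      simp only [Category.assoc, comp_left_t, comp_left_s, pullback.lift_fst_assoc, pullback.lift_snd_assoc]
  e_s := arrow_s sq _ _ _
  e_t := arrow_t sq _ _ _
  comp_e α := by
    apply arrows_ext sq
    · rw [Category.assoc, comp_left_t, pullback.lift_fst_assoc]
    · rw [Category.assoc, comp_left_s, pullback.lift_snd_assoc, Category.assoc, Category.assoc, arrow_s sq]
      simp
  e_comp α := by
    apply arrows_ext sq
    · rw [Category.assoc, comp_left_t, pullback.lift_fst_assoc, Category.assoc, Category.assoc, arrow_t sq]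
      simp
    · rw [Category.assoc, comp_left_s, pullback.lift_snd_assoc]
  i_s := arrow_s sq _ _ _
  i_t := arrow_t sq _ _ _
  comp_i α := by
    apply arrows_ext sq <;>
      simp only [Category.assoc, comp_left_t, comp_left_s, pullback.lift_fst_assoc, pullback.lift_snd_assoc,
        arrow_t, arrow_s, Over.id_left, Category.comp_id]
  i_comp α := by
    apply arrows_ext sq <;>
      simp only [Category.assoc, comp_left_t, comp_left_s, pullback.lift_fst_assoc, pullback.lift_snd_assoc,
        arrow_t, arrow_s, Over.id_left, Category.comp_id]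

theorem mono_grpd_j : Mono (grpd sq).j := by
  refine ⟨fun α β h => arrows_ext sq ?_ ?_⟩
  · simpa [Grpd.GroupoidScheme.j, grpd] using congrArg (· ≫ pullback.fst _ _) h
  · simpa [Grpd.GroupoidScheme.j, grpd] using congrArg (· ≫ pullback.snd _ _) h

theorem isIso_i : IsIso (grpd sq).i := by
  refine ⟨(grpd sq).i, ?_, ?_⟩ <;>
  · apply arrows_ext sq
    · show ((grpd sq).i ≫ (grpd sq).i) ≫ (grpd sq).t = 𝟙 _ ≫ (grpd sq).t
      rw [Category.assoc, (grpd sq).i_t, (grpd sq).i_s, Category.id_comp]
    · show ((grpd sq).i ≫ (grpd sq).i) ≫ (grpd sq).s = 𝟙 _ ≫ (grpd sq).s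
      rw [Category.assoc, (grpd sq).i_s, (grpd sq).i_t, Category.id_comp]

omit sq in
/-- A sheaf with a finite locally free surjection from an affine scheme is affine. -/
theorem exists_affine_iso (a : (yon S).obj U ⟶ F) [IsAffine U.left] (hf : RepWith @IsFinite a)
    (hfl : RepWith @Flat a) (hfp : RepWith @LocallyOfFinitePresentation a) (hs : RepWith @Surjective a) :
    ∃ M : Over S, IsAffine M.left ∧ Nonempty ((yon S).obj M ≅ F) := by
  obtain ⟨R, s, fst, sqR, hR⟩ := exists_yon_of_repWith hf a
  obtain ⟨t, rfl⟩ := (yon S).map_surjective fst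
  have : IsFinite s.left := hR
  have : Flat s.left := (repWith_yon_map_iff _ s).1 (RepWith.baseChange sqR hfl)
  have : LocallyOfFinitePresentation s.left := (repWith_yon_map_iff _ s).1 (RepWith.baseChange sqR hfp)
  have : IsAffine R.left := isAffine_of_isAffineHom s.left
  let G := grpd sqR
  have : IsIso G.i := isIso_i sqR
  have := mono_grpd_j sqR
  have : IsAffine G.U := ‹IsAffine U.left›
  have : IsAffine G.R := ‹IsAffine R.left›
  have : IsFinite G.s := ‹IsFinite s.left›
  have : Flat G.s := ‹Flat s.left›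
  have : LocallyOfFinitePresentation G.s := ‹LocallyOfFinitePresentation s.left›
  have : IsFinite G.t := G.i_s ▸ inferInstance
  have : Flat G.t := G.i_s ▸ inferInstance
  have : LocallyOfFinitePresentation G.t := G.i_s ▸ inferInstance
  obtain ⟨⟨_, _, _⟩, φ, hφt, hφs⟩ := finite_flat_quotient_scheme G
  have : Surjective G.toQuot := ⟨(S1878.result S G).1.1⟩
  -- descend the structure map
  have heq : ∀ {Z : Scheme.{u}} (g₁ g₂ : Z ⟶ G.U), g₁ ≫ G.toQuot = g₂ ≫ G.toQuot → g₁ ≫ G.pU = g₂ ≫ G.pU :=
    fun g₁ g₂ h => by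
      have h₁ : (pullback.lift g₁ g₂ h ≫ φ.inv) ≫ G.t = g₁ := by
        rw [← hφt, Category.assoc, Iso.inv_hom_id_assoc, pullback.lift_fst]
      have h₂ : (pullback.lift g₁ g₂ h ≫ φ.inv) ≫ G.s = g₂ := by
        rw [← hφs, Category.assoc, Iso.inv_hom_id_assoc, pullback.lift_snd]
      refine (congrArg (· ≫ G.pU) h₁.symm).trans (Eq.trans ?_ (congrArg (· ≫ G.pU) h₂))
      simp only [Category.assoc, G.t_over, G.s_over]
  let M : Over S := Over.mk (EffectiveEpi.desc G.toQuot G.pU (fun g₁ g₂ h => heq g₁ g₂ h))
  let q : U ⟶ M := Over.homMk G.toQuot (EffectiveEpi.fac G.toQuot G.pU (fun g₁ g₂ h => heq g₁ g₂ h))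
  have : Flat q.left := ‹Flat G.toQuot›
  have : LocallyOfFinitePresentation q.left := ‹LocallyOfFinitePresentation G.toQuot›
  have : Surjective q.left := ‹Surjective G.toQuot›
  have hsq : IsPullback G.t G.s G.toQuot G.toQuot := by
    refine IsPullback.of_iso_pullback ⟨?_⟩ φ hφt hφs
    rw [← hφt, ← hφs, Category.assoc, Category.assoc, pullback.condition]
  have sqM : IsPullback t s q q := IsPullback.of_map (Over.forget S) (Over.OverMorphism.ext hsq.w) hsq
  have := isLocallySurjective_of_repWith (a := (yon S).map q) ((repWith_yon_map_iff _ q).2 inferInstance)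
    ((repWith_yon_map_iff _ q).2 inferInstance) ((repWith_yon_map_iff _ q).2 inferInstance)
  have : Epi ((yon S).map q) := Sheaf.epi_of_isLocallySurjective _
  have := isLocallySurjective_of_repWith hfl hfp hs
  have : Epi a := Sheaf.epi_of_isLocallySurjective _
  have epi_lift : ∀ {X : Sp S} (π : (yon S).obj U ⟶ X)
      (sqπ : IsPullback ((yon S).map t) ((yon S).map s) π π),
      Epi (pullback.lift ((yon S).map t) ((yon S).map s) sqπ.w : (yon S).obj R ⟶ pullback π π) := fun π sqπ => by
    have e : pullback.lift ((yon S).map t) ((yon S).map s) sqπ.w = sqπ.isoPullback.hom := by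
      apply pullback.hom_ext
      · exact (pullback.lift_fst _ _ _).trans sqπ.isoPullback_hom_fst.symm
      · exact (pullback.lift_snd _ _ _).trans sqπ.isoPullback_hom_snd.symm
    rw [e]; infer_instance
  have sqq : IsPullback ((yon S).map t) ((yon S).map s) ((yon S).map q) ((yon S).map q) := sqM.map (yon S)
  have := epi_lift a sqR
  have := epi_lift _ sqq
  have := isIso_quotSpDesc a sqR.w.symm
  have := isIso_quotSpDesc ((yon S).map q) sqq.w.symm
  exact ⟨M, inferInstanceAs (IsAffine (Spec (CommRingCat.of G.invariants))),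
    ⟨(asIso (quotSpDesc ((yon S).map q) sqq.w.symm)).symm ≪≫ asIso (quotSpDesc a sqR.w.symm)⟩⟩

end Groth.Agent.Stk19b.KernelGrpd
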