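import Groth.Agent.Stk19.AlgSt.LocQThm
import Groth.Agent.Stk19.AlgSt.FlatCover
import Groth.Agent.Stk19.AlgSt.FpAlg
import Groth.Agent.Stk19b.Gerbe.Flat
import Groth.Agent.AlgSpLib.MorMore

/-!
# Stacks covered flatly by a field
-/

set_option autoImplicit false
set_option backward.isDefEq.respectTransparency false
set_option backward.isDefEq.respectTransparency.types false

universe u

open CategoryTheory CategoryTheory.Limits AlgebraicGeometry Opposite FibCat Groth.Agent.Desc19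

namespace Groth.Agent.Stk19b.FieldFlat

open Groth.Agent.Stk19

variable {S : Scheme.{u}}

theorem flat_to_field {K : Type u} [Field K] {T : Scheme.{u}} (f : T ⟶ Spec (CommRingCat.of K)) : Flat f := by
  rw [IsZariskiLocalAtSource.iff_of_openCover (P := @Flat) T.affineCover]
  intro i
  obtain ⟨φ, hφ⟩ := Spec.map_surjective (T.affineCover.f i ≫ f)
  exact hφ ▸ AlgSpLib.flat_of_field φ

theorem points_subsingleton {𝒵 : AlgSt.Cat S} (h : IsFibGrpd 𝒵.p) {k : Type u} [Field k]
    {a : Spec (CommRingCat.of k) ⟶ S} {z : overCat (Over.mk a) ⥤ᵇ 𝒵}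
    (hzs : AlgSt.RepByAlgSpWith AlgSp.IsSurjectiveMor z) : Subsingleton (AlgSt.Points 𝒵) := ⟨fun x y => by
  obtain ⟨s, rfl⟩ := ofChart_surjective h hzs x
  obtain ⟨t, rfl⟩ := ofChart_surjective h hzs y
  have : Subsingleton ↥(Over.mk a).left := inferInstanceAs (Subsingleton ↥(Spec (CommRingCat.of k)))
  rw [Subsingleton.elim s t]⟩

theorem flat_of_flat_field {𝒵 : AlgSt.Cat S} (h𝒵 : AlgSt.IsAlgStack Scheme.fppfPrecoverage 𝒵)
    {k k' : Type u} [Field k] [Field k'] {a : Spec (CommRingCat.of k) ⟶ S} {a' : Spec (CommRingCat.of k') ⟶ S}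
    {z : overCat (Over.mk a) ⥤ᵇ 𝒵} (hzs : AlgSt.RepByAlgSpWith AlgSp.IsSurjectiveMor z)
    (hzf : AlgSt.RepByAlgSpWith (AlgSp.LocP @Flat) z) (z' : overCat (Over.mk a') ⥤ᵇ 𝒵) :
    AlgSt.RepByAlgSpWith (AlgSp.LocP @Flat) z' := by
  have hK := isAlgStack_overCat (Over.mk a)
  have hK' := isAlgStack_overCat (Over.mk a')
  obtain ⟨W, w, hw, hws⟩ := h𝒵.atlas
  have hA := isAlgStack_fp h𝒵.isStack h𝒵.diag (isAlgStack_overCat W) hK w z
  obtain ⟨U, n, hn, hns⟩ := hA.atlas
  obtain ⟨q, ⟨iq⟩⟩ := exists_overMap_iso (BasedFunctor.comp n (fpFst w z))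
  obtain ⟨c, ⟨ic⟩⟩ := exists_overMap_iso (BasedFunctor.comp n (fpSnd w z))
  have : Flat q.left := Gerbe.prop_of_with_overMap AlgSpLib.etLocal_flat (repByAlgSpWith_of_iso iq
    (with_comp_locP AlgSpLib.etLocal_flat hA.isStack.1 (with_flat_of_smooth hn).1 (repByAlgSpWith_fpFst w hzf)))
  have hqs : AlgSt.RepByAlgSpWith AlgSp.IsSurjectiveMor (AlgSt.overMap q) := repByAlgSpWith_of_iso iq
    (repByAlgSpWith_comp_desc respSrc_surjective atlasDescent_surjective compStable_surjective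
      (isFibGrpd_overCat U) hA.isStack.1 hns (repByAlgSpWith_fpFst w hzs))
  have : Surjective q.left := ⟨fun v => by
    obtain ⟨r, hr⟩ := ofChart_surjective (isFibGrpd_overCat W) hqs (AlgSt.Points.ofChart (BasedFunctor.id _) v)
    refine ⟨r, (ofChart_id_bijective W).1 ?_⟩
    rw [← hr, ← ofChart_overMap]
    rfl⟩

  have h0 : Good (AlgSp.LocP @Flat) z' z := fun T e l _ _ => by
    have : Flat l.left := flat_to_field _
    exact locP_flat_yon l
  have hg : ∀ {G V : Over S} (g : G ⟶ V) (T : Over S) (l : T ⟶ V), AlgSp.LocP @Flat ((AlgSp.yon S).map l) →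
      AlgSp.LocP @Flat ((AlgSp.yon S).map (pullback.snd l g)) := fun {G V} g T l hl => by
    rw [locP_yon_iff AlgSpLib.etLocal_flat] at hl ⊢
    exact MorphismProperty.of_isPullback (P := @Flat) ((IsPullback.of_hasPullback l g).map (Over.forget S)) hl
  have h1 : Good (AlgSp.LocP @Flat) z' (BasedFunctor.comp (AlgSt.overMap q) w) :=
    good_congr ((Stk.restr (AlgSt.overMap c) _).mapIso (Iso.refl z) ≪≫
      (postB _ z).mapIso ic.symm ≪≫ ((Stk.restr n _).mapIso (fpIso w z)).symm ≪≫ (postB _ w).mapIso iq)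
      (good_comp smST_flat hK' h𝒵 c (hg c) h0)
  have h2 : Good (AlgSp.LocP @Flat) z' w := pcov_descend q (fun T l hl => by
    rw [locP_yon_iff AlgSpLib.etLocal_flat] at hl ⊢
    let sq := (IsPullback.of_hasPullback l q).map (Over.forget S)
    have : Flat (pullback.fst l q).left := MorphismProperty.of_isPullback (P := @Flat) sq.flip ‹Flat q.left›
    have : Surjective (pullback.fst l q).left :=
      MorphismProperty.of_isPullback (P := @Surjective) sq.flip ‹Surjective q.left›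
    have h' : Flat (pullback.snd l q).left := hl
    have : Flat ((pullback.fst l q).left ≫ l.left) := by
      rw [← Over.comp_left, pullback.condition, Over.comp_left]
      infer_instance
    exact FlatLocal.flat_of_comp (pullback.fst l q).left l.left) ((good_comp_iff q w).1 h1)
  exact with_of_locQ smST_flat (pbStable_locP AlgSpLib.etLocal_flat) (schDescent_locP AlgSpLib.etLocal_flat) hK' h𝒵
    (repByAlgSp1_of_diag h𝒵.isStack.1 h𝒵.diag (repByAlgSp_overCat _) z') (locQ_of_good hK' h𝒵 hw hws h2)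

theorem surjective_of_surjective_field {𝒵 : AlgSt.Cat S} (h𝒵 : AlgSt.IsAlgStack Scheme.fppfPrecoverage 𝒵)
    {k k' : Type u} [Field k] [Field k'] {a : Spec (CommRingCat.of k) ⟶ S} {a' : Spec (CommRingCat.of k') ⟶ S}
    {z : overCat (Over.mk a) ⥤ᵇ 𝒵} (hzs : AlgSt.RepByAlgSpWith AlgSp.IsSurjectiveMor z)
    (z' : overCat (Over.mk a') ⥤ᵇ 𝒵) : AlgSt.RepByAlgSpWith AlgSp.IsSurjectiveMor z' :=
  with_surjective_of_ofChart h𝒵.isStack.1 (repByAlgSp1_of_diag h𝒵.isStack.1 h𝒵.diag (repByAlgSp_overCat _) z')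
    fun x => ⟨(IsLocalRing.closedPoint k' : ↥(Spec (CommRingCat.of k'))),
      (points_subsingleton h𝒵.isStack.1 hzs).elim _ _⟩

end Groth.Agent.Stk19b.FieldFlat
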