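import Groth.Agent.Stk19b.Boot.Stack
import Groth.Agent.Stk19b.Boot.EtaleSheaf

/-!
# An etale stack in setoids with a smooth chart is an algebraic space
-/

set_option autoImplicit false
set_option backward.isDefEq.respectTransparency false
set_option backward.isDefEq.respectTransparency.types false

universe u

open CategoryTheory CategoryTheory.Limits AlgebraicGeometry Opposite FibCat Groth.Agent.Stk19 Groth.Agent.Desc19

namespace Groth.Agent.Stk19b

variable {S : Scheme.{u}} {𝒳 : AlgSt.Cat S}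

/-- an etale algebraic stack fibred in setoids is representable by an algebraic space -/
theorem repByAlgSp_of_setoid_etale (h : AlgSt.IsAlgStack Scheme.etalePrecoverage 𝒳) (hs : IsFibSetoid 𝒳.p) :
    AlgSt.RepByAlgSp 𝒳 := by
  obtain ⟨U, u, hu, hu'⟩ := h.atlas
  let X : AlgSp.Space S := ⟨_, AlgSp.IsAlgSpace.yon_obj U⟩
  let x : AlgSt.ofSp X.obj ⥤ᵇ 𝒳 := BasedFunctor.comp (AlgSt.toOverCat U) u
  have hx : AlgSt.RepByAlgSpWith (AlgSp.IsSurjectiveMor ⊓ AlgSp.LocP @Smooth) x :=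
    repByAlgSpWith_mono (fun _ _ _ _ h => ⟨h.2, h.1⟩)
      (with_equiv_comp (isEquivOver_toOverCat U)
        (repByAlgSpWith_and (respSrc_of_baseChange pbStable_surjective) hu hu'))
  obtain ⟨P, E, hE⟩ := exists_psh_of_setoid hs
  have hP : Presheaf.IsSheaf (QuotSh.J Scheme.etalePrecoverage S) P := (isSheaf_iff_isSheaf_of_type _ _).2
    ((isStack_ofPsh_iff _).1 ((isStack_iff_of_equiv _ hE).1 h.isStack))
  let Φ : Stk.ofPsh X.obj.obj ⥤ᵇ Stk.ofPsh P := BasedFunctor.comp x E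
  obtain ⟨i⟩ := pshHom_iso Φ
  have hΦ : AlgSt.RepByAlgSpWith (AlgSp.IsSurjectiveMor ⊓ AlgSp.LocP @Smooth) (Stk.ofPshMap (pshHom Φ)) :=
    repByAlgSpWith_of_iso i (with_comp_equiv hE hx)
  have hp : AlgSp.RepBySpWith (AlgSp.IsSurjectiveMor ⊓ AlgSp.LocP @Smooth) (pshHom Φ) := by
    intro W ξ F' fst snd sq
    obtain ⟨hF', hA⟩ := repBySp_of_repByAlgSp1 (pshHom Φ) (repByAlgSp1_of_with hΦ) ξ fst snd sq
    obtain ⟨e, he, k⟩ := exists_psh_chart sq hF' (Iso.refl _)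
    obtain ⟨T', e', he', hq⟩ := hΦ W _
    exact ⟨hF', hA, k ▸ repWith_any respSrc_surj_smooth he' hq (F' := ⟨⟨F', hF'⟩, hA⟩) e he⟩
  exact repByAlgSp_of_equiv' (E := E) hE
    ((repByAlgSp_ofPsh_iff P).2 (Boot.isAlgSpaceP_of_etale_sheaf_space hP X (pshHom Φ) hp))

end Groth.Agent.Stk19b
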