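import Groth.Agent.Stk19b.RepCrit
import Groth.Agent.Stk19b.EtaleSetoid
import Groth.Agent.Stk19b.UCDvr.Basic
import Groth.Agent.FlatMorSmoothSect.Scheme
import Groth.Agent.AlgSpLib.YonCoprod

/-! An etale stack with a smooth atlas has diagonal representable by algebraic spaces. -/

set_option autoImplicit false
set_option linter.style.haveILetI false
set_option backward.isDefEq.respectTransparency false
set_option backward.isDefEq.respectTransparency.types false

universe u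

open CategoryTheory CategoryTheory.Limits AlgebraicGeometry Opposite FibCat Groth.Agent.Stk19

namespace Groth.Agent.Stk19b

variable {S : Scheme.{u}} {𝒳 : AlgSt.Cat S}

/-- A chart of a prestack is representable if it is so after an etale surjection. -/
theorem repByAlgSp1_of_etale_et (h𝒳 : Stk.IsPrestack (QuotSh.J Scheme.etalePrecoverage S) 𝒳) {U U' : Over S} (c : U' ⟶ U) [Etale c.left]
    [Surjective c.left] (x : overCat U ⥤ᵇ 𝒳)
    (h : AlgSt.RepByAlgSp1 (BasedFunctor.comp (AlgSt.overMap c) x)) : AlgSt.RepByAlgSp1 x := by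
  intro V y
  haveI := faithful_overCat x
  have hs : IsFibSetoid (fp y x).p := setoid_fp _ _ (setoid_of_repByAlgSp (repByAlgSp_overCat V))
    (isFibGrpd_overCat U) h𝒳.1
  obtain ⟨P, E, hE⟩ := exists_psh_of_setoid hs
  have hN : Stk.IsStack (QuotSh.J Scheme.etalePrecoverage S) (fp y x) :=
    isStack_fp _ _ _ (UCDvr.isAlgStack_overCat_et V).isStack (UCDvr.isAlgStack_overCat_et U).isStack h𝒳
  have hP : Presheaf.IsSheaf (QuotSh.J Scheme.etalePrecoverage S) P := (isSheaf_iff_isSheaf_of_type _ _).2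
    ((isStack_ofPsh_iff _).1 ((isStack_iff_of_equiv _ hE).1 hN))
  let j : fp (fpSnd y x) (AlgSt.overMap c) ⥤ᵇ fp y x := fpFst _ _
  obtain ⟨T, eT, heT⟩ := repByAlgSp_of_equiv' (isEquivOver_fpCompFactor y (AlgSt.overMap c) x) (h V y)
  have hc : AlgSt.RepByAlgSpWith (AlgSp.IsSurjectiveMor ⊓ AlgSp.LocP @Etale) (AlgSt.overMap c) :=
    repByAlgSpWith_and (respSrc_of_baseChange (pbStable_locP AlgSpLib.etLocal_etale))
      ((repByAlgSpWith_iff_of_square (f' := AlgSt.overMap c) (f := AlgSt.ofSpMap ((AlgSp.yon S).map c))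
        (a := AlgSt.ofOverCat U') (b := AlgSt.ofOverCat U) (isEquivOver_ofOverCat U') (isEquivOver_ofOverCat U)
        (eqToIso (ofOver_overMap c))).2
        (repByAlgSpWith_ofSpMap pbStable_surjective (V := ⟨_, AlgSp.IsAlgSpace.yon_obj U'⟩)
          (Z := ⟨_, AlgSp.IsAlgSpace.yon_obj U⟩) _ (surjective_yon ‹Surjective c.left›.surj)))
      (with_overMap AlgSpLib.etLocal_etale c inferInstance)
  let Φ : Stk.ofPsh T.obj.obj ⥤ᵇ Stk.ofPsh P := BasedFunctor.comp (BasedFunctor.comp eT j) E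
  obtain ⟨iΦ⟩ := pshHom_iso Φ
  have hΦ : AlgSt.RepByAlgSpWith (AlgSp.IsSurjectiveMor ⊓ AlgSp.LocP @Smooth) (Stk.ofPshMap (pshHom Φ)) :=
    repByAlgSpWith_of_iso iΦ (with_comp_equiv hE (repByAlgSpWith_mono
      (fun _ _ _ _ h => ⟨h.1, AlgSpLib.locP_mono (fun _ _ f (hf : Etale f) => (inferInstance : Smooth f)) h.2⟩)
      (with_equiv_comp heT (repByAlgSpWith_fpFst _ hc))))
  have hp : AlgSp.RepBySpWith (AlgSp.IsSurjectiveMor ⊓ AlgSp.LocP @Smooth) (pshHom Φ) := by
    intro W ξ F' fst snd sq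
    obtain ⟨hF', hA⟩ := repBySp_of_repByAlgSp1 (pshHom Φ) (repByAlgSp1_of_with hΦ) ξ fst snd sq
    obtain ⟨e, he, k⟩ := exists_psh_chart sq hF' (Iso.refl _)
    obtain ⟨T', e', he', hq⟩ := hΦ W _
    exact ⟨hF', hA, k ▸ repWith_any respSrc_surj_smooth he' hq (F' := ⟨⟨F', hF'⟩, hA⟩) e he⟩
  exact repByAlgSp_of_equiv' (E := E) hE
    ((repByAlgSp_ofPsh_iff P).2 (Boot.isAlgSpaceP_of_etale_sheaf_space hP T (pshHom Φ) hp))

/-- An etale stack with a smooth surjective chart by a scheme is an algebraic stack. -/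
theorem isAlgStack_etale_of_atlas (h𝒳 : Stk.IsStack (QuotSh.J Scheme.etalePrecoverage S) 𝒳)
    (hU : AlgSt.HasAtlas (AlgSp.LocP @Smooth) 𝒳) : AlgSt.IsAlgStack Scheme.etalePrecoverage 𝒳 := by
  refine ⟨h𝒳, (repByAlgSp1_diag_iff h𝒳.1).2 fun U x => ?_, hU⟩
  obtain ⟨U₀, u, hu, hus⟩ := hU
  obtain ⟨W, p, q, ⟨α⟩, hq, -, hsurj⟩ := exists_chart_fp h𝒳.1 x (repByAlgSp1_of_with hu)
  haveI := hq AlgSpLib.etLocal_smooth hu
  have hqs : Function.Surjective q.left := fun t => by
    obtain ⟨s, hs⟩ := ofChart_surjective h𝒳.1 hus (AlgSt.Points.ofChart x t)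
    obtain ⟨w, -, rfl⟩ := hsurj s t hs
    exact ⟨w, rfl⟩
  choose w hw using hqs
  choose T g s hg hgs h hh using fun t => FlatMorSmoothSect.exists_section_etale_locally q.left (w t)
  let W' : U.left → Over S := fun t => Over.mk (g t ≫ U.hom)
  let U' : Over S := AlgSpLib.sigmaOver W'
  let d : U' ⟶ W := Over.homMk (Sigma.desc fun t => h t) (Sigma.hom_ext _ _ fun t => by
    show Sigma.ι (fun i => (W' i).left) t ≫ Sigma.desc _ ≫ W.hom = Sigma.ι (fun i => (W' i).left) t ≫ Sigma.desc _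
    rw [Sigma.ι_desc_assoc, Sigma.ι_desc, ← Over.w q, reassoc_of% hh t]
    rfl)
  have e : ∀ t, Sigma.ι (fun i => (W' i).left) t ≫ (d ≫ q).left = g t := fun t => by
    show Sigma.ι (fun i => (W' i).left) t ≫ Sigma.desc _ ≫ q.left = _
    rw [Sigma.ι_desc_assoc]
    exact hh t
  haveI : Etale (d ≫ q).left := by
    rw [show (d ≫ q).left = Sigma.desc g from Sigma.hom_ext _ _ fun t => (e t).trans (Sigma.ι_desc _ _).symm]
    exact IsZariskiLocalAtSource.sigmaDesc fun t => hg t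
  haveI : Surjective (d ≫ q).left := ⟨fun t => ⟨Sigma.ι (fun i => (W' i).left) t (s t),
    (congrArg (fun k : (W' t).left ⟶ U.left => k (s t)) (e t)).trans ((hgs t).trans (hw t))⟩⟩
  refine repByAlgSp1_of_etale_et (isStack_isPrestack h𝒳) (d ≫ q) x ?_
  obtain ⟨m⟩ := overMap_comp d q
  obtain ⟨m'⟩ := overMap_comp d p
  refine repByAlgSp1_of_iso ((postB _ u).mapIso m'.symm ≪≫ (Stk.restr (AlgSt.overMap d) _).mapIso α ≪≫
    (postB _ x).mapIso m) ?_
  exact repByAlgSp1_comp (isFibGrpd_overCat _) (isFibGrpd_overCat _)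
    (fun V y => repByAlgSp_fp (repByAlgSp_overCat V) (repByAlgSp_overCat _) (repByAlgSp_overCat _))
    (repByAlgSp1_of_with hu)

end Groth.Agent.Stk19b
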