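import Groth.Agent.Stk19.AlgSt.Local
import Groth.Agent.AlgSpLib.FpqcBaseAffine
import Groth.Agent.AlgSpLib.MorProper

/-! Affineness of morphisms to schemes descends along flat surjections locally of finite presentation. -/

set_option autoImplicit false
set_option backward.isDefEq.respectTransparency.types false

universe u

open CategoryTheory CategoryTheory.Limits AlgebraicGeometry Opposite Groth.Agent.Stk19

namespace Groth.Agent.Stk19b

variable {S : Scheme.{u}}

theorem pbStable_affine : PbStable (AlgSp.IsAffineMor (S := S)) := fun _ _ _ _ _ _ _ _ _ _ _ _ sq h =>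
  AlgSpLib.isAffineMor_of_isPullback sq h

theorem isFpqcCover_single {T W : Over S} (c : W ⟶ T) [Flat c.left] [LocallyOfFinitePresentation c.left]
    [Surjective c.left] :
    AlgSp.IsFpqcCover (fun _ : PUnit.{u + 1} => (AlgSp.yon S).obj W) (fun _ => (AlgSp.yon S).map c) := by
  refine ⟨fun _ => locP_flat_yon c, fun Z hZ h => ?_⟩
  obtain ⟨t, rfl⟩ := (AlgSp.yon S).map_surjective h
  obtain ⟨_, _, _⟩ := (show Flat (pullback.fst t c).left ∧ LocallyOfFinitePresentation (pullback.fst t c).left ∧
      Surjective (pullback.fst t c).left from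
    have sq := ((IsPullback.of_hasPullback t c).map (Over.forget S)).flip
    ⟨MorphismProperty.of_isPullback (P := @Flat) sq ‹Flat c.left›,
      MorphismProperty.of_isPullback (P := @LocallyOfFinitePresentation) sq ‹LocallyOfFinitePresentation c.left›,
      MorphismProperty.of_isPullback (P := @Surjective) sq ‹Surjective c.left›⟩)
  let π := pullback.fst t c
  obtain ⟨σ, hσ⟩ := (isCompact_univ : IsCompact (Set.univ : Set Z.left)).elim_finite_subcover
    (fun i : (pullback t c).left.affineOpens => π.left '' (i.1 : Set _))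
    (fun i => π.left.isOpenMap _ i.1.2) (fun x _ => by
      obtain ⟨w, rfl⟩ := π.left.surjective x
      obtain ⟨_, ⟨O, hO, rfl⟩, hu, -⟩ :=
        (pullback t c).left.isBasis_affineOpens.exists_subset_of_mem_open (Set.mem_univ w) isOpen_univ
      exact Set.mem_iUnion.2 ⟨⟨O, hO⟩, w, hu, rfl⟩)
  let e := σ.equivFin
  let W' : Fin σ.card → Over S := fun j => Over.mk ((e.symm j).1.1.ι ≫ (pullback t c).hom)
  let j' : ∀ j, W' j ⟶ pullback t c := fun j => Over.homMk (e.symm j).1.1.ι
  refine ⟨σ.card, W', fun j => j' j ≫ π, fun j => (e.symm j).1.2, fun j => ?_, fun z => ?_, fun j =>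
    ⟨PUnit.unit, (AlgSp.yon S).map (j' j ≫ pullback.snd t c), ?_⟩⟩
  · show Flat ((e.symm j).1.1.ι ≫ π.left)
    infer_instance
  · obtain ⟨i, hi, y, hy, rfl⟩ := Set.mem_iUnion₂.1 (hσ (Set.mem_univ z))
    refine ⟨e ⟨i, hi⟩, ?_⟩
    have key : ∀ k : σ, k.1 = i → π.left y ∈ Set.range (k.1.1.ι ≫ π.left) := by
      rintro ⟨k, hk⟩ rfl
      exact ⟨⟨y, hy⟩, rfl⟩
    exact key _ (by rw [e.symm_apply_apply])
  · rw [← Functor.map_comp, ← Functor.map_comp, Category.assoc, Category.assoc, pullback.condition]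

theorem schDescent_affine : SchDescent (AlgSp.IsAffineMor (S := S)) := fun V T W a c _ _ _ h =>
  (AlgSpLib.isAffineMor_iff_isLocal (fun _ : PUnit.{u + 1} => (AlgSp.yon S).obj W) (fun _ => (AlgSp.yon S).map c)
    (AlgSp.IsAlgSpace.yon_obj T) (fun _ => AlgSp.IsAlgSpace.yon_obj W) (isFpqcCover_single c) a V.property _ _
    (fun _ => pullback.fst a ((AlgSp.yon S).map c))
    (fun _ => isAlgSpace_pullback_yon (Z := ⟨_, AlgSp.IsAlgSpace.yon_obj T⟩) a ((AlgSp.yon S).map c))
    (fun _ => IsPullback.of_hasPullback a ((AlgSp.yon S).map c))).2 fun _ => h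

end Groth.Agent.Stk19b
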