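import Groth.Agent.Stk19b.DMFaithful
import Groth.Agent.Stk19.AlgSt.Unram
import Groth.Agent.AlgSpLib.LqfScheme
import Groth.Agent.AlgSpLib.SchemeDescent

/-! A Deligne–Mumford stack with separated quasi-compact diagonal has quasi-affine diagonal. -/

set_option autoImplicit false
set_option linter.style.haveILetI false
set_option backward.isDefEq.respectTransparency false
set_option backward.isDefEq.respectTransparency.types false

universe u

open CategoryTheory CategoryTheory.Limits AlgebraicGeometry FibCat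
open Groth.Agent.Stk19

namespace Groth.Agent.Stk19b

variable {S : Scheme.{u}}

theorem isQuasiAffineMor_of_lqf {X : AlgSp.Sp S} (hX : AlgSp.IsAlgSpace X) {T : Over S}
    (f : X ⟶ (AlgSp.yon S).obj T) (hsep : AlgSp.IsSeparatedMor f) (hqc : AlgSp.IsQuasiCompactMor f)
    (hq : AlgSp.LocP (@LocallyQuasiFinite ⊓ @LocallyOfFiniteType) f) : AlgSp.IsQuasiAffineMor f := by
  intro Z hZ g
  have hY := AlgSp.IsAlgSpace.yon_obj (S := S) T
  have hr := AlgSpLib.representable_of_lqf_separated' hX hY f hsep hq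
  have sq := hr.isPullback g
  let W := hr.pullback g
  let w : W ⟶ Z := hr.snd g
  have : IsAffine Z.left := hZ
  have hcz : AlgSp.IsQuasiCompactSp ((AlgSp.yon S).obj Z) := by
    refine (AlgSpLib.isQuasiCompactSp_iff_compactSpace (AlgSp.IsAlgSpace.yon_obj Z)).2 ?_
    exact (AlgSp.Points.schemeHomeo Z).compactSpace
  have hcw := hqc (AlgSp.IsAlgSpace.yon_obj Z) hcz g (hr.fst g) ((AlgSp.yon S).map w) sq
  have : CompactSpace ↥W.left := by
    have := AlgSpLib.compactSpace_points_of_isQuasiCompactSp hcw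
    exact (AlgSp.Points.schemeHomeo W).symm.compactSpace
  have : IsSeparated w.left :=
    (AlgSp.isSeparatedMor_yon_map_iff w).1 (AlgSpLib.isSeparatedMor_of_isPullback sq hsep)
  obtain ⟨_, _⟩ : LocallyQuasiFinite w.left ∧ LocallyOfFiniteType w.left :=
    AlgSp.locP_yon_map (AlgSpLib.locP_of_isPullback AlgSpLib.etLocal_lqf hX hY
      (AlgSp.IsAlgSpace.yon_obj W) sq hq)
  exact ⟨W, w, hr.fst g, sq, AlgSpLib.isQuasiAffine_of_lqf w.left⟩

theorem quasiAffine_diag_of_isDM {K : Precoverage Scheme.{u}} {𝒳 : AlgSt.Cat S} (h : AlgSt.IsDM K 𝒳)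
    (hsep : AlgSt.RepByAlgSpWith AlgSp.IsSeparatedMor (FibCat.diag (toSelf 𝒳)))
    (hqc : AlgSt.RepByAlgSpWith AlgSp.IsQuasiCompactMor (FibCat.diag (toSelf 𝒳))) :
    AlgSt.RepByAlgSpWith AlgSp.IsQuasiAffineMor (FibCat.diag (toSelf 𝒳)) :=
  repByAlgSpWith_mono
    (fun _ _ a hX ha => isQuasiAffineMor_of_lqf hX a ha.1.1 ha.1.2
      (AlgSpLib.locP_mono (fun _ _ g hg => Stk19.unramified_le_lqf g hg) ha.2))
    (repByAlgSpWith_and (respSrc_locP AlgSpLib.etLocal_unramified)
      (repByAlgSpWith_and (respSrc_of_baseChange pbStable_qcMor) hsep hqc) (isDMOver_of_isDM h))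

end Groth.Agent.Stk19b
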