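import Groth.Agent.Stk19b.GeomPtsMono
import Groth.Agent.Stk19b.TrivStab
import Groth.Agent.Stk19b.Boot.Stack
import Groth.Agent.Stk19.AlgSt.InertiaSep
import Groth.Agent.Stk19.AlgSt.SepDiag
import Groth.Prelude.Def_StGerb

/-!
# An algebraic stack with trivial stabilisers at geometric points is fibred in setoids
-/

set_option autoImplicit false
set_option linter.style.haveILetI false
set_option backward.isDefEq.respectTransparency false
set_option backward.isDefEq.respectTransparency.types false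

universe v₂ u₂ u

open CategoryTheory CategoryTheory.Limits AlgebraicGeometry Opposite FibCat
open Groth.Agent.Stk19 Groth.Agent.Desc19

namespace Groth.Agent.Stk19b

variable {S : Scheme.{u}} {𝒳 : AlgSt.Cat S}

/-- trivial stabilisers at geometric points give trivial vertical automorphisms everywhere -/
theorem vert_aut_eq_id_geom {K : Precoverage Scheme.{u}} (h𝒳 : AlgSt.IsAlgStack K 𝒳)
    (hK : ∀ (k : Type u) [Field k] [IsAlgClosed k] (sk : Spec (CommRingCat.of k) ⟶ S)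
      (x : overCat (Over.mk sk) ⥤ᵇ 𝒳) (T : Over (Over.mk sk)), Subsingleton (Gerb.AutO (x.obj T)))
    {a : 𝒳.obj} (φ : a ≅ a) (hφ : 𝒳.p.map φ.hom = 𝟙 _) : φ.hom = 𝟙 a := by
  let T := 𝒳.p.obj a
  obtain ⟨y, i, hi⟩ := exists_classifying (U := T) h𝒳.isStack.1 a rfl
  let top : (overCat T).obj := Over.mk (𝟙 T)
  let q := inertiaToBase (toSelf 𝒳)
  have hl : AlgSt.RepByAlgSpWith (AlgSp.LocP @LocallyOfFiniteType) q :=
    inertia_with_of_diag (diag_toSelf_lft h𝒳)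
  obtain ⟨G, e, he, hG⟩ := hl T y
  have hfull := (EqvData.of_isEquivOver he).full
  let z₁ : (fp y q).obj := fpMk top (⟨a, φ, hφ⟩ : InertiaObj (toSelf 𝒳)) i hi
  let z₂ : (fp y q).obj := fpMk top (⟨a, Iso.refl a, 𝒳.p.map_id a⟩ : InertiaObj (toSelf 𝒳)) i hi
  obtain ⟨s₁, hs₁, ⟨η₁⟩⟩ := exists_sec e he z₁
  obtain ⟨s₂, hs₂, ⟨η₂⟩⟩ := exists_sec e he z₂
  have hsec : (GrothendieckTopology.uliftYonedaEquiv.{u + 1} (AlgSp.J S)) s₁ = (GrothendieckTopology.uliftYonedaEquiv.{u + 1} (AlgSp.J S)) s₂ := by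
    refine congrArg _ (eq_of_geomPts G.property (AlgSt.spMapOfOver (BasedFunctor.comp e (fpFst y q))) hG ?_
      s₁ s₂ (hs₁.trans ((AlgSp.yon S).map_id T)) (hs₂.trans ((AlgSp.yon S).map_id T)))
    intro k _ _ sk t T' c α β hα hβ
    have triv : ∀ γ : (AlgSp.yon S).obj T' ⟶ G.obj,
        γ ≫ AlgSt.spMapOfOver (BasedFunctor.comp e (fpFst y q)) = (AlgSp.yon S).map (c ≫ t) →
        (e.obj ⟨T', (GrothendieckTopology.uliftYonedaEquiv.{u + 1} (AlgSp.J S)) γ⟩).obj.snd.aut.hom = 𝟙 _ := by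
      intro γ hγ
      let z := e.obj ⟨T', (GrothendieckTopology.uliftYonedaEquiv.{u + 1} (AlgSp.J S)) γ⟩
      have hv : z.obj.fst.left = T' := e.w_obj _
      let o : (overCat (Over.mk sk)).obj := Over.mk c
      let xk := BasedFunctor.comp (AlgSt.overMap t) y
      let j : (AlgSt.overMap t).obj o ≅ z.obj.fst := Over.isoMk (eqToIso hv.symm) (by
        show eqToHom hv.symm ≫ z.obj.fst.hom = c ≫ t
        rw [sec_fst_hom e γ hγ hv]; simp)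
      let β' : xk.obj o ≅ z.obj.snd.pt := y.toFunctor.mapIso j ≪≫ z.obj.iso
      let A : xk.obj o ≅ xk.obj o := β' ≪≫ z.obj.snd.aut ≪≫ β'.symm
      have hmap : 𝒳.p.map z.obj.snd.aut.hom = 𝟙 _ := z.obj.snd.map_aut
      have hA : 𝒳.p.map A.hom = 𝟙 _ := by
        show 𝒳.p.map (β'.hom ≫ z.obj.snd.aut.hom ≫ β'.inv) = _
        rw [𝒳.p.map_comp, 𝒳.p.map_comp, hmap, Category.id_comp, ← 𝒳.p.map_comp, β'.hom_inv_id,
          𝒳.p.map_id]
      have hA' : 𝒳.p.map A.inv = 𝟙 _ := by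
        rw [← Category.id_comp (𝒳.p.map A.inv), ← hA, ← 𝒳.p.map_comp, A.hom_inv_id, 𝒳.p.map_id]
        exact hA.symm
      let A' : Gerb.AutO (xk.obj o) :=
        { hom := ⟨A.hom, vert_of_map_eq 𝒳.p (h := rfl) (hA.trans (eqToHom_refl _ _).symm)⟩
          inv := ⟨A.inv, vert_of_map_eq 𝒳.p (h := rfl) (hA'.trans (eqToHom_refl _ _).symm)⟩
          hom_inv_id := Subtype.ext A.hom_inv_id
          inv_hom_id := Subtype.ext A.inv_hom_id }
      have hh : A.hom = 𝟙 _ :=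
        congrArg (fun w => w.hom.1) ((hK k sk xk o).elim A' (Iso.refl _))
      have : β'.inv ≫ A.hom ≫ β'.hom = 𝟙 _ := by rw [hh]; simp
      simpa [A] using this
    exact sec_eq_of_aut_trivial he _ α β hα hβ (triv α hα) (triv β hβ)
  let η₂' : e.obj ⟨_, (GrothendieckTopology.uliftYonedaEquiv.{u + 1} (AlgSp.J S)) s₁⟩ ≅ z₂ :=
    eqToIso (congrArg (fun s => e.obj ⟨_, s⟩) hsec) ≪≫ η₂
  let k : z₁.obj.snd ≅ z₂.obj.snd := (fpSnd y q).toFunctor.mapIso (η₁.symm ≪≫ η₂')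
  have hc : φ.hom ≫ k.hom.hom = k.hom.hom ≫ 𝟙 a := k.hom.comm
  have : IsIso k.hom.hom := inferInstanceAs (IsIso (InertiaObj.forget.map k.hom))
  exact (cancel_mono (k.hom.hom : a ⟶ a)).1 (hc.trans ((Category.comp_id _).trans (Category.id_comp _).symm))

theorem isFibSetoid_of_geomTrivStab {K : Precoverage Scheme.{u}} (h𝒳 : AlgSt.IsAlgStack K 𝒳)
    (hK : ∀ (k : Type u) [Field k] [IsAlgClosed k] (sk : Spec (CommRingCat.of k) ⟶ S)
      (x : overCat (Over.mk sk) ⥤ᵇ 𝒳) (T : Over (Over.mk sk)), Subsingleton (Gerb.AutO (x.obj T))) :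
    IsFibSetoid 𝒳.p := by
  refine ⟨h𝒳.isStack.1, fun U a b => ⟨fun f g => ?_⟩⟩
  have hi : ∀ k : a ⟶ b, IsIso k := fun k => by
    haveI : 𝒳.p.IsHomLift (𝟙 U) k.1 := k.2
    haveI : IsIso k.1 := fibGrpd_isIso_vert h𝒳.isStack.1 (R := U) k.1
    exact ⟨⟨inv k.1, vert_inv 𝒳.p (asIso k.1) k.2⟩, Subtype.ext (IsIso.hom_inv_id k.1),
      Subtype.ext (IsIso.inv_hom_id k.1)⟩
  haveI := hi f
  haveI := hi g
  let ψ : b ≅ b := (asIso g).symm ≪≫ asIso f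
  let φ : b.1 ≅ b.1 := Functor.Fiber.fiberInclusion.mapIso ψ
  haveI : 𝒳.p.IsHomLift (𝟙 U) φ.hom := ψ.hom.2
  have hφ : 𝒳.p.map φ.hom = 𝟙 _ := (map_eq_of_vert 𝒳.p (R := U) φ.hom).trans (eqToHom_refl _ _)
  have hh : ψ.hom = 𝟙 _ := Subtype.ext (vert_aut_eq_id_geom h𝒳 hK φ hφ)
  rw [← Category.comp_id g, ← hh]
  simp [ψ]

theorem repByAlgSp_iff_geomAut (h𝒳 : AlgSt.IsAlgStack Scheme.fppfPrecoverage 𝒳) :
    AlgSt.RepByAlgSp 𝒳 ↔
      ∀ (k : Type u) [Field k] [IsAlgClosed k] (x : 𝒳.obj) (_ : (𝒳.p.obj x).left ≅ Spec (CommRingCat.of k))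
        (ξ : 𝒳.obj) (_ : ξ ⟶ x) (σ : ξ ⟶ ξ), 𝒳.p.map σ = 𝟙 (𝒳.p.obj ξ) → σ = 𝟙 ξ := by
  constructor
  · intro h k _ _ x _ ξ _ σ hσ
    have hs := setoid_of_repByAlgSp h
    exact congrArg Subtype.val ((hs.2 (𝒳.p.obj ξ) ⟨ξ, rfl⟩ ⟨ξ, rfl⟩).elim
      ⟨σ, vert_of_map_eq 𝒳.p (h := rfl) (hσ.trans (eqToHom_refl _ _).symm)⟩ ⟨𝟙 ξ, IsHomLift.id rfl⟩)
  · intro h
    refine repByAlgSp_of_setoid h𝒳 (isFibSetoid_of_geomTrivStab h𝒳 fun k _ _ sk x T => ⟨fun α β => ?_⟩)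
    have hid : ∀ α : Gerb.AutO (x.obj T), α.hom.1 = 𝟙 (x.obj T) := fun α => by
      refine h k (x.obj (Over.mk (𝟙 _))) ((Over.forget S).mapIso (eqToIso (x.w_obj _))) _ (x.map (toId T)) _ ?_
      have : 𝒳.p.IsHomLift (𝟙 (𝒳.p.obj (x.obj T))) α.hom.1 := α.hom.2
      exact (map_eq_of_vert 𝒳.p (R := 𝒳.p.obj (x.obj T)) _).trans (eqToHom_refl _ _)
    exact Iso.ext (Subtype.ext ((hid α).trans (hid β).symm))

end Groth.Agent.Stk19b
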