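import Groth.Agent.Stk19.Elem
import Groth.Agent.Stk19.Gerbe
import Groth.Prelude.Def_StGerb2

/-! An endofunctor of a gerbe which, up to conjugation, fixes the automorphisms of a global object is
isomorphic to the identity on every fibre. -/

set_option autoImplicit false
set_option backward.isDefEq.respectTransparency false
set_option backward.isDefEq.respectTransparency.types false

universe v₂ u₂ v u

open CategoryTheory FibCat Groth.Agent.Desc19 Groth.Agent.Stk19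

namespace Groth.Agent.Stk19b

variable {C : Type u} [Category.{v} C] {J : GrothendieckTopology C} {𝒳 : BasedCategory.{v₂, u₂} C}

/-- `f` is the base of an arrow to `y` from an object having an arrow to `x`. -/
def toSieve (h : IsFibGrpd 𝒳.p) (x y : 𝒳.obj) : Sieve (𝒳.p.obj y) where
  arrows V f := ∃ (z : 𝒳.obj) (a : z ⟶ y) (e : 𝒳.p.obj z = V),
    Nonempty (z ⟶ x) ∧ 𝒳.p.map a = eqToHom e ≫ f
  downward_closed := by
    rintro V W f ⟨z, a, e, ⟨b⟩, ha⟩ g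
    obtain ⟨z', k, e', hk⟩ := fibGrpd_lift h z (g ≫ eqToHom e.symm)
    exact ⟨z', k ≫ a, e', ⟨k ≫ b⟩, by rw [𝒳.p.map_comp, hk, ha]; simp⟩

theorem toSieve_mem (h𝒳 : Gerb.IsGerbe J 𝒳) (x : 𝒳.obj)
    (term : ∀ U : C, Nonempty (U ⟶ 𝒳.p.obj x)) (y : 𝒳.obj) : toSieve h𝒳.1.1 x y ∈ J (𝒳.p.obj y) := by
  obtain ⟨g⟩ := term (𝒳.p.obj y)
  obtain ⟨w, a, ew, ha⟩ := fibGrpd_lift h𝒳.1.1 x g
  obtain ⟨R, hR, hx⟩ := h𝒳.2.2 y w (eqToHom ew.symm) ((vert_iff _ _).2 ⟨rfl, ew.symm, rfl⟩)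
  refine J.superset_covering (fun V f hf => ?_) hR
  obtain ⟨x₀, α, β, hα, -, -⟩ := hx f hf
  obtain ⟨eα, hαm⟩ := lift_spec _ hα
  exact ⟨x₀, α, eα, ⟨β ≫ a⟩, hαm⟩

theorem exists_natural_iso_id (h𝒳 : Gerb.IsGerbe J 𝒳) (φ : 𝒳 ⥤ᵇ 𝒳) (x : 𝒳.obj)
    (term : ∀ U : C, Nonempty (U ⟶ 𝒳.p.obj x)) (uniq : ∀ {U : C} (f g : U ⟶ 𝒳.p.obj x), f = g)
    (g : φ.obj x ⟶ x)
    (hconj : ∀ (x' : 𝒳.obj) (c : x' ⟶ x) (g' : φ.obj x' ⟶ x'), 𝒳.p.IsHomLift (𝟙 (𝒳.p.obj x')) g' →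
      φ.map c ≫ g = g' ≫ c → ∀ α : Gerb.AutO x', φ.map α.hom.1 ≫ g' = g' ≫ α.hom.1) :
    ∃ ρ : ∀ y : 𝒳.obj, φ.obj y ⟶ y,
      (∀ y, IsIso (ρ y) ∧ 𝒳.p.IsHomLift (𝟙 (𝒳.p.obj y)) (ρ y)) ∧
      (∀ (y y' : 𝒳.obj) (f : y ⟶ y'), 𝒳.p.IsHomLift (𝟙 (𝒳.p.obj y)) f → φ.map f ≫ ρ y' = ρ y ≫ f) := by
  have h := h𝒳.1.1
  -- transports of `g`
  have gex : ∀ (z : 𝒳.obj) (b : z ⟶ x), ∃ gz : φ.obj z ⟶ z,
      𝒳.p.map gz = eqToHom (φ.w_obj z) ∧ gz ≫ b = φ.map b ≫ g := fun z b =>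
    (fibGrpd_fac h b (φ.map b ≫ g) (eqToHom (φ.w_obj z)) (uniq _ _)).exists
  choose gz hgm hgb using gex
  have vgz : ∀ z b, 𝒳.p.IsHomLift (𝟙 (𝒳.p.obj z)) (gz z b) := fun z b =>
    (vert_iff _ _).2 ⟨φ.w_obj z, φ.w_obj z, hgm z b⟩
  have indep : ∀ (z : 𝒳.obj) (b b' : z ⟶ x), gz z b = gz z b' := by
    intro z b b'
    obtain ⟨α, ⟨hα, hαb⟩, -⟩ := fibGrpd_fac h b b' (𝟙 _) (uniq _ _)
    have : 𝒳.p.IsHomLift (𝟙 (𝒳.p.obj z)) α := (vert_iff _ _).2 ⟨rfl, rfl, hα⟩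
    let αf : Gerb.fib z ⟶ Gerb.fib z := ⟨α, this⟩
    have : IsIso αf := (fibGrpd_iff.1 h).2 _ |>.all_isIso αf
    have e : φ.map α ≫ gz z b = gz z b ≫ α := hconj z b _ (vgz z b) (hgb z b).symm (asIso αf)
    refine fibGrpd_ext h b' (by rw [hgm, hgm]) ?_
    rw [hgb z b', ← hαb, φ.toFunctor.map_comp]
    simp only [Category.assoc]
    rw [← hgb z b, reassoc_of% e]
  have Gnat : ∀ {z' z : 𝒳.obj} (k : z' ⟶ z) (b' : z' ⟶ x) (b : z ⟶ x),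
      φ.map k ≫ gz z b = gz z' b' ≫ k := by
    intro z' z k b' b
    rw [indep z' b' (k ≫ b)]
    refine fibGrpd_ext h b ?_ ?_
    · rw [𝒳.p.map_comp, 𝒳.p.map_comp, based_map, hgm, hgm]
      simp
    · rw [Category.assoc, hgb, ← Category.assoc, ← φ.toFunctor.map_comp, Category.assoc, hgb]
  -- comparison of two local expressions
  have key : ∀ (y w : 𝒳.obj) (z : 𝒳.obj) (a : z ⟶ y) (b : z ⟶ x) (χ : w ⟶ φ.obj z)
      (z₀ : 𝒳.obj) (a₀ : z₀ ⟶ y) (b₀ : z₀ ⟶ x) (χ₀ : w ⟶ φ.obj z₀),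
      χ ≫ φ.map a = χ₀ ≫ φ.map a₀ → χ ≫ gz z b ≫ a = χ₀ ≫ gz z₀ b₀ ≫ a₀ := by
    intro y w z a b χ z₀ a₀ b₀ χ₀ e
    obtain ⟨z₁, k, e₁, hk⟩ := fibGrpd_lift h z (𝒳.p.map χ ≫ eqToHom (φ.w_obj z))
    have ep := congrArg (fun t => 𝒳.p.map t ≫ eqToHom (φ.w_obj y)) e
    simp only [𝒳.p.map_comp, based_map, Category.assoc, eqToHom_trans, eqToHom_refl,
      Category.comp_id] at ep
    obtain ⟨k₀, ⟨hk₀, hka⟩, -⟩ := fibGrpd_fac h a₀ (k ≫ a)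
      (eqToHom e₁ ≫ 𝒳.p.map χ₀ ≫ eqToHom (φ.w_obj z₀)) (by
        rw [𝒳.p.map_comp, hk]; simp only [Category.assoc]; rw [ep])
    obtain ⟨ε, ⟨hε, hεk⟩, -⟩ := fibGrpd_fac h (φ.map k) χ
      (eqToHom (((φ.w_obj z₁).trans e₁).symm)) (by rw [based_map, hk]; simp)
    have hεk₀ : ε ≫ φ.map k₀ = χ₀ := by
      refine fibGrpd_ext h (φ.map a₀) ?_ ?_
      · rw [𝒳.p.map_comp, hε, based_map, hk₀]
        simp
      · rw [← e, ← hεk, Category.assoc, ← φ.toFunctor.map_comp, hka, φ.toFunctor.map_comp, Category.assoc]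
    rw [← hεk, ← hεk₀]
    simp only [Category.assoc]
    rw [reassoc_of% (Gnat k (k ≫ b) b), reassoc_of% (Gnat k₀ (k ≫ b) b₀), hka]
  -- gluing
  have main : ∀ y : 𝒳.obj, ∃ ρ : φ.obj y ⟶ y, 𝒳.p.map ρ = eqToHom (φ.w_obj y) ∧
      ∀ (z : 𝒳.obj) (a : z ⟶ y) (b : z ⟶ x), φ.map a ≫ ρ = gz z b ≫ a := by
    intro y
    have hglue := isPrestackFor_homGlue h (isStack_isPrestack h𝒳.1 |>.2 (toSieve h x y) (toSieve_mem h𝒳 x term y))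
    have sel : ∀ (w : 𝒳.obj) (ν : w ⟶ φ.obj y),
        (toSieve h x y).arrows (𝒳.p.map ν ≫ eqToHom (φ.w_obj y)) →
        ∃ (z : 𝒳.obj) (a : z ⟶ y) (_ : z ⟶ x) (χ : w ⟶ φ.obj z), χ ≫ φ.map a = ν := by
      intro w ν hν
      obtain ⟨z, a, e, ⟨b⟩, ha⟩ := hν
      obtain ⟨χ, ⟨-, hχ⟩, -⟩ := fibGrpd_fac h (φ.map a) ν (eqToHom ((φ.w_obj z).trans e).symm)
        (by rw [based_map, ha]; simp)
      exact ⟨z, a, b, χ, hχ⟩
    choose Z A B X' hX' using sel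
    obtain ⟨ρ, ⟨hρ, hρt⟩, -⟩ := hglue (φ.obj y) y (φ.w_obj y) rfl
      (fun w ν hν => X' w ν hν ≫ gz _ (B w ν hν) ≫ A w ν hν)
      (fun w ν hν => by
        have e := congrArg 𝒳.p.map (hX' w ν hν)
        rw [𝒳.p.map_comp, based_map] at e
        rw [𝒳.p.map_comp, 𝒳.p.map_comp, hgm, ← e]
        simp)
      (fun w' w k ν hν hν' => by
        rw [← Category.assoc k]
        exact key y w' _ _ _ _ _ _ _ _ (by rw [hX', Category.assoc, hX']))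
    refine ⟨ρ, by simpa using hρ, fun z a b => ?_⟩
    have hm : (toSieve h x y).arrows (𝒳.p.map (φ.map a) ≫ eqToHom (φ.w_obj y)) :=
      ⟨z, a, (φ.w_obj z).symm, ⟨b⟩, by rw [based_map]; simp⟩
    rw [hρt _ _ hm]
    have := key y (φ.obj z) _ _ (B _ _ hm) (X' _ _ hm) z a b (𝟙 _) (by rw [hX', Category.id_comp])
    rwa [Category.id_comp] at this
  choose ρ hρ hρa using main
  refine ⟨ρ, fun y => ?_, fun y y' f hf => ?_⟩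
  · have : IsIso (𝒳.p.map (ρ y)) := by rw [hρ]; infer_instance
    exact ⟨fibGrpd_isIso h _, (vert_iff _ _).2 ⟨φ.w_obj y, φ.w_obj y, hρ y⟩⟩
  · obtain ⟨-, efy, hfm⟩ := (vert_iff 𝒳.p f).1 hf
    have hglue := isPrestackFor_homGlue h (isStack_isPrestack h𝒳.1 |>.2 (toSieve h x y) (toSieve_mem h𝒳 x term y))
    obtain ⟨u₀, -, huniq⟩ := hglue (φ.obj y) y' (φ.w_obj y) efy.symm (fun w ν _ => ν ≫ ρ y ≫ f)
      (fun w ν _ => by rw [𝒳.p.map_comp, 𝒳.p.map_comp, hρ, hfm]; simp)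
      (fun w' w k ν _ _ => by rw [Category.assoc])
    have e1 := huniq (φ.map f ≫ ρ y') ⟨by rw [𝒳.p.map_comp, based_map, hρ, hfm]; simp, fun w ν hν => by
      obtain ⟨z, a, e, ⟨b⟩, ha⟩ := hν
      obtain ⟨χ, ⟨-, hχ⟩, -⟩ := fibGrpd_fac h (φ.map a) ν (eqToHom ((φ.w_obj z).trans e).symm)
        (by rw [based_map, ha]; simp)
      rw [← hχ]
      simp only [Category.assoc]
      congr 1
      rw [← Category.assoc, ← φ.toFunctor.map_comp, hρa y' z (a ≫ f) b, ← Category.assoc (φ.map a),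
        hρa y z a b, Category.assoc]⟩
    have e2 := huniq (ρ y ≫ f) ⟨by rw [𝒳.p.map_comp, hρ, hfm]; simp, fun w ν _ => rfl⟩
    rw [e1, e2]

end Groth.Agent.Stk19b
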