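import Groth.Agent.Stk19b.QuotTriv

/-! The fibre of `[X/G]` over the base itself, and the mass formula for a group action. -/

set_option autoImplicit false
set_option linter.style.haveILetI false
set_option backward.isDefEq.respectTransparency false
set_option backward.isDefEq.respectTransparency.types false

universe v w u

open CategoryTheory CategoryTheory.Limits AlgebraicGeometry MonoidalCategory CartesianMonoidalCategory MonObj GrpObj

namespace Groth.Agent.Stk19b.PointFibre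

open QuotTriv

variable {S : Scheme.{u}} {G X : Over S} [GrpObj G] {K : Precoverage Scheme.{u}} {aX : AlgGrp.Action G X}

/-- The base as an object over itself. -/
abbrev baseObj (S : Scheme.{u}) : Over S := Over.mk (𝟙 S)

theorem base_hom_ext {B : Over S} (hB : B = baseObj S) {T : Over S} (f g : T ⟶ B) : f = g := by
  subst hB
  exact Over.OverMorphism.ext ((Category.comp_id _).symm.trans ((Over.w f).trans ((Over.w g).symm.trans (Category.comp_id _))))

variable (K aX) in
/-- The fibre over the base. -/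
abbrev Fib := (AlgSt.QuotSt K G aX).p.Fiber (baseObj S)

/-- Any morphism between objects of the fibre is a morphism of the fibre. -/
def fibHom {a b : Fib K aX} (φ : a.1 ⟶ b.1) : a ⟶ b :=
  ⟨φ, IsHomLift.of_fac' _ _ _ a.2 b.2 (base_hom_ext b.2 _ _)⟩

theorem isIso_fib {a b : Fib K aX} (φ : a ⟶ b) : IsIso φ := by
  have hb : IsIso φ.1.base := by
    have : φ.1.base = eqToHom ((a.2 : a.1.base = _).trans (b.2 : b.1.base = _).symm) := base_hom_ext b.2 _ _
    rw [this]
    infer_instance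
  haveI := isIso_of_base φ.1
  exact ⟨fibHom (inv φ.1), Subtype.ext (IsIso.hom_inv_id _), Subtype.ext (IsIso.inv_hom_id _)⟩

/-- Automorphisms are endomorphisms. -/
noncomputable def autEquiv (a : Fib K aX) : Aut a ≃ (a ⟶ a) where
  toFun e := e.hom
  invFun φ := haveI := isIso_fib φ; asIso φ
  left_inv e := Iso.ext rfl
  right_inv φ := rfl

variable [K.HasIsos]

variable (K aX) in
/-- The trivial object of a point. -/
noncomputable def mkFib (x : baseObj S ⟶ X) : Fib K aX := ⟨triv K aX x, rfl⟩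

theorem exists_iso_mkFib (a : Fib K aX) (t : baseObj S ⟶ a.1.P) : ∃ x, Nonempty (mkFib K aX x ≅ a) := by
  obtain ⟨h, -, -⟩ := exists_hom_of_point a.1 t _ rfl (t ≫ a.1.φ) rfl
  haveI := isIso_fib (fibHom (a := mkFib K aX (t ≫ a.1.φ)) (b := a) h)
  exact ⟨_, ⟨asIso (fibHom (a := mkFib K aX (t ≫ a.1.φ)) (b := a) h)⟩⟩

theorem exists_top (x x' : baseObj S ⟶ X) (φ : triv K aX x ⟶ triv K aX x') :
    ∃ g : baseObj S ⟶ G, smulPt aX g x' = x ∧
      φ.top = lift (fst G (baseObj S) * (snd G (baseObj S) ≫ g)) (snd G (baseObj S)) := by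
  obtain ⟨g, hg, ht⟩ := exists_smul_of_hom φ (𝟙 _) (base_hom_ext rfl _ _)
  exact ⟨g, by simpa using hg, by simpa using ht⟩

theorem card_hom (x x' : baseObj S ⟶ X) :
    Nonempty ((mkFib K aX x ⟶ mkFib K aX x') ≃ {g : baseObj S ⟶ G // smulPt aX g x' = x}) := by
  choose g hg ht using fun φ : mkFib K aX x ⟶ mkFib K aX x' => exists_top (K := K) (aX := aX) x x' φ.1
  refine ⟨Equiv.ofBijective (fun φ => ⟨g φ, hg φ⟩) ⟨fun φ ψ h => ?_, fun y => ?_⟩⟩
  · have hg' : g φ = g ψ := congrArg Subtype.val h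
    exact Subtype.ext (AlgSt.QuotObj.hom_ext (base_hom_ext rfl _ _) (by rw [ht φ, ht ψ, hg']))
  · obtain ⟨h, -, htop⟩ := exists_hom_of_smul (K := K) x x' (𝟙 _) y.1 (by simpa using y.2)
    refine ⟨fibHom (a := mkFib K aX x) (b := mkFib K aX x') h, Subtype.ext ?_⟩
    have e := (ht (fibHom (a := mkFib K aX x) (b := mkFib K aX x') h)).symm.trans htop
    have e2 := congrArg (fun z => lift (1 : baseObj S ⟶ G) (𝟙 _) ≫ z ≫ fst G (baseObj S)) e
    simpa [MonObj.comp_mul] using e2

theorem isIsomorphic_mkFib_iff (x x' : baseObj S ⟶ X) :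
    Nonempty (mkFib K aX x ≅ mkFib K aX x') ↔ ∃ g : baseObj S ⟶ G, smulPt aX g x' = x := by
  obtain ⟨e⟩ := card_hom (K := K) (aX := aX) x x'
  refine ⟨fun ⟨i⟩ => ⟨_, (e i.hom).2⟩, fun ⟨g, hg⟩ => ?_⟩
  haveI := isIso_fib (e.symm ⟨g, hg⟩)
  exact ⟨asIso (e.symm ⟨g, hg⟩)⟩

/-- The action of the points of `G` on the points of `X`. -/
@[reducible] noncomputable def pointAction (aX : AlgGrp.Action G X) (T : Over S) : MulAction (T ⟶ G) (T ⟶ X) where
  smul g x := smulPt aX g x
  one_smul x := smulPt_one aX x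
  mul_smul g h x := smulPt_mul aX g h x

theorem finsum_inv_stabilizer (Γ Y : Type u) [Group Γ] [MulAction Γ Y] [Finite Γ] [Finite Y] :
    ∑ᶠ ω : MulAction.orbitRel.Quotient Γ Y, ((Nat.card (MulAction.stabilizer Γ ω.out) : ℚ))⁻¹ =
      (Nat.card Y : ℚ) / (Nat.card Γ : ℚ) := by
  classical
  haveI := Fintype.ofFinite Γ
  haveI := Fintype.ofFinite Y
  haveI : Fintype (MulAction.orbitRel.Quotient Γ Y) := Fintype.ofFinite _
  rw [finsum_eq_sum_of_fintype, eq_div_iff (by exact_mod_cast (Nat.card_pos (α := Γ)).ne'), Finset.sum_mul,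
    Nat.card_congr (MulAction.selfEquivSigmaOrbits Γ Y), Nat.card_sigma, Nat.cast_sum]
  refine Finset.sum_congr rfl fun ω _ => ?_
  have h := MulAction.card_orbit_mul_card_stabilizer_eq_card_group Γ ω.out
  rw [← Nat.card_eq_fintype_card, ← Nat.card_eq_fintype_card, ← Nat.card_eq_fintype_card] at h
  rw [← h, Nat.cast_mul, _root_.mul_comm (Nat.card (MulAction.orbit Γ ω.out) : ℚ), ← _root_.mul_assoc,
    inv_mul_cancel₀ (by exact_mod_cast (Nat.card_pos (α := MulAction.stabilizer Γ ω.out)).ne'), _root_.one_mul]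

theorem mass_formula (aX : AlgGrp.Action G X) [Finite (baseObj S ⟶ G)] [Finite (baseObj S ⟶ X)]
    (hpt : ∀ a : Fib K aX, Nonempty (baseObj S ⟶ a.1.P)) :
    Finite (Quotient (isIsomorphicSetoid (Fib K aX))) ∧ (∀ a : Fib K aX, Finite (Aut a)) ∧
      ∑ᶠ c : Quotient (isIsomorphicSetoid (Fib K aX)), ((Nat.card (Aut c.out) : ℚ))⁻¹ =
        (Nat.card (baseObj S ⟶ X) : ℚ) / (Nat.card (baseObj S ⟶ G) : ℚ) := by
  letI : MulAction (baseObj S ⟶ G) (baseObj S ⟶ X) := pointAction aX (baseObj S)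
  have hrep : ∀ a : Fib K aX, ∃ x, Nonempty (mkFib K aX x ≅ a) := fun a => exists_iso_mkFib a (hpt a).some
  have hrel : ∀ x x' : baseObj S ⟶ X, MulAction.orbitRel (baseObj S ⟶ G) (baseObj S ⟶ X) x x' ↔
      Nonempty (mkFib K aX x ≅ mkFib K aX x') := fun x x' => by
    rw [isIsomorphic_mkFib_iff, MulAction.orbitRel_apply]
    rfl
  let Φ : MulAction.orbitRel.Quotient (baseObj S ⟶ G) (baseObj S ⟶ X) → Quotient (isIsomorphicSetoid (Fib K aX)) :=
    Quotient.map (fun x => mkFib K aX x) fun x x' h => (hrel x x').1 h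
  have hΦ : Function.Bijective Φ := by
    refine ⟨?_, ?_⟩
    · rintro ⟨x⟩ ⟨x'⟩ h
      exact Quotient.sound ((hrel x x').2 (Quotient.exact h))
    · rintro ⟨a⟩
      obtain ⟨x, hx⟩ := hrep a
      exact ⟨Quotient.mk _ x, Quotient.sound hx⟩
  have hcard : ∀ x, Nat.card (Aut (mkFib K aX x)) = Nat.card (MulAction.stabilizer (baseObj S ⟶ G) x) := fun x => by
    obtain ⟨e⟩ := card_hom (K := K) (aX := aX) x x
    exact Nat.card_congr ((autEquiv _).trans e)
  have hfin : ∀ a : Fib K aX, Finite (Aut a) := fun a => by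
    obtain ⟨x, ⟨i⟩⟩ := hrep a
    obtain ⟨e⟩ := card_hom (K := K) (aX := aX) x x
    haveI : Finite (Aut (mkFib K aX x)) := Finite.of_equiv _ ((autEquiv _).trans e).symm
    exact Finite.of_equiv _ i.conjAut.toEquiv
  refine ⟨Finite.of_surjective Φ hΦ.2, hfin, ?_⟩
  rw [← finsum_inv_stabilizer (baseObj S ⟶ G) (baseObj S ⟶ X)]
  refine (finsum_eq_of_bijective Φ hΦ fun ω => ?_).symm
  obtain ⟨i⟩ : Nonempty (mkFib K aX ω.out ≅ (Φ ω).out) := by
    have h : Φ ω = Quotient.mk (isIsomorphicSetoid (Fib K aX)) (mkFib K aX ω.out) :=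
      (congrArg Φ (Quotient.out_eq ω)).symm
    exact Quotient.exact (h.symm.trans (Quotient.out_eq _).symm)
  rw [← hcard, Nat.card_congr i.conjAut.toEquiv]

end Groth.Agent.Stk19b.PointFibre
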