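import Groth.Agent.Stk19b.FieldDim
import Mathlib.RingTheory.Spectrum.Prime.Chevalley
import Mathlib.RingTheory.Flat.TorsionFree
import Mathlib.AlgebraicGeometry.Morphisms.FiniteType

/-!
A scheme of finite type over a field `k` maps to `Spec (k ⊗ k)` with locally constant topology.
-/

set_option autoImplicit false
set_option backward.isDefEq.respectTransparency false
set_option backward.isDefEq.respectTransparency.types false

universe u

open CategoryTheory CategoryTheory.Limits AlgebraicGeometry TensorProduct
open scoped Polynomial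

noncomputable section

namespace Groth.Agent.Stk19b.FieldImage

set_option synthInstance.maxHeartbeats 200000 in
/-- A field mapping to a domain of finite type over a field has algebraic image. -/
theorem isAlgebraic_of_ringHom {k B : Type u} [Field k] [CommRing B] [IsDomain B] [Algebra k B]
    [Algebra.FiniteType k B] (φ : k →+* B) (f : k) : IsAlgebraic k (φ f) := by
  by_contra ht
  let F : Subfield k := ⊥
  have hφ : ∀ c : F, φ c = algebraMap k B c := fun c => by
    have : (⊥ : Subfield k) ≤ RingHom.eqLocusField φ (algebraMap k B) := bot_le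
    exact this c.2
  let a := φ f
  letI : Algebra k[X] B := (Polynomial.aeval a).toRingHom.toAlgebra
  have hinj : Function.Injective (algebraMap k[X] B) := transcendental_iff_injective.1 ht
  have : FaithfulSMul k[X] B := (faithfulSMul_iff_algebraMap_injective _ _).2 hinj
  have : Module.IsTorsionFree k[X] B := inferInstance
  have : Module.Flat k[X] B := inferInstance
  have : IsScalarTower k k[X] B := IsScalarTower.of_algebraMap_eq fun c => (Polynomial.aeval_C a c).symm
  have : Algebra.FiniteType k[X] B := Algebra.FiniteType.of_restrictScalars_finiteType k k[X] B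
  have : Algebra.FinitePresentation k[X] B := Algebra.FinitePresentation.of_finiteType.mp inferInstance
  have hopen : IsOpenMap (PrimeSpectrum.comap (algebraMap k[X] B)) :=
    PrimeSpectrum.isOpenMap_comap_of_hasGoingDown_of_finitePresentation
  obtain ⟨_, ⟨_, ⟨Q, rfl⟩, rfl⟩, hQ0, hQ⟩ :=
    PrimeSpectrum.isBasis_basic_opens.exists_subset_of_mem_open
      (show PrimeSpectrum.comap (algebraMap k[X] B) ⟨⊥, Ideal.isPrime_bot⟩ ∈
        Set.range (PrimeSpectrum.comap (algebraMap k[X] B)) from ⟨_, rfl⟩) hopen.isOpen_range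
  have hQne : Q ≠ 0 := fun h => by simp [h] at hQ0
  let K := AlgebraicClosure k
  let L := AlgebraicClosure F
  let i : L →ₐ[F] K := IsAlgClosed.lift
  have : Infinite L := IsAlgClosed.instInfinite
  obtain ⟨x, hx⟩ : ∃ x : L, Polynomial.aeval (i x) Q ≠ 0 := by
    by_contra h
    simp only [not_exists, not_not] at h
    have hsub : Set.range i ⊆ (Q.rootSet K : Set K) := by
      rintro _ ⟨x, rfl⟩
      rw [Polynomial.mem_rootSet_of_ne hQne]
      exact h x
    exact (Set.infinite_range_of_injective i.toRingHom.injective) ((Q.rootSet_finite K).subset hsub)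
  let P := minpoly F x
  have hPx : Polynomial.aeval (i x) (P.map (algebraMap F k)) = 0 := by
    rw [Polynomial.aeval_map_algebraMap, Polynomial.aeval_algHom_apply, minpoly.aeval, map_zero]
  let m : PrimeSpectrum k[X] := ⟨RingHom.ker (Polynomial.aeval (i x)).toRingHom, RingHom.ker_isPrime _⟩
  obtain ⟨q, hq⟩ := hQ (show m ∈ (PrimeSpectrum.basicOpen Q : Set _) from hx)
  have hPm : algebraMap k[X] B (P.map (algebraMap F k)) ∈ q.asIdeal := by
    have : P.map (algebraMap F k) ∈ m.asIdeal := hPx
    rw [← hq] at this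
    exact this
  have hu : IsUnit (algebraMap k[X] B (P.map (algebraMap F k))) := by
    have e : algebraMap k[X] B (P.map (algebraMap F k)) = φ (Polynomial.aeval f P) := by
      show Polynomial.aeval a _ = _
      rw [Polynomial.aeval_def, Polynomial.eval₂_map, Polynomial.aeval_def, Polynomial.hom_eval₂]
      congr 1
      exact RingHom.ext fun c => (hφ c).symm
    rw [e]
    refine (IsUnit.mk0 _ fun h => ht ?_).map φ
    have hfa : IsAlgebraic F f :=
      ⟨P, minpoly.ne_zero (Algebra.IsAlgebraic.isAlgebraic (R := F) x).isIntegral, h⟩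
    obtain ⟨p, hp, hp'⟩ := hfa
    refine ⟨p.map (algebraMap F k), (Polynomial.map_ne_zero_iff (algebraMap F k).injective).2 hp, ?_⟩
    rw [Polynomial.aeval_def, Polynomial.eval₂_map]
    have e' : (algebraMap k B).comp (algebraMap F k) = φ.comp (algebraMap F k) :=
      RingHom.ext fun c => (hφ c).symm
    rw [e', ← Polynomial.hom_eval₂, ← Polynomial.aeval_def, hp', map_zero]
  exact q.isPrime.ne_top (Ideal.eq_top_of_isUnit_mem _ hPm hu)

variable {R₀ k : Type u} [CommRing R₀] [Field k] [Algebra R₀ k]

/-- Specialisations in a scheme of finite type over `k` have equal images in `Spec (k ⊗ k)`. -/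
theorem eq_of_specializes {W : Scheme.{u}} (q : W ⟶ Spec (.of (k ⊗[R₀] k)))
    [LocallyOfFiniteType (q ≫ Spec.map (CommRingCat.ofHom
      (Algebra.TensorProduct.includeRight : k →ₐ[R₀] k ⊗[R₀] k).toRingHom))]
    {w' w : W} (h : w' ⤳ w) : q w' = q w := by
  obtain ⟨O, hO, hw, -⟩ := exists_isAffineOpen_mem_and_subset (x := w) (U := ⊤) trivial
  have hw' : w' ∈ O := h.mem_open O.2 hw
  let A := Γ(W, O)
  obtain ⟨χ, hχ⟩ := Spec.map_surjective (hO.fromSpec ≫ q)
  let ι₂ := CommRingCat.ofHom (Algebra.TensorProduct.includeRight : k →ₐ[R₀] k ⊗[R₀] k).toRingHom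
  have hft : (ι₂ ≫ χ).hom.FiniteType := by
    rw [← HasRingHomProperty.Spec_iff (P := @LocallyOfFiniteType), Spec.map_comp, hχ, Category.assoc]
    exact MorphismProperty.comp_mem _ _ _ (inferInstance : LocallyOfFiniteType hO.fromSpec) inferInstance
  letI : Algebra k A := (ι₂ ≫ χ).hom.toAlgebra
  have : Algebra.FiniteType k A := hft
  obtain ⟨p, hp⟩ : w ∈ Set.range hO.fromSpec := by rw [hO.range_fromSpec]; exact hw
  obtain ⟨p', hp'⟩ : w' ∈ Set.range hO.fromSpec := by rw [hO.range_fromSpec]; exact hw'
  have hpp : p' ⤳ p := hO.fromSpec.isOpenEmbedding.toIsInducing.specializes_iff.1 (by rw [hp, hp']; exact h)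
  rw [← hp, ← hp', ← Scheme.Hom.comp_apply, ← Scheme.Hom.comp_apply, ← hχ]
  let p₁ : PrimeSpectrum A := p'
  let B := A ⧸ p₁.asIdeal
  let ψ : k ⊗[R₀] k →+* B := (Ideal.Quotient.mk p₁.asIdeal).comp χ.hom
  have hint : ∀ c, IsIntegral k (ψ c) := fun c => by
    induction c using TensorProduct.induction_on with
    | zero => rw [map_zero]; exact isIntegral_zero
    | add x y hx hy => rw [map_add]; exact hx.add hy
    | tmul a b =>
      have e : a ⊗ₜ[R₀] b = a ⊗ₜ[R₀] (1 : k) * (1 : k) ⊗ₜ[R₀] b := by simp
      rw [e, map_mul]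
      refine IsIntegral.mul ?_ ?_
      · exact (isAlgebraic_of_ringHom
          (ψ.comp (Algebra.TensorProduct.includeLeft : k →ₐ[R₀] k ⊗[R₀] k).toRingHom) a).isIntegral
      · exact isIntegral_algebraMap
  have hmax : (RingHom.ker ψ).IsMaximal := by
    apply Ideal.Quotient.maximal_of_isField
    let T : Subalgebra k B :=
      { ψ.range.toSubsemiring with
        algebraMap_mem' := fun b => ⟨(1 : k) ⊗ₜ[R₀] b, rfl⟩ }
    have : Algebra.IsIntegral k T := ⟨fun y => by
      obtain ⟨c, hc⟩ := (show (y : B) ∈ ψ.range from y.2)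
      exact (isIntegral_algHom_iff T.val Subtype.val_injective).1 (by
        show _root_.IsIntegral k (y : B)
        rw [← hc]
        exact hint c)⟩
    have hT : IsField T := isField_of_isIntegral_of_isField' (Field.toIsField k)
    let e : (k ⊗[R₀] k) ⧸ RingHom.ker ψ ≃+* T := RingHom.quotientKerEquivRange ψ
    exact e.toMulEquiv.isField hT
  apply PrimeSpectrum.ext
  show Ideal.comap χ.hom (show PrimeSpectrum A from p').asIdeal = Ideal.comap χ.hom (show PrimeSpectrum A from p).asIdeal
  have hk : RingHom.ker ψ = Ideal.comap χ.hom p₁.asIdeal := by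
    ext c
    exact Ideal.Quotient.eq_zero_iff_mem
  rw [hk] at hmax
  exact hmax.eq_of_le (Ideal.comap_ne_top _ (show PrimeSpectrum A from p).isPrime.ne_top)
    (Ideal.comap_mono ((PrimeSpectrum.le_iff_specializes (show PrimeSpectrum A from p') (show PrimeSpectrum A from p)).2 hpp))

end Groth.Agent.Stk19b.FieldImage
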