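import Groth.Agent.FlatMor12.FibreFlat
import Groth.Agent.Stk19.AlgSt.UnramDiag

/-!
# Algebraic spaces locally of finite type with at most one point over every field point
-/

set_option autoImplicit false
set_option linter.style.haveILetI false
set_option backward.isDefEq.respectTransparency.types false

universe u

open CategoryTheory CategoryTheory.Limits AlgebraicGeometry
open AlgSp Groth.Agent.AlgSpLib

namespace Groth.Agent.Stk19b

open Groth.Agent.Stk19

variable {S : Scheme.{u}}

/-- sections of a morphism with open diagonal agreeing at all points agree -/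
theorem eq_of_open_diag {G : Sp S} {T : Over S} {q : G ⟶ (yon S).obj T}
    (hd : RepWith @IsOpenImmersion (pullback.diagonal q)) (s e : (yon S).obj T ⟶ G) (hs : s ≫ q = 𝟙 _)
    (he : e ≫ q = 𝟙 _) (h : ∀ y : T.left, ∃ (T' : Over S) (t : T' ⟶ T),
      y ∈ Set.range t.left ∧ (yon S).map t ≫ s = (yon S).map t ≫ e) : s = e := by
  let ξ : (yon S).obj T ⟶ pullback.diagonalObj q := pullback.lift s e (hs.trans he.symm)
  have sqE := hd.1.isPullback ξ
  have : IsOpenImmersion (hd.1.snd ξ).left := hd.property_snd ξ
  have : Surjective (hd.1.snd ξ).left := ⟨fun y => by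
    obtain ⟨T', t, ⟨z, rfl⟩, est⟩ := h y
    obtain ⟨l, hl'⟩ := (yon S).map_surjective (sqE.lift ((yon S).map t ≫ s) ((yon S).map t) (by
      apply pullback.hom_ext
      · simp only [ξ, Category.assoc, pullback.diagonal_fst, Category.comp_id]
        erw [pullback.lift_fst]
      · simp only [ξ, Category.assoc, pullback.diagonal_snd, Category.comp_id]
        erw [pullback.lift_snd]
        exact est))
    refine ⟨l.left z, ?_⟩
    have : l ≫ hd.1.snd ξ = t := (yon S).map_injective (by rw [Functor.map_comp, hl', sqE.lift_snd])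
    rw [← Scheme.Hom.comp_apply, ← Over.comp_left, this]⟩
  have : IsIso (hd.1.snd ξ).left := isIso_of_isOpenImmersion_of_opensRange_eq_top _
    (TopologicalSpace.Opens.ext (Set.range_eq_univ.2 ‹Surjective (hd.1.snd ξ).left›.surj))
  have : IsIso ((Over.forget S).map (hd.1.snd ξ)) := ‹IsIso (hd.1.snd ξ).left›
  have : IsIso (hd.1.snd ξ) := isIso_of_reflects_iso _ (Over.forget S)
  rw [← cancel_epi ((yon S).map (hd.1.snd ξ))]
  have h1 := congrArg (· ≫ pullback.fst q q) sqE.w
  have h2 := congrArg (· ≫ pullback.snd q q) sqE.w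
  simp only [Category.assoc, ξ, pullback.lift_fst, pullback.lift_snd, pullback.diagonal_fst,
    pullback.diagonal_snd, Category.comp_id] at h1 h2
  exact h1.symm.trans h2

/-- an algebraic space lft over a scheme, with at most one point over field points, has at most one section -/
theorem eq_of_fieldPts {G : Sp S} (hG : IsAlgSpace G) {T : Over S} (q : G ⟶ (yon S).obj T)
    (hl : LocP @LocallyOfFiniteType q)
    (h : ∀ (K : Type u) [Field K] (sk : Spec (CommRingCat.of K) ⟶ S) (t : Over.mk sk ⟶ T) (T' : Over S)
      (c : T' ⟶ Over.mk sk) (a b : (yon S).obj T' ⟶ G),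
      a ≫ q = (yon S).map (c ≫ t) → b ≫ q = (yon S).map (c ≫ t) → a = b)
    (s e : (yon S).obj T ⟶ G) (hs : s ≫ q = 𝟙 _) (he : e ≫ q = 𝟙 _) : s = e := by
  obtain ⟨W, π, hπe, hπs⟩ := hG.atlas
  obtain ⟨w, hw⟩ := (yon S).map_surjective (π ≫ q)
  have : LocallyOfFiniteType w.left := by
    refine (repWith_yon_map_iff @LocallyOfFiniteType w).1 ?_
    rw [hw]
    exact repWith_comp_of_locP etLocal_lft (IsAlgSpace.yon_obj T) hl π hπe
  have hu : FormallyUnramified w.left := FlatMor12.formallyUnramified_of_fibres w.left fun y => by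
    let sk : Spec (CommRingCat.of (T.left.residueField y)) ⟶ S := T.left.fromSpecResidueField y ≫ T.hom
    let t : Over.mk sk ⟶ T := Over.homMk (T.left.fromSpecResidueField y)
    let Wt : Over S := Over.mk (w.left.fiberToSpecResidueField y ≫ sk)
    let wt : Wt ⟶ Over.mk sk := Over.homMk (w.left.fiberToSpecResidueField y)
    have sqW : IsPullback (w.left.fiberι y) wt.left w.left t.left := IsPullback.of_hasPullback _ _
    let inc : Wt ⟶ W := Over.homMk (w.left.fiberι y) (by
      rw [← Over.w w, ← Category.assoc, sqW.w, Category.assoc]; rfl)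
    have sqY : IsPullback ((yon S).map inc) ((yon S).map wt) (π ≫ q) ((yon S).map t) := by
      rw [← hw]
      exact (IsPullback.of_map_of_faithful (h := w) (i := t) (f := inc) (g := wt) (Over.forget S) sqW).map (yon S)
    have sqG := IsPullback.of_hasPullback q ((yon S).map t)
    let a := sqG.lift ((yon S).map inc ≫ π) ((yon S).map wt) (by rw [Category.assoc, sqY.w])
    have sqa : IsPullback ((yon S).map inc) a π (pullback.fst q ((yon S).map t)) :=
      IsPullback.of_bot (by rw [sqG.lift_snd]; exact sqY) (sqG.lift_fst _ _ _).symm sqG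
    have hA : IsAlgSpace (pullback q ((yon S).map t)) := isAlgSpace_of_isPullback
      (IsAlgSpace.yon_obj T).diag hG (IsAlgSpace.yon_obj _) sqG
    have : Mono (pullback.snd q ((yon S).map t)) := ⟨fun a b hab => sqG.hom_ext (hom_ext_of_yon fun T' x => by
        obtain ⟨c, hc⟩ := (yon S).map_surjective (x ≫ a ≫ pullback.snd q _)
        refine h (T.left.residueField y) sk t T' c _ _ ?_ ?_
        · rw [Category.assoc, Category.assoc, sqG.w, Functor.map_comp, hc]
          simp only [Category.assoc]
        · rw [Category.assoc, Category.assoc, sqG.w, Functor.map_comp, hc, hab]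
          simp only [Category.assoc]) hab⟩
    have hA' := locP_unram_of_diag (V := ⟨_, hA⟩) (Z := ⟨_, IsAlgSpace.yon_obj (Over.mk sk)⟩)
      (pullback.snd q ((yon S).map t))
      (locP_of_isPullback etLocal_lft hG (IsAlgSpace.yon_obj T) hA sqG hl) (repWith_of_isIso _ _)
    exact (hA' a (𝟙 _) wt (RepWith.baseChange sqa hπe) (repWith_id _ _)
      (by rw [sqG.lift_snd, Category.comp_id])).2
  have hq : LocP (@LocallyOfFiniteType ⊓ @FormallyUnramified) q := by
    refine locP_of_atlas etLocal_unramified hG π hπe hπs ?_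
    rw [← hw]
    exact (repWith_yon_map_iff _ w).2 ⟨‹_›, hu⟩
  have hd : RepWith @IsOpenImmersion (pullback.diagonal q) :=
    diag_of_locP_unram (V := ⟨G, hG⟩) (Z := ⟨_, IsAlgSpace.yon_obj T⟩) q hq
  exact eq_of_open_diag hd s e hs he fun y => by
    let sk : Spec (CommRingCat.of (T.left.residueField y)) ⟶ S := T.left.fromSpecResidueField y ≫ T.hom
    let t : Over.mk sk ⟶ T := Over.homMk (T.left.fromSpecResidueField y)
    exact ⟨_, t, ⟨IsLocalRing.closedPoint _, Scheme.fromSpecResidueField_apply _ _⟩, h _ sk t _ (𝟙 _) _ _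
      (by rw [Category.assoc, hs, Category.comp_id, Category.id_comp])
      (by rw [Category.assoc, he, Category.comp_id, Category.id_comp])⟩

end Groth.Agent.Stk19b
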