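import Groth.Agent.Stk19b.ClosedSub

/-!
Models of full substacks on charts, and descent of factorisations through closed immersions.
-/

set_option autoImplicit false
set_option backward.isDefEq.respectTransparency false
set_option backward.isDefEq.respectTransparency.types false

universe u

open CategoryTheory CategoryTheory.Limits AlgebraicGeometry Opposite FibCat Groth.Agent.Stk19

namespace Groth.Agent.Stk19b.SubModel

/-- `l` factors through `i`. -/
def Fac {Z U W : Scheme.{u}} (i : Z ⟶ U) (l : W ⟶ U) : Prop := ∃ v, v ≫ i = l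

theorem Fac.comp {Z U W W' : Scheme.{u}} {i : Z ⟶ U} {l : W ⟶ U} (h : Fac i l) (t : W' ⟶ W) : Fac i (t ≫ l) := by
  obtain ⟨v, rfl⟩ := h
  exact ⟨t ≫ v, Category.assoc _ _ _⟩

variable {Z U W W' : Scheme.{u}} (i : Z ⟶ U) [IsClosedImmersion i] (c : W' ⟶ W) [Flat c] [Surjective c]

theorem fac_descend_of {l : W ⟶ U} (h : Fac i (c ≫ l))
    (hd : IsIso (pullback.snd (pullback.snd i l) c) → IsIso (pullback.snd i l)) : Fac i l := by
  obtain ⟨v, hv⟩ := h
  have : IsSplitEpi (pullback.snd (pullback.snd i l) c) :=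
    ⟨⟨{ section_ := pullback.lift (pullback.lift v c hv) (𝟙 W') (by simp)
        id := pullback.lift_snd _ _ _ }⟩⟩
  have := hd (isIso_of_mono_of_isSplitEpi _)
  exact ⟨inv (pullback.snd i l) ≫ pullback.fst i l, by rw [Category.assoc, pullback.condition, IsIso.inv_hom_id_assoc]⟩

theorem fac_descend [LocallyOfFinitePresentation c] {l : W ⟶ U} (h : Fac i (c ≫ l)) : Fac i l :=
  fac_descend_of i c h fun hi => MorphismProperty.of_isPullback_of_descendsAlong (P := MorphismProperty.isomorphisms Scheme.{u})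
    (Q := @Surjective ⊓ @Flat ⊓ @LocallyOfFinitePresentation) (IsPullback.of_hasPullback (pullback.snd i l) c).flip
    ⟨⟨‹_›, ‹_›⟩, ‹_›⟩ hi

theorem fac_descend_qc [QuasiCompact c] {l : W ⟶ U} (h : Fac i (c ≫ l)) : Fac i l :=
  fac_descend_of i c h fun hi => MorphismProperty.of_isPullback_of_descendsAlong (P := MorphismProperty.isomorphisms Scheme.{u})
    (Q := @Surjective ⊓ @Flat ⊓ @QuasiCompact) (IsPullback.of_hasPullback (pullback.snd i l) c).flip
    ⟨⟨‹_›, ‹_›⟩, ‹_›⟩ hi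

omit [IsClosedImmersion i] [Flat c] [Surjective c] in
theorem fac_of_range [IsClosedImmersion i] [IsReduced W] {l : W ⟶ U} (h : Set.range l ⊆ Set.range i) : Fac i l := by
  have : Surjective (pullback.snd i l) := ⟨fun w => by
    obtain ⟨z, hz⟩ := h ⟨w, rfl⟩
    obtain ⟨p, -, hp⟩ := Scheme.Pullback.exists_preimage_pullback z w hz
    exact ⟨p, hp⟩⟩
  have : IsIso (pullback.snd i l) := isIso_of_isClosedImmersion_of_surjective _
  exact ⟨inv (pullback.snd i l) ≫ pullback.fst i l, by rw [Category.assoc, pullback.condition, IsIso.inv_hom_id_assoc]⟩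

section Model

variable {S : Scheme.{u}} {𝒳 : AlgSt.Cat S} {Q : 𝒳.obj → Prop}
  (h : IsFibGrpd 𝒳.p) (hQ : ∀ ⦃a b : 𝒳.obj⦄ (_ : a ⟶ b), Q b → Q a)

include h hQ in
/-- A full substack cut out on a chart by a monomorphism is represented there by it. -/
theorem exists_equiv {U₀ : Over S} (y : overCat U₀ ⥤ᵇ 𝒳) {V : Over S} (w : V ⟶ U₀) [Mono w]
    (hw : ∀ (T : Over S) (a : T ⟶ U₀), Q (y.obj (Over.mk a)) ↔ ∃ v : T ⟶ V, v ≫ w = a) :
    ∃ G : overCat V ⥤ᵇ fp y (AlgSt.subIncl 𝒳 Q), IsEquivOver G ∧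
      Nonempty (BasedFunctor.comp G (fpFst y (AlgSt.subIncl 𝒳 Q)) ≅ AlgSt.overMap w) := by
  have hobj : ∀ a : (overCat U₀).obj, Q (y.obj a) ↔ ∃ v : a.left ⟶ V, v ≫ w = a.hom := fun a => hw a.left a.hom
  let z : overCat V ⥤ᵇ 𝒳 := BasedFunctor.comp (AlgSt.overMap w) y
  have hz : ∀ a, Q (z.obj a) := fun a => (hobj _).2 ⟨a.hom, rfl⟩
  let L : overCat V ⥤ᵇ AlgSt.fullSub 𝒳 Q :=
    { toFunctor := ObjectProperty.lift _ z.toFunctor hz
      w := z.w }
  let G : overCat V ⥤ᵇ fp y (AlgSt.subIncl 𝒳 Q) :=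
    fpLift (F := y) (G := AlgSt.subIncl 𝒳 Q) (AlgSt.overMap w) L (Iso.refl z)
  refine ⟨G, EqvData.isEquivOver ⟨⟨fun {a b} m => ?_⟩, ⟨fun {a b} f g hfg => ?_⟩, fun η => ?_⟩, ⟨Iso.refl _⟩⟩
  · have hw' : m.hom.fst.left ≫ b.hom ≫ w = a.hom ≫ w := Over.w m.hom.fst
    let f : a ⟶ b := Over.homMk m.hom.fst.left ((cancel_mono w).1 (by rw [Category.assoc]; exact hw'))
    have hf : (AlgSt.overMap w).map f = m.hom.fst := Over.OverMorphism.ext rfl
    refine ⟨f, fp_hom_ext hf (ObjectProperty.hom_ext _ ?_)⟩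
    have w' := m.hom.w
    change y.map ((AlgSt.overMap w).map f) = m.hom.snd.hom
    rw [hf]
    exact (Category.comp_id _).symm.trans (w'.trans (Category.id_comp _))
  · exact Over.OverMorphism.ext (congrArg (fun m => m.hom.fst.left) hfg)
  · let a := η.obj.fst
    obtain ⟨v, hv⟩ := (hobj a).1 (hQ η.obj.iso.hom η.obj.snd.property)
    let i : (AlgSt.overMap w).obj (Over.mk v) ≅ a := Over.isoMk (Iso.refl _) (by
      show 𝟙 _ ≫ a.hom = v ≫ w
      rw [Category.id_comp, hv])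
    let j : L.obj (Over.mk v) ≅ η.obj.snd :=
      (ObjectProperty.ι Q).preimageIso (y.toFunctor.mapIso i ≪≫ η.obj.iso)
    let e : G.obj (Over.mk v) ≅ η := fpIsoMk i j (by
      show y.map i.hom ≫ η.obj.iso.hom = 𝟙 _ ≫ (ObjectProperty.ι Q).map j.hom
      exact ((Category.id_comp _).trans ((ObjectProperty.ι Q).map_preimage
        (X := L.obj (Over.mk v)) (Y := η.obj.snd) (y.toFunctor.mapIso i ≪≫ η.obj.iso).hom)).symm)
    exact ⟨Over.mk v, e, (vert_iff (fp y (AlgSt.subIncl 𝒳 Q)).p _).2 ⟨rfl, rfl, rfl⟩⟩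

include h hQ in
/-- A full substack cut out on every chart by closed subschemes has closed immersion inclusion. -/
theorem isClosedImm_subIncl
    (hm : ∀ (U₀ : Over S) (y : overCat U₀ ⥤ᵇ 𝒳), ∃ (V : Over S) (w : V ⟶ U₀), IsClosedImmersion w.left ∧
      ∀ (T : Over S) (a : T ⟶ U₀), Q (y.obj (Over.mk a)) ↔ ∃ v : T ⟶ V, v ≫ w = a) :
    AlgSt.IsClosedImm (AlgSt.subIncl 𝒳 Q) := fun U₀ y => by
  obtain ⟨V, w, hc, hw⟩ := hm U₀ y
  have : Mono w := (Over.forget S).mono_of_mono_map (inferInstanceAs (Mono w.left))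
  obtain ⟨G, hG, ⟨i⟩⟩ := exists_equiv h hQ y w hw
  refine ⟨⟨_, AlgSp.IsAlgSpace.yon_obj V⟩, BasedFunctor.comp (AlgSt.toOverCat V) G,
    isEquivOver_comp (isEquivOver_toOverCat V) hG, ?_⟩
  rw [spMapOfOver_congr (Φ := BasedFunctor.comp (BasedFunctor.comp (AlgSt.toOverCat V) G) (fpFst y (AlgSt.subIncl 𝒳 Q)))
    (Ψ := BasedFunctor.comp (AlgSt.toOverCat V) (AlgSt.overMap w))
    ((Stk.restr (AlgSt.toOverCat V) _).map i.hom), spMapOfOver_overMap, spMapOfOver_toOverCat, Category.id_comp]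
  exact (AlgSp.repWith_yon_map_iff @IsClosedImmersion w).2 hc

end Model

end Groth.Agent.Stk19b.SubModel
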